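import Cfsg.Agent.EqLemmas
import Cfsg.Prelude.Def_Involutions
import Mathlib.GroupTheory.Sylow
import Mathlib.GroupTheory.Subgroup.Simple

/-!
# Three involutions: the exported statement (owner: helper38)

* `Setting` : a Sylow 2-subgroup with exactly three involutions, all central, not abelian
* `ThreeInvTarget` : a simple group with such a Sylow 2-subgroup has a strongly embedded subgroup
  (proof: `../THREE_INVOLUTIONS_PROOF.md`; the induction on the order is inside, no further hypothesis)
-/

set_option autoImplicit false

namespace Cfsg.Agent.Goldschmidt.ThreeInv

open Subgroup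

universe u

/-- A non-abelian Sylow 2-subgroup whose elements squaring to one form a central four-group. -/
structure Setting {G : Type u} [Group G] (S : Sylow 2 G) (A : Subgroup G) : Prop where
  card : Nat.card ↥A = 4
  le : A ≤ (S : Subgroup G)
  mem : ∀ x ∈ (S : Subgroup G), x * x = 1 ↔ x ∈ A
  central : (S : Subgroup G) ≤ centralizer (A : Set G)
  nonab : ¬ IsMulCommutative ↥(S : Subgroup G)

/-- A simple group with three involutions in a non-abelian Sylow 2-subgroup, all of them central, has a
strongly embedded subgroup. -/
def ThreeInvTarget : Prop :=
  ∀ (G : Type u) [Group G] [Finite G] [IsSimpleGroup G] (S : Sylow 2 G) (A : Subgroup G),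
    Setting S A → ∃ H : Subgroup G, Cfsg.IsStronglyEmbedded H

end Cfsg.Agent.Goldschmidt.ThreeInv
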