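import Cfsg.Agent.Lib.Goldschmidt.ThreeInv.Statement
import Cfsg.Prelude.Def_Solvable

/-!
# Three involutions: interfaces of sections 1 and 2 (owner: helper63, from helper29)

Proofs in `../THREE_INVOLUTIONS_PROOF.md` (section 3: `../THREE_INVOLUTIONS_SECTION3.md`); the case `C(a) = O S` is `FOne.eq_bot`, so `C(a) = O (S F)`, `|F| = 5`.

* `Smaller G`     : the induction hypothesis
* `Hyp S A`       : a counterexample
* `TorusData`     : section 1, `C(a) = T a ⋊ C(A)`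
* `TorusCent`     : section 2, centralisers of elements of `T a` and of `O(C(A))`
* `PrimesTarget`, `CentralisersTarget`
-/

set_option autoImplicit false
set_option linter.unusedSectionVars false

namespace Cfsg.Agent.Goldschmidt.ThreeInv

open Cfsg Subgroup

universe u

/-- The theorem holds below the order of `G`. -/
def Smaller (G : Type u) [Group G] : Prop :=
  ∀ (L : Type u) [Group L] [Finite L] [IsSimpleGroup L], Nat.card L < Nat.card G →
    ∀ (S : Sylow 2 L) (A : Subgroup L), Setting S A → ∃ H : Subgroup L, Cfsg.IsStronglyEmbedded H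

variable {G : Type u} [Group G]

/-- A counterexample of minimal order. -/
structure Hyp (S : Sylow 2 G) (A : Subgroup G) : Prop where
  simple : IsSimpleGroup G
  setting : Setting S A
  smaller : Smaller G
  not_se : ¬ ∃ H : Subgroup G, Cfsg.IsStronglyEmbedded H

/-- The odd core of `C(A)`. -/
noncomputable abbrev coreA (A : Subgroup G) : Subgroup G :=
  (Cfsg.pPrimeCore 2 ↥(centralizer (A : Set G))).map (centralizer (A : Set G)).subtype

/-- Section 1: the parts `T a = [O(C(a)), b]`. -/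
structure TorusData (S : Sylow 2 G) (A : Subgroup G) (T : G → Subgroup G) : Prop where
  le : ∀ a ∈ A, a ≠ 1 → T a ≤ centralizer ({a} : Set G)
  normal : ∀ a ∈ A, a ≠ 1 → centralizer ({a} : Set G) ≤ normalizer (T a : Set G)
  ne : ∀ a ∈ A, a ≠ 1 → T a ≠ ⊥
  odd : ∀ a ∈ A, a ≠ 1 → Odd (Nat.card ↥(T a))
  comm : ∀ a ∈ A, a ≠ 1 → IsMulCommutative ↥(T a)
  inverts : ∀ a ∈ A, a ≠ 1 → ∀ b ∈ A, b ≠ 1 → b ≠ a → ∀ t ∈ T a, b * t * b⁻¹ = t⁻¹
  gen : ∀ a ∈ A, a ≠ 1 → centralizer ({a} : Set G) ≤ T a ⊔ centralizer (A : Set G)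
  coprime : ∀ a ∈ A, a ≠ 1 → Nat.Coprime (Nat.card ↥(T a)) (Nat.card ↥(coreA A))
  equiv : ∀ n ∈ normalizer (A : Set G), ∀ a ∈ A, a ≠ 1 → ∀ t ∈ T a, n * t * n⁻¹ ∈ T (n * a * n⁻¹)
  types : ∀ (p : ℕ) (P : Subgroup G), p.Prime → p ≠ 2 → IsPGroup p ↥P →
    (S : Subgroup G) ≤ normalizer (P : Set G) →
    P ≤ centralizer (A : Set G) ∨ ∃ a ∈ A, a ≠ 1 ∧ P ≤ T a

/-- Section 2: the centralisers. -/
structure TorusCent (S : Sylow 2 G) (A : Subgroup G) (T : G → Subgroup G) : Prop where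
  maximal : ∀ a ∈ A, a ≠ 1 → ∀ M : Subgroup G, M ≠ ⊤ → centralizer ({a} : Set G) ≤ M →
    M = centralizer ({a} : Set G)
  cent : ∀ a ∈ A, a ≠ 1 → ∀ t ∈ T a, t ≠ 1 → centralizer ({t} : Set G) ≤ centralizer ({a} : Set G)
  fixer : ∀ y ∈ coreA A, y ≠ 1 → ∀ a ∈ A, a ≠ 1 → ∀ t ∈ T a, t ≠ 1 → t * y = y * t →
    centralizer ({y} : Set G) ≤ centralizer ({a} : Set G)
  core_cent : coreA A ≤ centralizer ((S : Subgroup G) : Set G)
  bound : ∀ a ∈ A, a ≠ 1 → ∃ k : ℕ, 3 ≤ k ∧ Nat.card ↥(T a) = k ^ 4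

/-- Section 1 of the proof (every prime is of type (ii) or (iii)). -/
def PrimesTarget : Prop :=
  ∀ (G : Type u) [Group G] [Finite G] (S : Sylow 2 G) (A : Subgroup G), Hyp S A →
    ∃ T : G → Subgroup G, TorusData S A T

/-- Section 2 of the proof. -/
def CentralisersTarget : Prop :=
  ∀ (G : Type u) [Group G] [Finite G] (S : Sylow 2 G) (A : Subgroup G) (T : G → Subgroup G),
    Hyp S A → TorusData S A T → TorusCent S A T

end Cfsg.Agent.Goldschmidt.ThreeInv
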