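import Cfsg.Agent.EqLemmas
import Cfsg.Agent.Lib.Goldschmidt.ThreeInv.Targets

/-!
# Three involutions: section 3 interface and assembly (owner: helper63)

* `CharsTarget` : section 3, the characters exclude the configuration of sections 1 and 2
* `threeInvTarget_of` : the theorem from the three sections, by induction on the order
-/

set_option autoImplicit false

namespace Cfsg.Agent.Goldschmidt.ThreeInv

open Cfsg Subgroup

universe u

/-- Section 3 (and the case `C(a) = O S`, which is `FOne.eq_bot`). -/
def CharsTarget : Prop :=
  ∀ (G : Type u) [Group G] [Finite G] (S : Sylow 2 G) (A : Subgroup G) (T : G → Subgroup G),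
    Hyp S A → TorusData S A T → TorusCent S A T → False

/-- The three involution theorem from its sections. -/
theorem threeInvTarget_of (h1 : PrimesTarget.{u}) (h2 : CentralisersTarget.{u})
    (h3 : CharsTarget.{u}) : ThreeInvTarget.{u} := by
  suffices H : ∀ (n : ℕ) (G : Type u) [Group G] [Finite G] [IsSimpleGroup G] (S : Sylow 2 G)
      (A : Subgroup G), Nat.card G = n → Setting S A → ∃ H : Subgroup G, Cfsg.IsStronglyEmbedded H from
    fun G _ _ _ S A h => H _ G S A rfl h
  intro n
  induction n using Nat.strong_induction_on with
  | _ n ih =>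
    intro G _ _ hs S A hn h
    by_contra hse
    have hyp : Hyp S A :=
      ⟨hs, h, fun L _ _ _ hL S' A' h' => ih _ (hn ▸ hL) L S' A' rfl h', hse⟩
    obtain ⟨T, hT⟩ := h1 G S A hyp
    exact h3 G S A T hyp hT (h2 G S A T hyp hT)

end Cfsg.Agent.Goldschmidt.ThreeInv
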