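import Cfsg.Agent.Lib.Goldschmidt.ThreeInv.FOneBasic
import Cfsg.Agent.Lib.SelfCentThree.Chars
import Cfsg.Agent.Lib.Blocks.Induced
import Mathlib.Tactic.LinearCombination
import Mathlib.Tactic.Linarith

/-!
# Three involutions, `C(a) = O S` : `O` is trivial (owner: helper38)

* `false_of_bounds` : the numerical contradiction
* `FOne.eq_bot` : in a simple group `O = 1`, so `C(a) = S`
-/

set_option autoImplicit false
set_option linter.unusedSectionVars false

open scoped ComplexConjugate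

namespace Cfsg.Agent.Goldschmidt.ThreeInv

open Cfsg Blocks SecondMain

/-- One term of the zero equation: if `-12 W ≤ K` it is at most `4 K u² / (256 + K)`. -/
theorem term_le {u W D N K : ℤ} (hK : 0 ≤ K) (h1 : |u| ≤ D) (h2 : 0 ≤ D + 3 * u + 12 * W)
    (h3 : D + 64 ≤ N) (hW : -12 * W ≤ K) :
    -12 * ((u : ℝ) ^ 2 * W / N) ≤ (u : ℝ) ^ 2 * (4 * K / (256 + K)) := by
  obtain ⟨hl, hr⟩ := abs_le.1 h1
  have a1 : (0 : ℝ) ≤ D := by exact_mod_cast (show (0 : ℤ) ≤ D by omega)
  have a2 : (0 : ℝ) ≤ (D : ℝ) + 3 * u + 12 * W := by exact_mod_cast h2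
  have a3 : (u : ℝ) ≤ D := by exact_mod_cast hr
  have a4 : (D : ℝ) + 64 ≤ N := by exact_mod_cast h3
  have a5 : -12 * (W : ℝ) ≤ K := by exact_mod_cast hW
  have a6 : (0 : ℝ) ≤ K := by exact_mod_cast hK
  rw [show -12 * ((u : ℝ) ^ 2 * W / N) = (u : ℝ) ^ 2 * (-12 * W / N) by ring]
  refine mul_le_mul_of_nonneg_left ?_ (sq_nonneg _)
  rw [div_le_div_iff₀ (by linarith) (by linarith)]
  nlinarith

/-- The equations `∑ u² = 63`, `∑ W² = 55` and `∑ u² W / N = -5` are incompatible with the bounds. -/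
theorem false_of_bounds {ι : Type*} [DecidableEq ι] (P : Finset ι) (u W D N : ι → ℤ)
    (hb : ∀ i ∈ P, |u i| ≤ D i ∧ 0 ≤ D i + 3 * u i + 12 * W i ∧ D i + 64 ≤ N i)
    (hu : ∑ i ∈ P, u i ^ 2 = 63) (hW : ∑ i ∈ P, W i ^ 2 = 55)
    (hz : ∑ i ∈ P, (u i : ℝ) ^ 2 * W i / N i = -5) : False := by
  have hu' : ∑ i ∈ P, (u i : ℝ) ^ 2 = 63 := by exact_mod_cast hu
  have hz' : ∑ i ∈ P, -12 * ((u i : ℝ) ^ 2 * W i / N i) = 60 := by
    rw [← Finset.mul_sum, hz]; norm_num
  by_cases hall : ∀ i ∈ P, |W i| ≤ 6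
  · have : (60 : ℝ) ≤ 63 * (4 * 72 / (256 + 72)) := by
      rw [← hz', ← hu', Finset.sum_mul]
      refine Finset.sum_le_sum fun i hi => ?_
      have := abs_le.1 (hall i hi)
      obtain ⟨h1, h2, h3⟩ := hb i hi
      have := term_le (K := 72) (by norm_num) h1 h2 h3 (by omega)
      push_cast at this ⊢
      exact this
    norm_num at this
  push Not at hall
  obtain ⟨j, hj, hj7⟩ := hall
  have hsplit := Finset.add_sum_erase P (fun i => W i ^ 2) hj
  have husplit := Finset.add_sum_erase P (fun i => u i ^ 2) hj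
  simp only [hW, hu] at hsplit husplit
  have hrest : ∀ i ∈ P.erase j, W i ^ 2 ≤ ∑ k ∈ P.erase j, W k ^ 2 := fun i hi =>
    Finset.single_le_sum (f := fun k => W k ^ 2) (fun k _ => sq_nonneg _) hi
  have hrest0 : 0 ≤ ∑ k ∈ P.erase j, W k ^ 2 := Finset.sum_nonneg fun k _ => sq_nonneg _
  have hWj : |W j| ≤ 7 := by nlinarith [abs_nonneg (W j), sq_abs (W j)]
  have hWj2 : 49 ≤ W j ^ 2 := by nlinarith [abs_nonneg (W j), sq_abs (W j)]
  have huj : u j ^ 2 ≤ 49 := by
    have h0 : 0 ≤ ∑ k ∈ P.erase j, u k ^ 2 := Finset.sum_nonneg fun k _ => sq_nonneg _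
    have h64 : |u j| ≤ 7 := by nlinarith [abs_nonneg (u j), sq_abs (u j)]
    nlinarith [abs_nonneg (u j), sq_abs (u j)]
  have hsmall : ∀ i ∈ P.erase j, |W i| ≤ 2 := fun i hi => by
    nlinarith [hrest i hi, abs_nonneg (W i), sq_abs (W i)]
  have hrestu : ∑ i ∈ P.erase j, (u i : ℝ) ^ 2 = 63 - (u j : ℝ) ^ 2 := by
    rw [← hu', ← Finset.add_sum_erase P (fun i => (u i : ℝ) ^ 2) hj]; ring
  have hbound : (60 : ℝ) ≤ (u j : ℝ) ^ 2 * (4 * 84 / (256 + 84)) +
      (63 - (u j : ℝ) ^ 2) * (4 * 24 / (256 + 24)) := by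
    rw [← hz', ← hrestu, ← Finset.add_sum_erase P _ hj, Finset.sum_mul]
    refine add_le_add ?_ (Finset.sum_le_sum fun i hi => ?_)
    · have := abs_le.1 hWj
      obtain ⟨h1, h2, h3⟩ := hb j hj
      have := term_le (K := 84) (by norm_num) h1 h2 h3 (by omega)
      push_cast at this ⊢
      exact this
    · have := abs_le.1 (hsmall i hi)
      obtain ⟨h1, h2, h3⟩ := hb i (Finset.mem_of_mem_erase hi)
      have := term_le (K := 24) (by norm_num) h1 h2 h3 (by omega)
      push_cast at this ⊢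
      exact this
  have huj' : (u j : ℝ) ^ 2 ≤ 49 := by exact_mod_cast huj
  norm_num at hbound
  nlinarith

universe u

variable {G : Type u} [Group G] [Finite G] {S : Sylow 2 G} {a : G} {O : Subgroup G} {M : Ideal AlgInt}

namespace FOne

open scoped Classical in
/-- The sum over the roots of `a`. -/
noncomputable def rootSum (S : Sylow 2 G) (a : G) (f : G → ℂ) : ℂ :=
  ∑ᶠ s ∈ {s : ↥(S : Subgroup G) | (s : G) * s = a}, f s

open scoped Classical in
theorem rootSum_eq [Fintype ↥(S : Subgroup G)] (f : G → ℂ) :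
    rootSum S a f = ∑ s ∈ Finset.univ.filter (fun s : ↥(S : Subgroup G) => (s : G) * s = a), f s := by
  rw [rootSum, finsum_mem_eq_toFinset_sum]
  exact Finset.sum_congr (by ext; simp) fun _ _ => rfl

theorem exists_int_root (h : FOne S a O) (χ : IrrCharacter G) {s : G} (hs : s ∈ (S : Subgroup G))
    (e : s * s = a) : ∃ v : ℤ, (χ : G → ℂ) s = v := by
  refine exists_int_of_pow_four (Char.IsIrrCharacter.isCharacter χ.2) ?_ (ClassCount.class_apply (irr_class χ) (h.isConj_inv_root hs e))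
  rw [show 4 = 2 * 2 from rfl, pow_mul, pow_two s, e, pow_two, h.sq]

theorem exists_rootSum (h : FOne S a O) (χ : IrrCharacter G) :
    ∃ W : ℤ, rootSum S a (χ : G → ℂ) = 4 * (W : ℂ) := by
  classical
  have := Fintype.ofFinite ↥(S : Subgroup G)
  set R := Finset.univ.filter (fun s : ↥(S : Subgroup G) => (s : G) * s = a) with hR
  have hmem : ∀ s, s ∈ R ↔ (s : G) * s = a := by simp [hR]
  choose! v hv using fun (s : ↥(S : Subgroup G)) (e : (s : G) * s = a) => h.exists_int_root χ s.2 e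
  have hd : (4 : ℤ) ∣ ∑ s ∈ R, v s := by
    rw [← Finset.sum_fiberwise_of_maps_to (t := R.image (ConjClasses.mk (α := ↥(S : Subgroup G))))
      (g := ConjClasses.mk) (fun x hx => Finset.mem_image_of_mem _ hx)]
    refine Finset.dvd_sum fun C hC => ?_
    obtain ⟨s, hs, rfl⟩ := Finset.mem_image.1 hC
    have hsa := (hmem s).1 hs
    have hf : ∀ t, IsConj s t → (t : G) * t = a ∧ v t = v s := fun t ht => by
      obtain ⟨c, rfl⟩ := isConj_iff.1 ht
      have e1 : ((c * s * c⁻¹ : ↥(S : Subgroup G)) : G) * (c * s * c⁻¹ : ↥(S : Subgroup G)) = a := by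
        simp only [Subgroup.coe_mul, Subgroup.coe_inv]
        calc (c : G) * s * (c : G)⁻¹ * ((c : G) * s * (c : G)⁻¹) = c * ((s : G) * s) * (c : G)⁻¹ := by group
          _ = a := by rw [hsa, ← (h.central a h.mem h.sq _ c.2).eq, mul_inv_cancel_right]
      refine ⟨e1, Int.cast_injective (α := ℂ) ?_⟩
      rw [← hv _ e1, ← hv s hsa]
      simp only [Subgroup.coe_mul, Subgroup.coe_inv]
      exact irr_class χ (s : G) (c : G)
    have hset : R.filter (fun t => ConjClasses.mk t = ConjClasses.mk s) =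
        Finset.univ.filter fun t => IsConj s t := by
      ext t
      simp only [Finset.mem_filter, hmem, ConjClasses.mk_eq_mk_iff_isConj, Finset.mem_univ, true_and]
      exact ⟨fun ht => ht.2.symm, fun ht => ⟨(hf t ht).1, ht.symm⟩⟩
    rw [hset, Finset.sum_congr rfl fun t ht => (hf t (Finset.mem_filter.1 ht).2).2, Finset.sum_const,
      ← Fintype.card_subtype, ← Nat.card_eq_fintype_card, h.class_roots s hsa, nsmul_eq_mul]
    exact Dvd.intro _ rfl
  obtain ⟨W, hW⟩ := hd
  refine ⟨W, ?_⟩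
  rw [rootSum_eq, Finset.sum_congr rfl fun s hs => hv s ((hmem s).1 hs), ← Int.cast_sum, hW]
  push_cast; rfl

open scoped Classical in
theorem sum_S (h : FOne S a O) [Fintype ↥(S : Subgroup G)] (χ : IrrCharacter G) :
    ∑ s : ↥(S : Subgroup G), (χ : G → ℂ) s =
      (χ : G → ℂ) 1 + 3 * (χ : G → ℂ) a + 3 * rootSum S a (χ : G → ℂ) := by
  set I := Finset.univ.filter fun s : ↥(S : Subgroup G) => (s : G) * s = 1 ∧ s ≠ 1
  have hI : I.card = 3 := by
    have e := h.card_invol
    rw [Nat.card_eq_fintype_card, Fintype.card_subtype] at e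
    have : I = (Finset.univ.filter fun s : ↥(S : Subgroup G) => (s : G) * s = 1).erase 1 := by
      ext s; simp [I, and_comm]
    rw [this, Finset.card_erase_of_mem (by simp), e]
  rw [← Finset.sum_filter_add_sum_filter_not Finset.univ (fun s : ↥(S : Subgroup G) => (s : G) * s = 1)]
  have h1 : ∑ s ∈ Finset.univ.filter (fun s : ↥(S : Subgroup G) => (s : G) * s = 1), (χ : G → ℂ) s =
      (χ : G → ℂ) 1 + 3 * (χ : G → ℂ) a := by
    rw [← Finset.add_sum_erase _ _ (show (1 : ↥(S : Subgroup G)) ∈ _ by simp)]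
    refine congrArg₂ (· + ·) rfl ?_
    rw [Finset.sum_congr rfl (g := fun _ => (χ : G → ℂ) a) fun s hs => ?_, Finset.sum_const]
    · rw [show (Finset.univ.filter fun s : ↥(S : Subgroup G) => (s : G) * s = 1).erase 1 = I by
        ext s; simp [I, and_comm], hI]
      simp
    · obtain ⟨hne, hs⟩ := Finset.mem_erase.1 hs
      obtain ⟨g, -, hg⟩ := h.fused s s.2 (Finset.mem_filter.1 hs).2 fun e => hne (Subtype.ext e)
      rw [← hg, irr_class χ]
  rw [h1]
  refine congrArg₂ (· + ·) rfl ?_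
  let sq : ↥(S : Subgroup G) → ↥(S : Subgroup G) := fun s => s * s
  rw [← Finset.sum_fiberwise_of_maps_to (t := I) (g := sq) fun s hs => ?_]
  · rw [Finset.sum_congr rfl (g := fun _ => rootSum S a (χ : G → ℂ)) fun z hz => ?_, Finset.sum_const,
      hI, nsmul_eq_mul]
    · norm_num
    simp only [I, Finset.mem_filter, Finset.mem_univ, true_and] at hz
    obtain ⟨g, hgS, hg⟩ := h.fused z z.2 hz.1 fun e => hz.2 (Subtype.ext e)
    rw [rootSum_eq]
    let φ : ↥(S : Subgroup G) → ↥(S : Subgroup G) := fun s => ⟨g * s * g⁻¹, hgS s s.2⟩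
    have hφ : Function.Bijective φ := Finite.injective_iff_bijective.1 fun s t e => by
      have e' : g * (s : G) * g⁻¹ = g * t * g⁻¹ := congrArg Subtype.val e
      exact Subtype.ext (mul_left_cancel (mul_right_cancel e'))
    refine (Finset.sum_bij (fun s _ => φ s) (fun s hs => ?_) (fun s _ t _ e => hφ.1 e) (fun t ht => ?_)
      fun s _ => (irr_class χ (s : G) g).symm).symm
    · simp only [Finset.mem_filter, Finset.mem_univ, true_and] at hs ⊢
      have e1 : ((φ s * φ s : ↥(S : Subgroup G)) : G) = z := by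
        simp only [φ, Subgroup.coe_mul]
        calc g * s * g⁻¹ * (g * s * g⁻¹) = g * ((s : G) * s) * g⁻¹ := by group
          _ = z := by rw [hs, hg]
      refine ⟨fun e => hz.2 (Subtype.ext ?_), Subtype.ext e1⟩
      rw [← e1, Subgroup.coe_mul]; exact e
    · simp only [Finset.mem_filter, Finset.mem_univ, true_and] at ht
      obtain ⟨s, rfl⟩ := hφ.2 t
      refine ⟨s, ?_, rfl⟩
      simp only [Finset.mem_filter, Finset.mem_univ, true_and]
      have e1 : g * ((s : G) * s) * g⁻¹ = g * a * g⁻¹ := by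
        rw [hg, ← congrArg Subtype.val ht.2]
        simp only [sq, φ, Subgroup.coe_mul]; group
      exact mul_left_cancel (mul_right_cancel e1)
  · simp only [I, sq, Finset.mem_filter, Finset.mem_univ, true_and, Subgroup.coe_mul] at hs ⊢
    exact ⟨h.exp s s.2, fun e => hs (congrArg Subtype.val e)⟩

/-- The fixed spaces of `S`, `O`, `O S` give the bounds of `false_of_bounds`. -/
theorem exists_bounds (h : FOne S a O) [IsSimpleGroup G] (hM : IsPModular 2 M) (hne : O ≠ ⊥)
    {χ : IrrCharacter G} (hχ : χ ∈ principalBlock M G) (h1 : (χ : G → ℂ) ≠ fun _ => 1) {u W : ℤ}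
    (hu : (χ : G → ℂ) a = u) (hW : rootSum S a (χ : G → ℂ) = 4 * (W : ℂ)) :
    ∃ D : ℤ, |u| ≤ D ∧ 0 ≤ D + 3 * u + 12 * W ∧ D + 64 ≤ (charDegree (χ : G → ℂ) : ℤ) := by
  classical
  have := Fintype.ofFinite ↥(S : Subgroup G)
  have := Fintype.ofFinite O
  have := Fintype.ofFinite ↥(Subgroup.centralizer ({a} : Set G))
  have hc := (Char.IsIrrCharacter.isCharacter χ.2)
  have hO : (Nat.card O : ℂ) ≠ 0 := Nat.cast_ne_zero.2 Nat.card_pos.ne'
  set N := charDegree (χ : G → ℂ)
  have hN : (χ : G → ℂ) 1 = N := ClassCount.apply_one_eq_charDegree χ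
  obtain ⟨D, hD⟩ := ClassCount.exists_sum_subgroup_eq O hc
  obtain ⟨mS, hmS⟩ := ClassCount.exists_sum_subgroup_eq (S : Subgroup G) hc
  obtain ⟨mC, hmC⟩ := ClassCount.exists_sum_subgroup_eq (Subgroup.centralizer ({a} : Set G)) hc
  rw [h.sum_S χ, hu, hW, hN, h.card_S] at hmS
  have eS : (N : ℤ) + 3 * u + 12 * W = 64 * mS := Int.cast_injective (α := ℂ) (by
    push_cast at hmS ⊢; linear_combination hmS)
  have eC : (D : ℤ) + 3 * u + 12 * W = 64 * mC := by
    have hbij : Function.Bijective (fun q : O × ↥(S : Subgroup G) =>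
        (⟨(q.1 : G) * q.2, Subgroup.mul_mem _ (h.le_C q.1.2) (h.S_le q.2.2)⟩ :
          ↥(Subgroup.centralizer ({a} : Set G)))) := by
      constructor
      · intro q q' e
        have e' : (q.1 : G) * q.2 = q'.1 * q'.2 := congrArg Subtype.val e
        have es := h.factor_unique q.1.2 q'.1.2 q.2.2 q'.2.2 e'
        rw [es] at e'
        exact Prod.ext (Subtype.ext (mul_right_cancel e')) (Subtype.ext es)
      · intro g
        obtain ⟨ρ, hρ, e⟩ := h.proj_spec g
        exact ⟨(⟨ρ, hρ⟩, h.proj g), Subtype.ext e.symm⟩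
    rw [← Equiv.sum_comp (Equiv.ofBijective _ hbij), ← Nat.card_eq_of_bijective _ hbij, Nat.card_prod,
      h.card_S, Fintype.sum_prod_type, Finset.sum_comm] at hmC
    simp only [Equiv.ofBijective_apply] at hmC
    rw [← Finset.add_sum_erase _ _ (Finset.mem_univ (1 : ↥(S : Subgroup G)))] at hmC
    simp only [Subgroup.coe_one, mul_one] at hmC
    rw [hD, Finset.sum_congr rfl (g := fun s : ↥(S : Subgroup G) => (Nat.card O : ℂ) * (χ : G → ℂ) s)
      fun s hs => ?_, ← Finset.mul_sum] at hmC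
    · have e := Finset.add_sum_erase Finset.univ (fun s : ↥(S : Subgroup G) => (χ : G → ℂ) s)
        (Finset.mem_univ 1)
      simp only [Subgroup.coe_one] at e
      rw [h.sum_S χ, hu, hW] at e
      refine Int.cast_injective (α := ℂ) ?_
      push_cast at hmC ⊢
      refine mul_left_cancel₀ hO ?_
      linear_combination hmC - (Nat.card O : ℂ) * e
    · have hne' : (s : G) ≠ 1 := fun e => (Finset.mem_erase.1 hs).1 (Subtype.ext e)
      rw [Finset.sum_congr rfl (g := fun _ => (χ : G → ℂ) s) fun ρ _ => ?_, Finset.sum_const,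
        Finset.card_univ, nsmul_eq_mul, Nat.card_eq_fintype_card]
      rw [← h.apply_shift hM hχ s.2 hne' ρ.2, show (s : G) * ρ = s * ((ρ : G) * s) * (s : G)⁻¹ by group,
        irr_class χ]
  obtain ⟨m, k, hm, hk⟩ := exists_trace_add_sub hc h.sq fun ρ hρ => h.commute_of_mem hρ (O := O)
  rw [hD, Finset.sum_congr rfl fun (ρ : O) _ => h.apply_shift hM hχ h.mem h.ne ρ.2, Finset.sum_const,
    Finset.card_univ, nsmul_eq_mul, ← Nat.card_eq_fintype_card, hu] at hm hk
  have em : (D : ℤ) + u = 2 * m := Int.cast_injective (α := ℂ) (by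
    push_cast; exact mul_left_cancel₀ hO (by linear_combination hm))
  have ek : (D : ℤ) - u = 2 * k := Int.cast_injective (α := ℂ) (by
    push_cast; exact mul_left_cancel₀ hO (by linear_combination hk))
  have hlt : D < N := by
    obtain ⟨c, hc1, hc2⟩ := exists_apply_ne_one h1 hne
    have hle : ∀ g : G, ((χ : G → ℂ) g).re ≤ (N : ℝ) := fun g => by
      have := (Complex.re_le_norm _).trans (Char.IsCharacter.norm_le hc g)
      rwa [hN, Complex.natCast_re] at this
    have hs : ∑ ρ : O, ((χ : G → ℂ) ρ).re < ∑ _ρ : O, (N : ℝ) := by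
      refine Finset.sum_lt_sum (fun ρ _ => hle ρ) ⟨⟨c, hc1⟩, Finset.mem_univ _, ?_⟩
      refine lt_of_le_of_ne (hle c) fun e => hc2 ?_
      have hn := Char.IsCharacter.norm_le hc c
      rw [hN, Complex.natCast_re] at hn
      have him : ((χ : G → ℂ) c).im = 0 := by
        have h2 : Complex.normSq ((χ : G → ℂ) c) ≤ (N : ℝ) * N := by
          rw [Complex.normSq_eq_norm_sq]; nlinarith [norm_nonneg ((χ : G → ℂ) c)]
        rw [Complex.normSq_apply, e] at h2
        nlinarith [mul_self_nonneg ((χ : G → ℂ) c).im]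
      rw [hN]
      exact Complex.ext (by rw [e, Complex.natCast_re]) (by rw [him, Complex.natCast_im])
    rw [← Complex.re_sum, hD, Finset.sum_const, Finset.card_univ, nsmul_eq_mul,
      ← Nat.card_eq_fintype_card, Complex.mul_re, Complex.natCast_re, Complex.natCast_im,
      Complex.natCast_re, Complex.natCast_im, mul_zero, sub_zero] at hs
    exact_mod_cast lt_of_mul_lt_mul_left hs (Nat.cast_nonneg _)
  exact ⟨D, abs_le.2 ⟨by omega, by omega⟩, by omega, by omega⟩

theorem sum_rootSum_sq (h : FOne S a O) (hM : IsPModular 2 M) :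
    ∑ᶠ χ ∈ principalBlock M G, rootSum S a (χ : G → ℂ) * conj (rootSum S a (χ : G → ℂ)) = 1280 := by
  classical
  have := Fintype.ofFinite ↥(S : Subgroup G)
  have := Fintype.ofFinite (IrrCharacter G)
  simp only [finsum_mem_eq_toFinset_sum, rootSum_eq, map_sum, Finset.sum_mul_sum]
  rw [Finset.sum_comm, Finset.sum_congr rfl (g := fun _ => (64 : ℂ)) fun s hs => ?_, Finset.sum_const,
    nsmul_eq_mul, ← Fintype.card_subtype, ← Nat.card_eq_fintype_card, h.card_roots]
  · norm_num
  have hsa := (Finset.mem_filter.1 hs).2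
  rw [Finset.sum_comm, Finset.sum_congr rfl (g := fun t => if IsConj s t then (16 : ℂ) else 0) fun t ht => ?_]
  · rw [← Finset.sum_filter, Finset.sum_const, nsmul_eq_mul, Finset.filter_filter]
    rw [Finset.filter_congr (q := fun t => IsConj s t) fun t _ => ?_, ← Fintype.card_subtype,
      ← Nat.card_eq_fintype_card, h.class_roots s hsa]
    · norm_num
    refine ⟨fun e => e.2, fun e => ⟨?_, e⟩⟩
    obtain ⟨c, rfl⟩ := isConj_iff.1 e
    simp only [Subgroup.coe_mul, Subgroup.coe_inv]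
    calc (c : G) * s * (c : G)⁻¹ * ((c : G) * s * (c : G)⁻¹) = c * ((s : G) * s) * (c : G)⁻¹ := by group
      _ = a := by rw [hsa, ← (h.central a h.mem h.sq _ c.2).eq, mul_inv_cancel_right]
  have e := h.colSum_roots hM hsa (Finset.mem_filter.1 ht).2
  rw [colSum, finsum_mem_eq_toFinset_sum] at e
  exact e

/-- In a simple group the odd part of `C(a)` is trivial. -/
theorem eq_bot (h : FOne S a O) [IsSimpleGroup G] : O = ⊥ := by
  classical
  by_contra hne
  obtain ⟨M, hM⟩ := Cfsg.Agent.Blocks.exists_isPModular Nat.prime_two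
  have := Fintype.ofFinite (IrrCharacter G)
  have := Fintype.ofFinite ↥(S : Subgroup G)
  choose u hu using fun χ : IrrCharacter G =>
    SelfCentThree.exists_int_of_sq (Char.IsIrrCharacter.isCharacter χ.2) (g := a) (by rw [pow_two, h.sq])
  choose W hW using fun χ : IrrCharacter G => h.exists_rootSum χ
  let N : IrrCharacter G → ℤ := fun χ => (charDegree (χ : G → ℂ) : ℤ)
  have hN : ∀ χ : IrrCharacter G, (χ : G → ℂ) 1 = (N χ : ℂ) := fun χ => by
    rw [ClassCount.apply_one_eq_charDegree χ]; simp [N]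
  set B := (principalBlock M G).toFinset
  set one := BrauerPairs.oneIrr G
  have hone : one ∈ B := Set.mem_toFinset.2 (BrauerPairs.oneIrr_mem_principal hM)
  have hu1 : u one = 1 := Int.cast_injective (α := ℂ) (by rw [← hu one]; simp [one, BrauerPairs.oneIrr])
  have hN1 : N one = 1 := Int.cast_injective (α := ℂ) (by rw [← hN one]; simp [one, BrauerPairs.oneIrr])
  have hW1 : W one = 5 := by
    have e := hW one
    rw [rootSum_eq, Finset.sum_congr rfl (g := fun _ => (1 : ℂ)) fun s _ => by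
      simp [one, BrauerPairs.oneIrr], Finset.sum_const, nsmul_eq_mul, ← Fintype.card_subtype,
      ← Nat.card_eq_fintype_card, h.card_roots] at e
    have : ((20 : ℤ) : ℂ) = ((4 * W one : ℤ) : ℂ) := by push_cast at e ⊢; linear_combination e
    have := Int.cast_injective this
    omega
  have su : ∑ χ ∈ B, u χ ^ 2 = 64 := by
    have e := h.colSum_a hM
    rw [colSum, finsum_mem_eq_toFinset_sum] at e
    refine Int.cast_injective (α := ℂ) ?_
    push_cast
    rw [← e]
    exact Finset.sum_congr rfl fun χ _ => by rw [hu, map_intCast, pow_two]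
  have sW : ∑ χ ∈ B, W χ ^ 2 = 80 := by
    have e := h.sum_rootSum_sq hM
    rw [finsum_mem_eq_toFinset_sum] at e
    have e2 : ((16 * ∑ χ ∈ B, W χ ^ 2 : ℤ) : ℂ) = ((1280 : ℤ) : ℂ) := by
      push_cast
      rw [← e, Finset.mul_sum]
      exact Finset.sum_congr rfl fun χ _ => by rw [hW, map_mul, map_intCast, map_ofNat]; ring
    have := Int.cast_injective e2
    omega
  have sz : ∑ χ ∈ B, (u χ : ℝ) ^ 2 * W χ / N χ = 0 := by
    have e : ∑ χ ∈ B, ∑ s ∈ Finset.univ.filter (fun s : ↥(S : Subgroup G) => (s : G) * s = a),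
        (χ : G → ℂ) a ^ 2 / (χ : G → ℂ) 1 * (χ : G → ℂ) s = 0 := by
      rw [Finset.sum_comm]
      refine Finset.sum_eq_zero fun s hs => ?_
      have := h.sum_root_eq_zero hM s.2 (Finset.mem_filter.1 hs).2
      rwa [finsum_mem_eq_toFinset_sum] at this
    simp only [← Finset.mul_sum, ← rootSum_eq, hu, hW, hN] at e
    refine Complex.ofReal_injective ?_
    push_cast
    refine mul_left_cancel₀ (show (4 : ℂ) ≠ 0 by norm_num) ?_
    rw [mul_zero, Finset.mul_sum]
    refine Eq.trans (Finset.sum_congr rfl fun χ _ => ?_) e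
    ring
  set P := B.erase one
  have hP : ∀ χ ∈ P, ∃ D : ℤ, |u χ| ≤ D ∧ 0 ≤ D + 3 * u χ + 12 * W χ ∧ D + 64 ≤ N χ := fun χ hχ => by
    obtain ⟨hχ1, hχB⟩ := Finset.mem_erase.1 hχ
    exact h.exists_bounds hM hne (Set.mem_toFinset.1 hχB) (fun e => hχ1 (Subtype.ext e)) (hu χ) (hW χ)
  choose! D hD using hP
  refine false_of_bounds P u W D N hD ?_ ?_ ?_
  · have := Finset.add_sum_erase B (fun χ => u χ ^ 2) hone
    simp only [hu1, su] at this
    linarith
  · have := Finset.add_sum_erase B (fun χ => W χ ^ 2) hone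
    simp only [hW1, sW] at this
    linarith
  · have := Finset.add_sum_erase B (fun χ => (u χ : ℝ) ^ 2 * W χ / N χ) hone
    simp only [hu1, hW1, hN1, sz] at this
    push_cast at this
    linarith

end FOne

end Cfsg.Agent.Goldschmidt.ThreeInv
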