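import Cfsg.Agent.EqLemmas
import Cfsg.Agent.Lib.GWKlein.Functor
import Cfsg.Agent.Lib.Quadratic.Stable
import Cfsg.Agent.Lib.QdCrit.Stable
import Cfsg.Agent.Lib.Goldschmidt.ThreeInv.Statement
import Mathlib.Tactic.LinearCombination
import Mathlib.Tactic.FieldSimp

/-!
# Three involutions: all sections are `p`-stable, `p` odd (owner: helper63)

Item (Q) of `../THREE_INVOLUTIONS_PROOF.md`.

* `exists_quaternion` : `SL₂(p)` has a quaternion subgroup with an element of order three permuting it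
* `no_sl2_section` : no section `SL₂(p)`
* `pStableSections_threeInv` : all sections are `p`-stable
-/

set_option autoImplicit false
set_option linter.unusedSectionVars false
set_option linter.style.haveILetI false

namespace Cfsg.Agent.Goldschmidt.ThreeInv.Stable

open Subgroup Matrix

universe u

variable {p : ℕ} [Fact p.Prime]

/-- The eight elements `±1, ±i, ±j, ±ij` of a ring with the quaternion relations form a set closed
under products. -/
theorem eight_mul {R : Type*} [Ring R] {i j x y : R} (hi : i * i = -1) (hj : j * j = -1)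
    (hji : j * i = -(i * j))
    (hx : x = 1 ∨ x = -1 ∨ x = i ∨ x = -i ∨ x = j ∨ x = -j ∨ x = i * j ∨ x = -(i * j))
    (hy : y = 1 ∨ y = -1 ∨ y = i ∨ y = -i ∨ y = j ∨ y = -j ∨ y = i * j ∨ y = -(i * j)) :
    x * y = 1 ∨ x * y = -1 ∨ x * y = i ∨ x * y = -i ∨ x * y = j ∨ x * y = -j ∨ x * y = i * j ∨
      x * y = -(i * j) := by
  have h1 : i * (i * j) = -j := by rw [← mul_assoc, hi, neg_one_mul]
  have h2 : (i * j) * j = -i := by rw [mul_assoc, hj, mul_neg_one]
  have h3 : (i * j) * i = j := by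
    rw [mul_assoc, hji, mul_neg, ← mul_assoc, hi, neg_one_mul, neg_neg]
  have h4 : j * (i * j) = i := by
    rw [← mul_assoc, hji, neg_mul, mul_assoc, hj, mul_neg_one, neg_neg]
  have h5 : (i * j) * (i * j) = -1 := by rw [← mul_assoc, h3, hj]
  rcases hx with rfl | rfl | rfl | rfl | rfl | rfl | rfl | rfl <;>
    rcases hy with rfl | rfl | rfl | rfl | rfl | rfl | rfl | rfl <;>
    simp only [one_mul, mul_one, neg_mul, mul_neg, neg_neg, hi, hj, hji, h1, h2, h3, h4, h5,
      true_or, or_true]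

/-- The matrices of the quaternion generators and of the element of order three. -/
theorem matrix_facts {K : Type*} [CommRing K] {a b c : K} (hab : a ^ 2 + b ^ 2 = -1) (hc : c * 2 = 1) :
    let I : Matrix (Fin 2) (Fin 2) K := !![0, 1; -1, 0]
    let J : Matrix (Fin 2) (Fin 2) K := !![a, b; b, -a]
    let W : Matrix (Fin 2) (Fin 2) K := !![c * (-1 + a + b), c * (1 + b - a); c * (-1 + b - a),
      c * (-1 - a - b)]
    I * I = -1 ∧ J * J = -1 ∧ J * I = -(I * J) ∧ W * I = I * J * W ∧ W * J = I * W ∧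
      W * W * W = 1 := by
  intro I J W
  have e2 : W * W = -W - 1 := by
    ext r s
    fin_cases r <;> fin_cases s <;> simp [W, Matrix.mul_apply, Fin.sum_univ_two]
    all_goals first
      | linear_combination (2 * c ^ 2) * hab + (-(c + 1) - (a + b) * c) * hc
      | linear_combination (2 * c ^ 2) * hab + (-(c + 1) + (a + b) * c) * hc
      | linear_combination ((1 + b - a) * (-c)) * hc
      | linear_combination ((-1 + b - a) * (-c)) * hc
  refine ⟨?_, ?_, ?_, ?_, ?_, ?_⟩
  · ext r s; fin_cases r <;> fin_cases s <;> simp [I]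
  · ext r s
    fin_cases r <;> fin_cases s <;> simp [J]
    all_goals first | ring1 | linear_combination hab
  · ext r s; fin_cases r <;> fin_cases s <;> simp [I, J]
  · ext r s
    fin_cases r <;> fin_cases s <;> simp [I, J, W, Matrix.mul_apply, Fin.sum_univ_two]
    all_goals first
      | ring1
      | linear_combination c * hab
      | linear_combination (-c) * hab
  · ext r s
    fin_cases r <;> fin_cases s <;> simp [I, J, W, Matrix.mul_apply, Fin.sum_univ_two]
    all_goals first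
      | ring1
      | linear_combination c * hab
      | linear_combination (-c) * hab
  · rw [e2, sub_mul, neg_mul, e2, one_mul]; abel

/-- A quaternion subgroup of `SL₂(p)` and an element of order three permuting it, moving `i` away
from `±i`. -/
theorem exists_quaternion (hp : p ≠ 2) :
    ∃ (Q : Subgroup (PSL2.SL2 (ZMod p))) (i j w : PSL2.SL2 (ZMod p)), IsPGroup 2 Q ∧ i ∈ Q ∧ j ∈ Q ∧
      i * i = -1 ∧ j * j = -1 ∧ i * j * (i * j) = -1 ∧ w ^ 3 = 1 ∧ (∀ r ∈ Q, w * r * w⁻¹ ∈ Q) ∧
      (∀ r ∈ Q, r * i * r⁻¹ = i ∨ r * i * r⁻¹ = -i) ∧ w * i * w⁻¹ ≠ i ∧ w * i * w⁻¹ ≠ -i := by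
  obtain ⟨a, b, hab⟩ := ZMod.sq_add_sq p (-1)
  have h2 : (2 : ZMod p) ≠ 0 := fun h => by
    have h' : ((2 : ℕ) : ZMod p) = 0 := by exact_mod_cast h
    exact hp ((Nat.prime_dvd_prime_iff_eq (Fact.out) Nat.prime_two).1
      ((ZMod.natCast_eq_zero_iff 2 p).1 h'))
  obtain ⟨c, hc⟩ : ∃ c : ZMod p, c * 2 = 1 := ⟨2⁻¹, inv_mul_cancel₀ h2⟩
  have hc0 : c ≠ 0 := fun h => by simp [h] at hc
  set I : PSL2.SL2 (ZMod p) := ⟨!![0, 1; -1, 0], by simp [Matrix.det_fin_two]⟩ with hI
  set J : PSL2.SL2 (ZMod p) := ⟨!![a, b; b, -a], by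
    rw [Matrix.det_fin_two_of]; linear_combination -hab⟩ with hJ
  set W : PSL2.SL2 (ZMod p) := ⟨!![c * (-1 + a + b), c * (1 + b - a); c * (-1 + b - a),
    c * (-1 - a - b)], by
    rw [Matrix.det_fin_two_of]; linear_combination (-2 * c ^ 2) * hab + (c * 2 + 1) * hc⟩ with hW
  obtain ⟨mi, mj, mji, mWI, mWJ, mW⟩ := matrix_facts hab hc
  have hi : I * I = -1 := Subtype.ext mi
  have hj : J * J = -1 := Subtype.ext mj
  have hji : J * I = -(I * J) := Subtype.ext mji
  have hWI : W * I = I * J * W := Subtype.ext mWI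
  have hWJ : W * J = I * W := Subtype.ext mWJ
  have h3 : W ^ 3 = 1 := by
    rw [pow_succ, pow_two]; exact Subtype.ext mW
  have hk : I * J * (I * J) = -1 := by
    rw [show I * J * (I * J) = I * (J * I) * J by group, hji, mul_neg, neg_mul, ← mul_assoc, hi,
      neg_one_mul, neg_mul, hj, neg_neg]
  let E : Set (PSL2.SL2 (ZMod p)) := {x | x = 1 ∨ x = -1 ∨ x = I ∨ x = -I ∨ x = J ∨ x = -J ∨
    x = I * J ∨ x = -(I * J)}
  have hmul : ∀ x ∈ E, ∀ y ∈ E, x * y ∈ E := fun x hx y hy => by
    have hRinj : Function.Injective (fun g : PSL2.SL2 (ZMod p) => (g : Matrix (Fin 2) (Fin 2) (ZMod p))) :=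
      fun g g' h => Subtype.ext h
    have := eight_mul (R := Matrix (Fin 2) (Fin 2) (ZMod p)) (i := (I : Matrix (Fin 2) (Fin 2) (ZMod p)))
      (j := (J : Matrix (Fin 2) (Fin 2) (ZMod p))) (congrArg Subtype.val hi) (congrArg Subtype.val hj)
      (congrArg Subtype.val hji) (x := (x : Matrix (Fin 2) (Fin 2) (ZMod p)))
      (y := (y : Matrix (Fin 2) (Fin 2) (ZMod p)))
      (by rcases hx with rfl | rfl | rfl | rfl | rfl | rfl | rfl | rfl <;> simp)
      (by rcases hy with rfl | rfl | rfl | rfl | rfl | rfl | rfl | rfl <;> simp)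
    exact this.imp (fun h => Subtype.ext h) (fun h => h.imp (fun h => Subtype.ext h) (fun h =>
      h.imp (fun h => Subtype.ext h) (fun h => h.imp (fun h => Subtype.ext h) (fun h =>
      h.imp (fun h => Subtype.ext h) (fun h => h.imp (fun h => Subtype.ext h) (fun h =>
      h.imp (fun h => Subtype.ext h) (fun h => Subtype.ext h)))))))
  have hord : ∀ x ∈ E, x ^ 4 = 1 := fun x hx => by
    have e : x * x = 1 ∨ x * x = -1 := by
      rcases hx with rfl | rfl | rfl | rfl | rfl | rfl | rfl | rfl <;> simp [hi, hj, hk]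
    rw [show x ^ 4 = (x * x) * (x * x) by simp [pow_succ, mul_assoc]]
    rcases e with e | e <;> rw [e] <;> simp
  let Q : Subgroup (PSL2.SL2 (ZMod p)) :=
    { carrier := E
      one_mem' := Or.inl rfl
      mul_mem' := fun {x y} hx hy => hmul x hx y hy
      inv_mem' := fun {x} hx => by
        have h4 := hord x hx
        have hxx : x⁻¹ = x * (x * x) := inv_eq_of_mul_eq_one_right (by
          rw [← h4]; simp [pow_succ, mul_assoc])
        rw [hxx]; exact hmul x hx _ (hmul x hx x hx) }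
  have hQ2 : IsPGroup 2 Q := fun x => ⟨2, Subtype.ext (by simpa using hord _ x.2)⟩
  have cI : W * I * W⁻¹ = I * J := by rw [hWI, mul_inv_cancel_right]
  have cJ : W * J * W⁻¹ = I := by rw [hWJ, mul_inv_cancel_right]
  have cK : W * (I * J) * W⁻¹ = I * J * I := by
    calc W * (I * J) * W⁻¹ = W * I * W⁻¹ * (W * J * W⁻¹) := by group
      _ = _ := by rw [cI, cJ]
  have hne : (-1 : PSL2.SL2 (ZMod p)) ≠ 1 := fun e => h2 (by
    have e' : ((-1 : Matrix (Fin 2) (Fin 2) (ZMod p))) 0 0 = (1 : Matrix (Fin 2) (Fin 2) (ZMod p)) 0 0 :=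
      congrFun (congrFun (congrArg Subtype.val e) 0) 0
    simp at e'
    linear_combination -e')
  have hIE : I ∈ E := Or.inr (Or.inr (Or.inl rfl))
  have hJE : J ∈ E := Or.inr (Or.inr (Or.inr (Or.inr (Or.inl rfl))))
  have hIJE : I * J ∈ E := Or.inr (Or.inr (Or.inr (Or.inr (Or.inr (Or.inr (Or.inl rfl))))))
  have hnegE : (-1 : PSL2.SL2 (ZMod p)) ∈ E := Or.inr (Or.inl rfl)
  have hn : ∀ x ∈ E, -x ∈ E := fun x hx => by
    rw [show -x = -1 * x by simp]; exact hmul _ hnegE _ hx
  refine ⟨Q, I, J, W, hQ2, Or.inr (Or.inr (Or.inl rfl)), hJE, hi, hj, hk, h3,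
    fun r hr => ?_, fun r hr => ?_, ?_, ?_⟩
  · show W * r * W⁻¹ ∈ E
    rcases hr with rfl | rfl | rfl | rfl | rfl | rfl | rfl | rfl <;>
      simp only [mul_one, mul_neg, neg_mul, mul_inv_cancel, cI, cJ, cK]
    exacts [Or.inl rfl, hnegE, hIJE, hn _ hIJE, hIE, hn _ hIE, hmul _ hIJE _ hIE,
      hn _ (hmul _ hIJE _ hIE)]
  · have e1 : J * I * J⁻¹ = -I := by rw [hji, neg_mul, mul_inv_cancel_right]
    have e2 : (I * J) * I * (I * J)⁻¹ = -I := by
      rw [show (I * J) * I * (I * J)⁻¹ = I * (J * I * J⁻¹) * I⁻¹ by group, e1, mul_neg, neg_mul,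
        mul_inv_cancel_right]
    have hneg : ∀ x : PSL2.SL2 (ZMod p), (-x) * I * (-x)⁻¹ = x * I * x⁻¹ := fun x => by
      simp [show (-x)⁻¹ = -(x⁻¹) from inv_eq_of_mul_eq_one_right (by simp)]
    rcases hr with rfl | rfl | rfl | rfl | rfl | rfl | rfl | rfl <;> (try simp only [hneg, e1, e2]) <;>
      first | exact Or.inl rfl | exact Or.inr rfl | exact Or.inl (by simp) | exact Or.inr (by simp)
  · rw [cI]
    intro e
    exact hne (by rw [← hj, mul_eq_left.1 e, one_mul])
  · rw [cI]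
    intro e
    have eJ : J = -1 := mul_left_cancel (e.trans (mul_neg_one I).symm)
    exact hne (by rw [← hj, eJ]; simp)

variable {G : Type u} [Group G] [Finite G]

/-- The hypotheses of item (Q): squares of elements of `S` lie in the involutions, no two elements of
`S` and their product have equal non-trivial squares, and the `3`-elements of the centraliser of an
involution of `A` act on `S` only through an odd subgroup. -/
structure Hyp (S : Sylow 2 G) (A : Subgroup G) : Prop where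
  setting : Setting S A
  exp : ∀ s ∈ (S : Subgroup G), (s * s) * (s * s) = 1
  no_quaternion : ∀ x ∈ (S : Subgroup G), ∀ y ∈ (S : Subgroup G), x * x ≠ 1 → x * x = y * y →
    x * y * (x * y) ≠ x * x
  three : ∀ z ∈ A, z ≠ 1 → ∃ O : Subgroup G, Odd (Nat.card O) ∧
    ∀ m ∈ centralizer ({z} : Set G), (∃ k : ℕ, m ^ 3 ^ k = 1) → ∀ s ∈ (S : Subgroup G),
      m * s * m⁻¹ * s⁻¹ ∈ O

/-- No section `SL₂(p)`. -/
theorem no_sl2_section (hp : p ≠ 2) {S : Sylow 2 G} {A : Subgroup G} (h : Hyp S A) (K : Subgroup G)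
    (q : K →* PSL2.SL2 (ZMod p)) (hq : Function.Surjective q) : False := by
  haveI : Fact (Nat.Prime 2) := ⟨Nat.prime_two⟩
  obtain ⟨Q, i, j, w, hQ, hiQ, hjQ, hii, hjj, hkk, hw, hwQ, hri, hw1, hw2⟩ := exists_quaternion hp
  set P : Subgroup K := Q.comap q
  obtain ⟨U⟩ : Nonempty (Sylow 2 ↥P) := inferInstance
  -- a `3`-element normalising `U` mapping into `w Q`
  obtain ⟨w₀, hw₀⟩ := hq w
  have hPn : ∀ x ∈ P, w₀ * x * w₀⁻¹ ∈ P := fun x hx => by
    show q (w₀ * x * w₀⁻¹) ∈ Q
    rw [map_mul, map_mul, map_inv, hw₀]; exact hwQ _ hx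
  set V : Subgroup K := (U : Subgroup ↥P).map P.subtype with hV
  have hVP : V ≤ P := map_subtype_le _
  have hVp : IsPGroup 2 V := U.2.map _
  let e : ↥P →* ↥P := MonoidHom.mk' (fun x => ⟨w₀ * x * w₀⁻¹, hPn _ x.2⟩) fun x y =>
    Subtype.ext (by simp only [Subgroup.coe_mul]; group)
  have he : Function.Injective e := fun x y hxy => by
    have := congrArg Subtype.val hxy
    exact Subtype.ext (mul_left_cancel (mul_right_cancel this))
  let U₁ : Sylow 2 ↥P :=
    Sylow.ofCard ((U : Subgroup ↥P).map e) (by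
      rw [Nat.card_congr ((U : Subgroup ↥P).equivMapOfInjective e he).symm.toEquiv]
      exact U.card_eq_multiplicity)
  obtain ⟨c, hc⟩ := MulAction.exists_smul_eq ↥P U₁ U
  set n : K := (c : K) * w₀
  have hnV : ∀ x ∈ V, n * x * n⁻¹ ∈ V := by
    rintro _ ⟨x, hx, rfl⟩
    refine ⟨c * e x * c⁻¹, ?_, ?_⟩
    · have : c * e x * c⁻¹ ∈ ((c • U₁ : Sylow 2 ↥P) : Subgroup ↥P) := by
        rw [Sylow.coe_subgroup_smul]
        exact ⟨e x, ⟨x, hx, rfl⟩, rfl⟩
      rwa [hc] at this
    · show (c : K) * (w₀ * x * w₀⁻¹) * (c : K)⁻¹ = n * x * n⁻¹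
      simp only [n]; group
  obtain ⟨t, k, hm3, ht⟩ : ∃ t k : ℕ, (n ^ t) ^ 3 ^ k = 1 ∧ t % 3 = 1 := by
    obtain ⟨k, b, hb, hkb⟩ := Nat.exists_eq_pow_mul_and_not_dvd (orderOf_pos n).ne' 3 (by norm_num)
    refine ⟨b * b, k, ?_, ?_⟩
    · rw [← pow_mul, ← orderOf_dvd_iff_pow_eq_one, hkb]
      exact ⟨b, by ring⟩
    · have : b % 3 = 1 ∨ b % 3 = 2 := by omega
      rcases this with e | e <;> simp [Nat.mul_mod, e]
  set m : K := n ^ t
  have hmV : ∀ x ∈ V, m * x * m⁻¹ ∈ V := by
    have : ∀ i : ℕ, ∀ x ∈ V, n ^ i * x * (n ^ i)⁻¹ ∈ V := fun i => by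
      induction i with
      | zero => intro x hx; simpa using hx
      | succ i ih =>
        intro x hx
        have := hnV _ (ih x hx)
        rw [show n ^ (i + 1) * x * (n ^ (i + 1))⁻¹ = n * (n ^ i * x * (n ^ i)⁻¹) * n⁻¹ by
          rw [pow_succ']; group]
        exact this
    exact this t
  have hqm : ∃ r ∈ Q, q m = w * r := by
    have hwi : ∀ i : ℕ, ∃ r ∈ Q, q (n ^ i) = w ^ i * r := fun i => by
      induction i with
      | zero => exact ⟨1, Q.one_mem, by simp⟩
      | succ i ih =>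
        obtain ⟨r, hr, e⟩ := ih
        have hwQ' : ∀ r ∈ Q, w⁻¹ * r * w ∈ Q := fun r hr => by
          have := hwQ _ (hwQ _ hr)
          have e3 : w⁻¹ = w * w := inv_eq_of_mul_eq_one_right (by rw [← hw]; simp [pow_succ, mul_assoc])
          rw [e3]
          rw [show w * (w * r * w⁻¹) * w⁻¹ = w * w * r * (w * w)⁻¹ by group, ← e3, inv_inv] at this
          exact e3 ▸ this
        refine ⟨(w ^ (i + 1))⁻¹ * q (c : K) * w ^ (i + 1) * r, Q.mul_mem ?_ hr, ?_⟩
        · have : ∀ k : ℕ, (w ^ k)⁻¹ * q (c : K) * w ^ k ∈ Q := fun k => by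
            induction k with
            | zero => simp only [pow_zero, inv_one, one_mul, mul_one]; exact c.2
            | succ k ihk =>
              rw [show (w ^ (k + 1))⁻¹ * q (c : K) * w ^ (k + 1) =
                w⁻¹ * ((w ^ k)⁻¹ * q (c : K) * w ^ k) * w by rw [pow_succ]; group]
              exact hwQ' _ ihk
          exact this (i + 1)
        · rw [pow_succ' n, map_mul, e, show q n = q (c : K) * w by rw [map_mul, hw₀]]
          rw [pow_succ']; group
    obtain ⟨r, hr, e⟩ := hwi t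
    refine ⟨r, hr, ?_⟩
    rw [e, ← Nat.div_add_mod t 3, ht, pow_add, pow_mul, hw, one_pow, one_mul, pow_one]
  -- `U` maps onto `Q`
  have hqV : ∀ r ∈ Q, ∃ x ∈ V, q x = r := by
    intro r hr
    let q' : ↥P →* ↥Q := MonoidHom.mk' (fun x => ⟨q x, x.2⟩) fun x y => Subtype.ext (map_mul q _ _)
    have hq' : Function.Surjective q' := fun r => by
      obtain ⟨x, hx⟩ := hq r
      exact ⟨⟨x, show q x ∈ Q from hx ▸ r.2⟩, Subtype.ext hx⟩
    have hU : ((U.mapSurjective hq' : Sylow 2 ↥Q) : Subgroup ↥Q) = ⊤ :=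
      ((U.mapSurjective hq').is_maximal' (Q := ⊤) (hQ.of_equiv Subgroup.topEquiv.symm) le_top).symm
    have : (⟨r, hr⟩ : Q) ∈ ((U.mapSurjective hq' : Sylow 2 ↥Q) : Subgroup ↥Q) := hU ▸ mem_top _
    rw [Sylow.coe_mapSurjective] at this
    obtain ⟨x, hx, e⟩ := this
    exact ⟨x, ⟨x, hx, rfl⟩, congrArg Subtype.val e⟩
  -- into `S`
  obtain ⟨T, hT⟩ := (hVp.map K.subtype).exists_le_sylow
  obtain ⟨g, hg⟩ := MulAction.exists_smul_eq G T S
  set φ : K →* G := (MulAut.conj g).toMonoidHom.comp K.subtype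
  have hφ : Function.Injective φ := (MulAut.conj g).injective.comp K.subtype_injective
  have hS : ∀ x ∈ V, φ x ∈ (S : Subgroup G) := fun x hx => by
    rw [← hg, Sylow.coe_subgroup_smul]
    exact ⟨_, hT ⟨x, hx, rfl⟩, rfl⟩
  obtain ⟨x, hx, hqx⟩ := hqV i hiQ
  obtain ⟨y, hy, hqy⟩ := hqV j hjQ
  have hne : (-1 : PSL2.SL2 (ZMod p)) ≠ 1 := fun e => by
    have h2 : ((2 : ℕ) : ZMod p) = 0 := by
      have := congrFun (congrFun (congrArg Subtype.val e) 0) 0
      simp at this
      push_cast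
      linear_combination -this
    exact hp ((Nat.prime_dvd_prime_iff_eq (Fact.out) Nat.prime_two).1
      ((ZMod.natCast_eq_zero_iff 2 p).1 h2))
  by_cases hz : ∀ u ∈ V, q u = 1 → u * u = 1 → u = 1
  · have hinj : ∀ u ∈ V, q u = 1 → u = 1 := by
      intro u hu hqu
      obtain ⟨k, hk⟩ := hVp ⟨u, hu⟩
      replace hk : u ^ 2 ^ k = 1 := congrArg Subtype.val hk
      induction k generalizing u with
      | zero => simpa using hk
      | succ k ih =>
        have h2 := ih (u * u) (V.mul_mem hu hu) (by rw [map_mul, hqu, one_mul])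
          (by rw [← pow_two, ← pow_mul, ← pow_succ']; exact hk)
        exact hz u hu hqu h2
    have heq : ∀ u ∈ V, ∀ v ∈ V, q u = q v → φ u = φ v := fun u hu v hv e => by
      congr 1
      exact mul_inv_eq_one.1 (hinj _ (V.mul_mem hu (V.inv_mem hv)) (by
        rw [map_mul, map_inv, e, mul_inv_cancel]))
    refine h.no_quaternion _ (hS x hx) _ (hS y hy) ?_ ?_ ?_
    · rw [← map_mul]
      intro e
      have := hφ (e.trans (map_one φ).symm)
      exact hne (by rw [← hii, ← hqx, ← map_mul, this, map_one])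
    · rw [← map_mul, ← map_mul]
      exact heq _ (V.mul_mem hx hx) _ (V.mul_mem hy hy) (by rw [map_mul, map_mul, hqx, hqy, hii, hjj])
    · rw [← map_mul, ← map_mul, ← map_mul]
      exact heq _ (V.mul_mem (V.mul_mem hx hy) (V.mul_mem hx hy)) _ (V.mul_mem hx hx)
        (by rw [map_mul, map_mul, map_mul, hqx, hqy, hkk, hii])
  · push Not at hz
    obtain ⟨z, hzV, hqz, hzz, hz1⟩ := hz
    have hA : ∀ u ∈ V, u * u = 1 → φ u ∈ A := fun u hu e =>
      (h.setting.mem _ (hS u hu)).1 (by rw [← map_mul, e, map_one])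
    -- `z` is the only involution of `V` in the kernel
    have huniq : ∀ z' ∈ V, q z' = 1 → z' * z' = 1 → z' ≠ 1 → z' = z := by
      intro z' hz'V hqz' hz'z' hz'1
      by_contra hne'
      have hxx : x * x * (x * x) = 1 := hφ (by
        simp only [map_mul, map_one]; exact h.exp _ (hS x hx))
      have hcomm : φ z * φ z' = φ z' * φ z :=
        Subgroup.mem_centralizer_iff.1 (h.setting.central (hS z' hz'V)) _ (hA z hzV hzz)
      have hcomm' : z * z' = z' * z := hφ (by simpa using hcomm)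
      have hw' : z * z' * (z * z') = 1 := by
        rw [mul_assoc, ← mul_assoc z', ← hcomm', mul_assoc z, hz'z', mul_one, hzz]
      let f : Fin 5 → ↥A := ![⟨φ 1, by simp⟩, ⟨φ z, hA z hzV hzz⟩, ⟨φ z', hA z' hz'V hz'z'⟩,
        ⟨φ (z * z'), hA _ (V.mul_mem hzV hz'V) hw'⟩, ⟨φ (x * x), hA _ (V.mul_mem hx hx) hxx⟩]
      have hqxx : q (x * x) ≠ 1 := by rw [map_mul, hqx, hii]; exact hne
      have hf : Function.Injective f := by
        have key : Function.Injective ![(1 : K), z, z', z * z', x * x] := by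
          have a1 : z * z' ≠ 1 := fun e => hne' (by
            rw [← mul_one z, ← hz'z', ← mul_assoc, e, one_mul])
          have a2 : z * z' ≠ z := fun e => hz'1 (mul_eq_left.1 e)
          have a3 : z * z' ≠ z' := fun e => hz1 (mul_eq_right.1 e)
          have a4 : ∀ u, q u = 1 → u ≠ x * x := fun u hu e => hqxx (e ▸ hu)
          have a5 := a4 1 (map_one q)
          have a6 := a4 z hqz
          have a7 := a4 z' hqz'
          have a8 := a4 (z * z') (by rw [map_mul, hqz, hqz', one_mul])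
          intro r s e
          fin_cases r <;> fin_cases s <;> simp at e <;>
            first | rfl | exact absurd e (by assumption) | exact absurd e.symm (by assumption)
        intro r s e
        apply key
        apply hφ
        have e' := congrArg Subtype.val e
        fin_cases r <;> fin_cases s <;> simpa [f] using e'
      have := Nat.card_le_card_of_injective f hf
      rw [h.setting.card, Nat.card_fin] at this
      omega
    have hmz : m * z * m⁻¹ = z := huniq _ (hmV z hzV) (by simp [hqz])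
      (by rw [show m * z * m⁻¹ * (m * z * m⁻¹) = m * (z * z) * m⁻¹ by group, hzz]; group)
      (fun e => hz1 (conj_eq_one_iff.1 e))
    obtain ⟨O, hO, hO'⟩ := h.three (φ z) (hA z hzV hzz) (fun e => hz1 (hφ (e.trans (map_one φ).symm)))
    have h1 := hO' (φ m) (mem_centralizer_singleton_iff.2 (by
      rw [← map_mul, ← map_mul]
      exact congrArg φ (mul_inv_eq_iff_eq_mul.1 hmz))) ⟨k, by rw [← map_pow, hm3, map_one]⟩
      (φ x) (hS x hx)
    rw [← map_inv, ← map_inv, ← map_mul, ← map_mul, ← map_mul] at h1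
    have hd : m * x * m⁻¹ * x⁻¹ ∈ V := V.mul_mem (hmV x hx) (V.inv_mem hx)
    obtain ⟨l, hl⟩ := hVp ⟨_, hd⟩
    have hl' : φ (m * x * m⁻¹ * x⁻¹) ^ 2 ^ l = 1 := by
      rw [← map_pow]
      exact (congrArg φ (congrArg Subtype.val hl)).trans (map_one φ)
    have h01 : φ (m * x * m⁻¹ * x⁻¹) = 1 := by
      rw [← orderOf_eq_one_iff]
      exact Nat.eq_one_of_dvd_coprimes ((Nat.coprime_two_left.2 hO).pow_left l)
        (orderOf_dvd_of_pow_eq_one hl') (Subgroup.orderOf_dvd_natCard _ h1)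
    have hcx : m * x * m⁻¹ = x := mul_inv_eq_one.1 (hφ (h01.trans (map_one φ).symm))
    obtain ⟨r, hr, er⟩ := hqm
    have : w * (r * i * r⁻¹) * w⁻¹ = i := by
      have := congrArg q hcx
      rw [map_mul, map_mul, map_inv, er, hqx] at this
      exact (show w * (r * i * r⁻¹) * w⁻¹ = w * r * i * (w * r)⁻¹ by group).trans this
    rcases hri r hr with e | e <;> rw [e] at this
    · exact hw1 this
    · rw [mul_neg, neg_mul] at this
      exact hw2 (neg_eq_iff_eq_neg.1 this)

/-- All sections are `p`-stable, `p` odd. -/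
theorem pStableSections_threeInv (hp : p ≠ 2) {S : Sylow 2 G} {A : Subgroup G} (h : Hyp S A) :
    GWKlein.PStableSections G p := by
  intro H O _ P _ hP a ha
  by_contra hna
  obtain ⟨K, L, hL, -, ⟨e⟩⟩ :=
    Quadratic.section_sl2_of_not_stable hp hP (Quadratic.commute_of_quad ha) hna
  haveI := hL
  let π := QuotientGroup.mk' O
  let q : ↥(K.comap π) →* PSL2.SL2 (ZMod p) :=
    (e.toMonoidHom.comp (QuotientGroup.mk' (L.subgroupOf K))).comp (π.subgroupComap K)
  have hq : Function.Surjective q := by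
    refine (e.surjective.comp (QuotientGroup.mk'_surjective _)).comp ?_
    rintro ⟨y, hy⟩
    obtain ⟨x, rfl⟩ := QuotientGroup.mk'_surjective O y
    exact ⟨⟨x, hy⟩, rfl⟩
  let ψ := ((K.comap π).equivMapOfInjective H.subtype H.subtype_injective)
  exact no_sl2_section hp h _ (q.comp ψ.symm.toMonoidHom) (hq.comp ψ.symm.surjective)

end Cfsg.Agent.Goldschmidt.ThreeInv.Stable
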