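import Cfsg.Agent.EqLemmas
import Cfsg.Agent.Lib.Goldschmidt.ThreeInv.Statement
import Cfsg.Agent.Lib.UFourSylow.Basic
import Cfsg.Agent.Lib.TwoNilCent.UFourLocal
import Cfsg.Agent.Lib.Transfer.Focal
import Cfsg.Agent.S0215
import Cfsg.Agent.S1237
import Mathlib.FieldTheory.Finite.GaloisField

/-!
# Three involutions: the Sylow subgroup (owner: helper63)

In a simple group with `Setting S A`:
* `fused` : `N(S)` is transitive on the involutions of `A`;
* `usylow` : `S` has the shape of a Sylow 2-subgroup of `PSU 3 F 4`;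
* `card_S`, `exp`, `no_quaternion`, `card_invol`, `card_roots`, `class_roots`, `inv_roots` :
  the facts on `S` used by `FOne` and `Stable.Hyp`.
-/

set_option autoImplicit false
set_option linter.style.haveILetI false
set_option linter.unusedSectionVars false

namespace Cfsg.Agent.Goldschmidt.ThreeInv

open Subgroup

universe u

variable {G : Type u} [Group G] [Finite G] {S : Sylow 2 G} {A : Subgroup G}

namespace Setting

variable (h : Setting S A)

include h

theorem sq {a : G} (ha : a ∈ A) : a * a = 1 := (h.mem a (h.le ha)).2 ha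

theorem commute {a : G} (ha : a ∈ A) {s : G} (hs : s ∈ (S : Subgroup G)) : a * s = s * a :=
  mem_centralizer_iff.1 (h.central hs) a ha

theorem not_comm : ¬ IsMulCommutative G := fun e => h.nonab
  ⟨⟨fun x y => Subtype.ext (e.is_comm.comm (x : G) (y : G))⟩⟩

theorem eq_or_eq_or_eq {a b c : G} (ha : a ∈ A) (hb : b ∈ A) (hc : c ∈ A) (ha1 : a ≠ 1) (hb1 : b ≠ 1)
    (hc1 : c ≠ 1) (hab : a ≠ b) (hbc : b ≠ c) (hac : a ≠ c) {z : G} (hz : z ∈ A) (hz1 : z ≠ 1) :
    z = a ∨ z = b ∨ z = c := by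
  classical
  by_contra hne
  push Not at hne
  let f : Fin 5 → ↥A := ![⟨1, A.one_mem⟩, ⟨a, ha⟩, ⟨b, hb⟩, ⟨c, hc⟩, ⟨z, hz⟩]
  have hf : Function.Injective f := by
    intro r s e
    have e' := congrArg Subtype.val e
    obtain ⟨h1, h2, h3⟩ := hne
    fin_cases r <;> fin_cases s <;> simp [f] at e' <;>
      first | rfl | exact absurd e' (by assumption) | exact absurd e'.symm (by assumption)
  have := Nat.card_le_card_of_injective f hf
  rw [h.card, Nat.card_fin] at this
  omega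

/-- Elements of `N(S)` preserve `A`. -/
theorem conj_mem {n : G} (hn : n ∈ normalizer ((S : Subgroup G) : Set G)) {a : G} (ha : a ∈ A) :
    n * a * n⁻¹ ∈ A :=
  (h.mem _ ((mem_normalizer_iff.1 hn a).1 (h.le ha))).1 (by
    rw [show n * a * n⁻¹ * (n * a * n⁻¹) = n * (a * a) * n⁻¹ by group, h.sq ha]; group)

variable [IsSimpleGroup G]

theorem exists_moving {a : G} (ha : a ∈ A) (ha1 : a ≠ 1) :
    ∃ n ∈ normalizer ((S : Subgroup G) : Set G), n * a * n⁻¹ ≠ a := by
  by_contra hno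
  push Not at hno
  have hiso : ∀ g : G, g * a * g⁻¹ ∈ (S : Subgroup G) → g * a * g⁻¹ = a := by
    intro g hg
    have hgA : g * a * g⁻¹ ∈ A := (h.mem _ hg).1 (by
      rw [show g * a * g⁻¹ * (g * a * g⁻¹) = g * (a * a) * g⁻¹ by group, h.sq ha]; group)
    have hinv : ∀ u ∈ A, ∀ x ∈ (S : Subgroup G), (fun y => x * y * x⁻¹) '' {u} = {u} := fun u hu x hx => by
      rw [Set.image_singleton, ← h.commute hu hx, mul_inv_cancel_right]
    obtain ⟨n, hn, hnz⟩ := Transfer.exists_normalizer_conj_image S (X := {a}) (Y := {g * a * g⁻¹})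
      (hinv a ha) (hinv _ hgA) (g := g) (by rw [Set.image_singleton])
    rw [Set.image_singleton, Set.singleton_eq_singleton_iff, hno n hn] at hnz
    exact hnz.symm
  have ha2 : orderOf a = 2 := orderOf_eq_prime (by rw [pow_two, h.sq ha]) ha1
  obtain ⟨N, hN, hNo, hNz⟩ := S0215.result S a ha2 (h.le ha) hiso
  rcases hN.eq_bot_or_eq_top with e | e
  · subst e
    have hzc : a ∈ Subgroup.center G := Subgroup.mem_center_iff.2 fun g =>
      ((mul_inv_eq_iff_eq_mul.1 (mul_inv_eq_one.1 (hNz g))).symm)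
    rcases (inferInstance : (Subgroup.center G).Normal).eq_bot_or_eq_top with e | e
    · rw [e, mem_bot] at hzc
      exact ha1 hzc
    · exact h.not_comm
        ⟨⟨fun x y => Subgroup.mem_center_iff.1 (e ▸ mem_top y : y ∈ Subgroup.center G) x⟩⟩
  · rw [e, card_top] at hNo
    exact (Nat.not_even_iff_odd.2 hNo) (even_iff_two_dvd.2 (ha2 ▸ orderOf_dvd_natCard a))

/-- An element of `N(S)` moving `a` permutes the involutions of `A` cyclically. -/
theorem exists_cycle {a : G} (ha : a ∈ A) (ha1 : a ≠ 1) :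
    ∃ n ∈ normalizer ((S : Subgroup G) : Set G), ∀ z ∈ A, z ≠ 1 →
      z = a ∨ z = n * a * n⁻¹ ∨ z = n * (n * a * n⁻¹) * n⁻¹ := by
  obtain ⟨n, hn, hna⟩ := h.exists_moving ha ha1
  refine ⟨n, hn, fun z hz hz1 => ?_⟩
  have hb := h.conj_mem hn ha
  have hb1 : n * a * n⁻¹ ≠ 1 := fun e => ha1 (conj_eq_one_iff.1 e)
  have h2a : n * (n * a * n⁻¹) * n⁻¹ ≠ a := by
    intro e
    obtain ⟨m, ⟨k, rfl⟩, hmS⟩ : ∃ m : ℕ, Odd m ∧ n ^ m ∈ (S : Subgroup G) := by
      haveI : Fact (Nat.Prime 2) := ⟨Nat.prime_two⟩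
      set N := normalizer ((S : Subgroup G) : Set G)
      haveI : ((S : Subgroup G).subgroupOf N).Normal := Subgroup.normal_in_normalizer
      refine ⟨((S : Subgroup G).subgroupOf N).index, Nat.not_even_iff_odd.1 fun he => ?_, ?_⟩
      · have hdvd : ((S : Subgroup G).subgroupOf N).index ∣ (S : Subgroup G).index :=
          Subgroup.relIndex_dvd_index_of_le le_normalizer
        exact S.not_dvd_index ((even_iff_two_dvd.1 he).trans hdvd)
      · exact mem_subgroupOf.1 (Subgroup.pow_index_mem ((S : Subgroup G).subgroupOf N) (⟨n, hn⟩ : N))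
    have hsq : ∀ j : ℕ, n ^ (2 * j) * a * (n ^ (2 * j))⁻¹ = a := fun j => by
      induction j with
      | zero => simp
      | succ j ih =>
        rw [show n ^ (2 * (j + 1)) = n * (n * n ^ (2 * j)) by
          rw [← pow_succ', ← pow_succ']; rfl]
        calc n * (n * n ^ (2 * j)) * a * (n * (n * n ^ (2 * j)))⁻¹
            = n * (n * (n ^ (2 * j) * a * (n ^ (2 * j))⁻¹) * n⁻¹) * n⁻¹ := by group
          _ = a := by rw [ih, e]
    refine hna ?_
    have hfix : n ^ (2 * k + 1) * a * (n ^ (2 * k + 1))⁻¹ = a := by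
      rw [← h.commute ha hmS, mul_inv_cancel_right]
    rw [pow_succ'] at hfix
    rw [show n * n ^ (2 * k) * a * (n * n ^ (2 * k))⁻¹ =
      n * (n ^ (2 * k) * a * (n ^ (2 * k))⁻¹) * n⁻¹ by group, hsq] at hfix
    exact hfix
  refine h.eq_or_eq_or_eq ha hb (h.conj_mem hn hb) ha1 hb1 (fun e => hb1 (conj_eq_one_iff.1 e))
    (Ne.symm hna) ?_ (Ne.symm h2a) hz hz1
  intro e
  exact hna (mul_left_cancel (mul_right_cancel e.symm))

/-- `N(S)` is transitive on the involutions of `A`. -/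
theorem fused {a z : G} (ha : a ∈ A) (ha1 : a ≠ 1) (hz : z ∈ A) (hz1 : z ≠ 1) :
    ∃ g : G, (∀ s ∈ (S : Subgroup G), g * s * g⁻¹ ∈ (S : Subgroup G)) ∧ g * a * g⁻¹ = z := by
  obtain ⟨n, hn, hc⟩ := h.exists_cycle ha ha1
  rcases hc z hz hz1 with rfl | rfl | rfl
  · exact ⟨1, fun s hs => by simpa using hs, by group⟩
  · exact ⟨n, fun s hs => (mem_normalizer_iff.1 hn s).1 hs, rfl⟩
  · exact ⟨n * n, fun s hs => (mem_normalizer_iff.1 (mul_mem hn hn) s).1 hs, by group⟩

/-- `S` has the shape of a Sylow 2-subgroup of `PSU 3 F 4`. -/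
theorem usylow : UFourSylow.USylow (S : Subgroup G) := by
  classical
  haveI : Fact (Nat.Prime 2) := ⟨Nat.prime_two⟩
  have hmemA : ∀ t : ↥(S : Subgroup G), t * t = 1 ↔ (t : G) ∈ A := fun t => by
    rw [← h.mem _ t.2, Subtype.ext_iff]; rfl
  have h2 : Cfsg.PRankLE 2 2 ↥(S : Subgroup G) := by
    intro E _ hE
    have : Nat.card E ≤ Nat.card A := Nat.card_le_card_of_injective
      (fun x : E => (⟨((x : ↥(S : Subgroup G)) : G), (hmemA x).1 (by
        rw [← pow_two]; exact hE x x.2)⟩ : A))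
      (fun x y e => Subtype.ext (Subtype.ext (congrArg (fun u : A => (u : G)) e)))
    rw [h.card] at this
    simpa using this
  have h1 : ¬ Cfsg.PRankLE 2 1 ↥(S : Subgroup G) := fun e => by
    have := e (A.subgroupOf (S : Subgroup G))
      ⟨⟨fun x y => Subtype.ext (Subtype.ext (h.commute x.2 y.1.2))⟩⟩
      (fun x hx => by rw [pow_two, hmemA]; exact hx)
    rw [Nat.card_congr (subgroupOfEquivOfLe h.le).toEquiv, h.card] at this
    norm_num at this
  obtain ⟨a, ha, ha1⟩ : ∃ a ∈ A, a ≠ 1 := by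
    by_contra hno
    push Not at hno
    have := h.card
    rw [(Subgroup.eq_bot_iff_forall A).2 hno, Subgroup.card_bot] at this
    omega
  obtain ⟨n, hn, hc⟩ := h.exists_cycle ha ha1
  let φ : MulAut ↥(S : Subgroup G) := (S : Subgroup G).normalizerMonoidHom ⟨n, hn⟩
  have hφ : ∀ t : ↥(S : Subgroup G), ((φ t : ↥(S : Subgroup G)) : G) = n * t * n⁻¹ := fun t => rfl
  set a' : ↥(S : Subgroup G) := ⟨a, h.le ha⟩
  have hgen : ∀ t : ↥(S : Subgroup G), orderOf t = 2 → t = a' ∨ t = φ a' ∨ t = φ (φ a') := by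
    intro t ht
    have htt : t * t = 1 := by rw [← pow_two]; exact orderOf_dvd_iff_pow_eq_one.1 ht.dvd
    have ht1 : (t : G) ≠ 1 := fun e => by
      rw [show t = 1 from Subtype.ext e, orderOf_one] at ht; omega
    rcases hc t ((hmemA t).1 htt) ht1 with e | e | e
    · exact Or.inl (Subtype.ext e)
    · exact Or.inr (Or.inl (Subtype.ext e))
    · exact Or.inr (Or.inr (Subtype.ext (by rw [hφ, hφ]; exact e)))
  have hper : ∀ t : ↥(S : Subgroup G), ∀ i : ℕ, ∃ k : ℕ, (φ ^ k) ((φ ^ i) t) = t := fun t i => by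
    haveI : Finite (MulAut ↥(S : Subgroup G)) :=
      Finite.of_injective (fun f : MulAut ↥(S : Subgroup G) => (f : ↥(S : Subgroup G) → ↥(S : Subgroup G)))
        DFunLike.coe_injective
    refine ⟨(orderOf φ - 1) * i, ?_⟩
    rw [← MulAut.mul_apply, ← pow_add, show (orderOf φ - 1) * i + i = orderOf φ * i by
      rw [Nat.sub_mul, one_mul, Nat.sub_add_cancel (Nat.le_mul_of_pos_left i (orderOf_pos φ))],
      pow_mul, pow_orderOf_eq_one, one_pow, MulAut.one_apply]
  have htrans : ∀ s t : ↥(S : Subgroup G), orderOf s = 2 → orderOf t = 2 → ∃ k : ℕ, (φ ^ k) s = t := by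
    intro s t hs ht
    have hex : ∀ u : ↥(S : Subgroup G), orderOf u = 2 → ∃ i : ℕ, (φ ^ i) a' = u := fun u hu => by
      rcases hgen u hu with e | e | e
      · exact ⟨0, by simp [e]⟩
      · exact ⟨1, by simp [e]⟩
      · exact ⟨2, by rw [e, pow_two, MulAut.mul_apply]⟩
    obtain ⟨i, hi⟩ := hex s hs
    obtain ⟨j, hj⟩ := hex t ht
    obtain ⟨k, hk⟩ := hper a' i
    exact ⟨j + k, by rw [← hi, pow_add, MulAut.mul_apply, hk, hj]⟩
  let F := GaloisField 2 4
  haveI : Fintype F := Fintype.ofFinite F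
  have hF : Fintype.card F = 16 := by
    rw [← Nat.card_eq_fintype_card, GaloisField.card 2 4 (by norm_num)]; norm_num
  obtain ⟨P⟩ : Nonempty (Sylow 2 (Cfsg.PSU 3 F 4)) := inferInstance
  rcases S1237.result S.2 h2 h1 φ htrans hF P with ⟨m, -, ⟨e⟩⟩ | e
  · exact absurd ⟨⟨fun x y => e.injective (by rw [map_mul, map_mul, mul_comm])⟩⟩ h.nonab
  · exact (UFourSylow.usylow_psu hF P).congr e.some.symm

theorem mem_center_iff (s : ↥(S : Subgroup G)) :
    s ∈ Subgroup.center ↥(S : Subgroup G) ↔ (s : G) ∈ A := by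
  rw [← h.usylow.shape.inv_iff, ← h.mem _ s.2, Subtype.ext_iff]; rfl

theorem card_S : Nat.card ↥(S : Subgroup G) = 64 := h.usylow.shape.card

theorem sq_mem {s : G} (hs : s ∈ (S : Subgroup G)) : s * s ∈ A :=
  (h.mem_center_iff (⟨s, hs⟩ * ⟨s, hs⟩)).1 (h.usylow.shape.sq_center _)

theorem exp {s : G} (hs : s ∈ (S : Subgroup G)) : (s * s) * (s * s) = 1 := h.sq (h.sq_mem hs)

theorem no_quaternion {x y : G} (hx : x ∈ (S : Subgroup G)) (hy : y ∈ (S : Subgroup G))
    (h1 : x * x ≠ 1) (h2 : x * x = y * y) : x * y * (x * y) ≠ x * x := fun h3 =>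
  h1 (h.sq ((h.mem_center_iff ⟨x, hx⟩).1
    (h.usylow.noQuat ⟨x, hx⟩ ⟨y, hy⟩ (Subtype.ext h2) (Subtype.ext h3))))

theorem card_invol : Nat.card {s : ↥(S : Subgroup G) // (s : G) * s = 1} = 4 := by
  rw [← h.usylow.shape.center_card]
  exact Nat.card_congr (Equiv.subtypeEquivRight fun s => by
    rw [h.mem_center_iff, h.mem _ s.2])

theorem card_roots_eq {a z : G} (ha : a ∈ A) (ha1 : a ≠ 1) (hz : z ∈ A) (hz1 : z ≠ 1) :
    Nat.card {s : ↥(S : Subgroup G) // (s : G) * s = a} ≤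
      Nat.card {s : ↥(S : Subgroup G) // (s : G) * s = z} := by
  obtain ⟨g, hgS, rfl⟩ := h.fused ha ha1 hz hz1
  refine Nat.card_le_card_of_injective
    (fun s => ⟨⟨g * s.1 * g⁻¹, hgS _ s.1.2⟩, by
      show g * (s.1 : G) * g⁻¹ * (g * s.1 * g⁻¹) = g * a * g⁻¹
      rw [show g * (s.1 : G) * g⁻¹ * (g * s.1 * g⁻¹) = g * ((s.1 : G) * s.1) * g⁻¹ by group, s.2]⟩)
    fun s t e => Subtype.ext (Subtype.ext (mul_left_cancel (mul_right_cancel
      (congrArg (fun u : {s : ↥(S : Subgroup G) // (s : G) * s = g * a * g⁻¹} => ((u.1 : ↥(S : Subgroup G)) : G)) e))))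

theorem card_roots {a : G} (ha : a ∈ A) (ha1 : a ≠ 1) :
    Nat.card {s : ↥(S : Subgroup G) // (s : G) * s = a} = 20 := by
  classical
  haveI := Fintype.ofFinite ↥(S : Subgroup G)
  haveI := Fintype.ofFinite ↥A
  let f : ↥(S : Subgroup G) → ↥A := fun s => ⟨(s : G) * s, h.sq_mem s.2⟩
  set k := Nat.card {s : ↥(S : Subgroup G) // (s : G) * s = a}
  have hfib : ∀ z : ↥A, Nat.card {s // f s = z} = if (z : G) = 1 then 4 else k := fun z => by
    have hc : Nat.card {s // f s = z} = Nat.card {s : ↥(S : Subgroup G) // (s : G) * s = z} :=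
      Nat.card_congr (Equiv.subtypeEquivRight fun s => by simp [f, Subtype.ext_iff])
    split_ifs with hz
    · rw [hc, hz, h.card_invol]
    · rw [hc]
      exact le_antisymm (h.card_roots_eq z.2 hz ha ha1) (h.card_roots_eq ha ha1 z.2 hz)
  have hrest : ∀ z ∈ (Finset.univ : Finset ↥A).erase 1, (if (z : G) = 1 then 4 else k) = k :=
    fun z hz => if_neg fun e => Finset.ne_of_mem_erase hz (Subtype.ext e)
  have htot := Nat.card_congr (Equiv.sigmaFiberEquiv f)
  rw [Nat.card_sigma, h.card_S, Finset.sum_congr rfl fun z _ => hfib z,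
    ← Finset.add_sum_erase _ _ (Finset.mem_univ (1 : ↥A)), if_pos (Subgroup.coe_one A),
    Finset.sum_congr rfl hrest,
    Finset.sum_const, Finset.card_erase_of_mem (Finset.mem_univ _), Finset.card_univ,
    ← Nat.card_eq_fintype_card, h.card] at htot
  simp at htot
  omega

theorem isConj_iff_mul_inv {s : ↥(S : Subgroup G)} (hs : (s : G) ∉ A) (t : ↥(S : Subgroup G)) :
    IsConj s t ↔ t * s⁻¹ ∈ Subgroup.center ↥(S : Subgroup G) := by
  rw [isConj_iff]
  constructor
  · rintro ⟨w, rfl⟩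
    exact h.usylow.shape.commutator_mem w s
  · intro hc
    obtain ⟨w, hw⟩ := h.usylow.shape.exists_conj (fun e => hs ((h.mem_center_iff s).1 e)) hc
    exact ⟨w, hw.trans (inv_mul_cancel_right t s)⟩

theorem not_mem_of_sq {a : G} (ha1 : a ≠ 1) {s : G} (hsa : s * s = a) : s ∉ A := fun e =>
  ha1 (hsa ▸ h.sq e)

theorem class_roots {a : G} (ha1 : a ≠ 1) (s : ↥(S : Subgroup G)) (hsa : (s : G) * s = a) :
    Nat.card {t : ↥(S : Subgroup G) // IsConj s t} = 4 := by
  rw [← h.usylow.shape.center_card]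
  refine Nat.card_congr ((Equiv.mulRight s⁻¹).subtypeEquiv fun t => ?_)
  rw [h.isConj_iff_mul_inv (h.not_mem_of_sq ha1 hsa)]
  rfl

theorem inv_roots {a : G} (ha1 : a ≠ 1) {s : G} (hs : s ∈ (S : Subgroup G)) (hsa : s * s = a) :
    ∃ t ∈ (S : Subgroup G), t * s * t⁻¹ = s⁻¹ := by
  obtain ⟨w, hw⟩ := h.usylow.shape.exists_conj
    (fun e => h.not_mem_of_sq ha1 hsa ((h.mem_center_iff ⟨s, hs⟩).1 e))
    (h.usylow.shape.sq_center ⟨s, hs⟩)
  refine ⟨w, w.2, ?_⟩
  have := congrArg Subtype.val hw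
  simp only [Subgroup.coe_mul, InvMemClass.coe_inv] at this
  rw [this]
  exact (inv_eq_of_mul_eq_one_right (by rw [← mul_assoc, ← mul_assoc]; simpa [mul_assoc] using h.exp hs)).symm

end Setting

end Cfsg.Agent.Goldschmidt.ThreeInv
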