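import Cfsg.Agent.EqLemmas
import Cfsg.Agent.Lib.Goldschmidt.ThreeInv.SylowFacts
import Cfsg.Agent.Lib.Goldschmidt.ThreeInv.Stable
import Cfsg.Agent.Lib.UFourSylow.Main
import Cfsg.Agent.Lib.Cores.Subnormal

/-!
# Three involutions: the shape of `C(a)` (owner: helper63)

* `normalClosure_sylow_eq` : core-free with a central involution in `Z(S)`, `S` is normal and `Z(S)` central
* `aut_cube` : an automorphism of odd order fixing the centre with cube one is trivial
* `Setting.exists_cent_shape` : `C(a) = O · (N(S) ∩ C(A))`, `O` odd normal, and the `3`-elements of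
  `C(a)` centralise `S` modulo `O`
* `Setting.stableHyp` : the hypotheses of `Stable.pStableSections_threeInv`
-/

set_option autoImplicit false
set_option linter.style.haveILetI false
set_option linter.unusedSectionVars false

namespace Cfsg.Agent.Goldschmidt.ThreeInv

open Subgroup UFourSylow

universe u

/-- An automorphism fixing the centre, of odd order and with cube one, is trivial. -/
theorem aut_cube {T : Type*} [Group T] [Finite T] (hT : USylow T) {σ : MulAut T}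
    (hfix : ∀ z ∈ Subgroup.center T, σ z = z) (h3 : σ ^ 3 = 1) : σ = 1 := by
  have hodd : Odd (orderOf σ) :=
    Odd.of_dvd_nat (by norm_num : Odd 3) (orderOf_dvd_of_pow_eq_one h3)
  by_contra hne
  obtain ⟨x, hx⟩ : ∃ x : T, x ∉ Subgroup.center T := by
    by_contra hall
    push Not at hall
    exact hne (MulEquiv.ext fun x => hfix x (hall x))
  set y := σ x with hy
  set z := σ y with hz
  have hzx : σ z = x := by
    rw [hz, hy, ← MulAut.mul_apply, ← MulAut.mul_apply, show σ * σ * σ = σ ^ 3 by simp [pow_succ],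
      h3, MulAut.one_apply]
  have hyx : x * x = y * y := by rw [hy, ← map_mul, hfix _ (hT.shape.sq_center x)]
  have hzx2 : x * x = z * z := by
    rw [hz, ← map_mul, ← hyx, hfix _ (hT.shape.sq_center x)]
  -- the product of the orbit lies in the centre
  set w := x * y * z with hw
  have hwc : w ∈ Subgroup.center T := by
    by_contra hwn
    refine hne (aut_eq_one hT.shape hfix hodd hwn ?_)
    have e : σ w = y * z * x := by rw [hw, map_mul, map_mul, ← hy, ← hz, hzx]
    rw [e, hw]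
    have := hT.shape.commutator_mem (x * y * z)⁻¹ x⁻¹
    rw [show (x * y * z)⁻¹ * (y * z * x) = (x * y * z)⁻¹ * x⁻¹ * (x * y * z)⁻¹⁻¹ * x⁻¹⁻¹ by group]
    exact this
  have hxy : x * y = w * z⁻¹ := by rw [hw]; group
  have hc : w * z⁻¹ = z⁻¹ * w := (Subgroup.mem_center_iff.1 hwc z⁻¹).symm
  have hsq : x * y * (x * y) = x * x := by
    rw [hxy]
    have h4 : (x * x) * (x * x) = 1 := (hT.shape.inv_iff _).2 (hT.shape.sq_center x)
    calc w * z⁻¹ * (w * z⁻¹) = w * w * (z * z)⁻¹ := by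
          rw [mul_assoc, ← mul_assoc z⁻¹, ← hc]; group
      _ = x * x := by rw [(hT.shape.inv_iff w).2 hwc, one_mul, ← hzx2, inv_eq_of_mul_eq_one_right h4]
  exact hx (hT.noQuat x y hyx hsq)

/-- An automorphism of `3`-power order fixing the centre is trivial. -/
theorem aut_three_power {T : Type*} [Group T] [Finite T] (hT : USylow T) :
    ∀ (k : ℕ) {σ : MulAut T}, (∀ z ∈ Subgroup.center T, σ z = z) → σ ^ 3 ^ k = 1 → σ = 1 := by
  intro k
  induction k with
  | zero => intro σ _ h; simpa using h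
  | succ k ih =>
    intro σ hfix h
    refine aut_cube hT hfix (ih (σ := σ ^ 3) (fun z hz => ?_) (by rw [← pow_mul, ← pow_succ']; exact h))
    simp [pow_succ, hfix z hz]

variable {G : Type u} [Group G] [Finite G]

/-- In a core-free group with a central involution in `Z(S)`: `Z(S)` is central and `S` is normal. -/
theorem sylow_normal_of_central {S : Sylow 2 G} (hT : USylow ↥(S : Subgroup G))
    (hO : Cfsg.oddCore G = ⊥) {z : G} (hz : z ∈ UFourSylow.omegaOne S) (hz1 : z ≠ 1) (hzc : z ∈ Subgroup.center G) :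
    UFourSylow.omegaOne S ≤ Subgroup.center G ∧ (S : Subgroup G).Normal := by
  haveI : Fact (Nat.Prime 2) := ⟨Nat.prime_two⟩
  have hA := omegaOne_le_center hT hO hz hz1 hzc
  refine ⟨hA, ?_⟩
  set M := normalClosure ((S : Subgroup G) : Set G) with hM
  have hSM : (S : Subgroup G) ≤ M := le_normalClosure
  set SM : Sylow 2 M := S.subtype hSM
  let e : ↥(SM : Subgroup M) ≃* ↥(S : Subgroup G) := subgroupOfEquivOfLe hSM
  have hT' : USylow ↥(SM : Subgroup M) := hT.congr e.symm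
  have hA' : UFourSylow.omegaOne SM ≤ Subgroup.center M := by
    rintro _ ⟨t, ht, rfl⟩
    refine Subgroup.mem_center_iff.2 fun m => Subtype.ext ?_
    have : ((t : M) : G) ∈ UFourSylow.omegaOne S := (mem_omegaOne_iff S (e t).2).2 (by
      refine Subgroup.mem_center_iff.2 fun u => ?_
      obtain ⟨v, rfl⟩ := e.surjective u
      rw [← map_mul, Subgroup.mem_center_iff.1 ht v, map_mul])
    exact Subgroup.mem_center_iff.1 (hA this) (m : G)
  have hO' : Cfsg.oddCore M = ⊥ := by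
    haveI := Cores.pPrimeCore_characteristic (G := M) (p := 2)
    have h1 : (Cfsg.oddCore M).map M.subtype ≤ Cfsg.oddCore G :=
      Cores.le_pPrimeCore (ConjAct.normal_of_characteristic_of_normal)
        (by rw [Nat.card_congr ((Cfsg.oddCore M).equivMapOfInjective _ M.subtype_injective).symm.toEquiv]
            exact Cores.coprime_card_pPrimeCore 2)
    rw [hO, le_bot_iff, Subgroup.map_eq_bot_iff_of_injective _ M.subtype_injective] at h1
    exact h1
  have hmin : ∀ N : Subgroup M, N.Normal → Odd N.index → N = ⊤ := by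
    intro N hN hodd
    have h2el : ∀ x : M, (∃ k : ℕ, x ^ 2 ^ k = 1) → x ∈ N := fun x ⟨k, hk⟩ => by
      have h1 := orderOf_dvd_of_pow_eq_one hk
      have h2 : orderOf (QuotientGroup.mk' N x) ∣ N.index := by
        rw [Subgroup.index_eq_card]; exact orderOf_dvd_natCard _
      have h3 := (orderOf_map_dvd (QuotientGroup.mk' N) x).trans h1
      exact (QuotientGroup.eq_one_iff x).1 (orderOf_eq_one_iff.1
        (Nat.eq_one_of_dvd_coprimes ((Nat.coprime_two_left.2 hodd).pow_left k) h3 h2))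
    have hle : M ≤ N.map M.subtype := by
      conv_lhs => rw [hM, normalClosure]
      refine (closure_le _).2 fun x hx => ?_
      obtain ⟨y, hy, hxy⟩ := Group.mem_conjugatesOfSet_iff.1 hx
      have hxM : x ∈ M := conjugatesOfSet_subset_normalClosure hx
      obtain ⟨c, rfl⟩ := isConj_iff.1 hxy
      obtain ⟨k, hk⟩ := S.2 ⟨y, hy⟩
      refine ⟨⟨_, hxM⟩, h2el _ ⟨k, Subtype.ext ?_⟩, rfl⟩
      show (c * y * c⁻¹) ^ 2 ^ k = 1
      rw [conj_pow, show y ^ 2 ^ k = 1 from congrArg Subtype.val hk, mul_one, mul_inv_cancel]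
    exact eq_top_iff.2 fun x _ => by
      obtain ⟨x', hx', he⟩ := hle x.2
      exact Subtype.ext he ▸ hx'
  have htop := sylow_eq_top_of_central hT' hA' hO' hmin
  have hMS : M = (S : Subgroup G) :=
    le_antisymm (fun x hx => mem_subgroupOf.1 (htop ▸ mem_top (⟨x, hx⟩ : M) :
      (⟨x, hx⟩ : M) ∈ (SM : Subgroup M))) hSM
  exact hMS ▸ normalClosure_normal

variable [IsSimpleGroup G] {S : Sylow 2 G} {A : Subgroup G}

/-- `C(a) = O (N(S) ∩ C(A))` with `O` odd and normal; `3`-elements of `C(a)` act on `S` through `O`. -/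
theorem Setting.exists_cent_shape (h : Setting S A) {a : G} (ha : a ∈ A) (ha1 : a ≠ 1) :
    ∃ O : Subgroup G, Odd (Nat.card O) ∧ O ≤ centralizer ({a} : Set G) ∧
      (∀ g ∈ centralizer ({a} : Set G), ∀ ρ ∈ O, g * ρ * g⁻¹ ∈ O) ∧
      (∀ g ∈ centralizer ({a} : Set G), ∀ s ∈ (S : Subgroup G), ∃ s' ∈ (S : Subgroup G),
        s'⁻¹ * (g * s * g⁻¹) ∈ O) ∧
      (∀ g ∈ centralizer ({a} : Set G), ∃ ρ ∈ O, ∃ n, n ∈ normalizer ((S : Subgroup G) : Set G) ∧
        n ∈ centralizer (A : Set G) ∧ g = ρ * n) ∧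
      ∀ m ∈ centralizer ({a} : Set G), (∃ k : ℕ, m ^ 3 ^ k = 1) → ∀ s ∈ (S : Subgroup G),
        m * s * m⁻¹ * s⁻¹ ∈ O := by
  haveI : Fact (Nat.Prime 2) := ⟨Nat.prime_two⟩
  set C := centralizer ({a} : Set G) with hC
  have hSC : (S : Subgroup G) ≤ C := fun s hs => mem_centralizer_singleton_iff.2 (h.commute ha hs).symm
  set K := Cfsg.oddCore C with hK
  set O := K.map C.subtype with hO
  have hKodd : Odd (Nat.card K) := Nat.coprime_two_right.1 (Cores.coprime_card_pPrimeCore 2)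
  have hOodd : Odd (Nat.card O) := by
    rw [hO, Nat.card_congr (K.equivMapOfInjective _ C.subtype_injective).symm.toEquiv]; exact hKodd
  have hmemO : ∀ x : C, (x : G) ∈ O ↔ x ∈ K := fun x =>
    ⟨fun ⟨y, hy, e⟩ => Subtype.ext e ▸ hy, fun hx => ⟨x, hx, rfl⟩⟩
  set SC : Sylow 2 C := S.subtype hSC
  set f := QuotientGroup.mk' K with hf
  have hfs : Function.Surjective f := QuotientGroup.mk'_surjective K
  set P : Sylow 2 (C ⧸ K) := SC.mapSurjective hfs with hP
  have hPc : (P : Subgroup (C ⧸ K)) = (SC : Subgroup C).map f := Sylow.coe_mapSurjective hfs SC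
  have hdisj : ∀ x : C, (x : G) ∈ (S : Subgroup G) → x ∈ K → x = 1 := fun x hxS hxK => by
    obtain ⟨k, hk⟩ := S.2 ⟨x, hxS⟩
    have h1 : orderOf (x : G) ∣ 2 ^ k := orderOf_dvd_of_pow_eq_one (congrArg Subtype.val hk)
    rw [Subgroup.orderOf_coe] at h1
    exact orderOf_eq_one_iff.1 (Nat.eq_one_of_dvd_coprimes ((Nat.coprime_two_left.2 hKodd).pow_left k) h1
      (Subgroup.orderOf_dvd_natCard _ hxK))
  let φ : ↥(S : Subgroup G) →* ↥(P : Subgroup (C ⧸ K)) :=
    MonoidHom.mk' (fun s => ⟨f ⟨s, hSC s.2⟩, by rw [hPc]; exact ⟨_, mem_subgroupOf.2 s.2, rfl⟩⟩)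
      fun s t => Subtype.ext (map_mul f ⟨s, hSC s.2⟩ ⟨t, hSC t.2⟩)
  have hφ : Function.Bijective φ := by
    refine ⟨(injective_iff_map_eq_one φ).2 fun s hs => ?_, fun v => ?_⟩
    · have := hdisj ⟨s, hSC s.2⟩ s.2
        ((QuotientGroup.eq_one_iff (⟨s, hSC s.2⟩ : C)).1 (congrArg Subtype.val hs))
      exact Subtype.ext (congrArg Subtype.val this :)
    · obtain ⟨x, hx, he⟩ := (show (v : C ⧸ K) ∈ (SC : Subgroup C).map f from hPc ▸ v.2)
      exact ⟨⟨x, mem_subgroupOf.1 hx⟩, Subtype.ext he⟩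
  let E : ↥(S : Subgroup G) ≃* ↥(P : Subgroup (C ⧸ K)) := MulEquiv.ofBijective φ hφ
  have hT : USylow ↥(P : Subgroup (C ⧸ K)) := h.usylow.congr E
  have homega : ∀ z (hz : z ∈ A), f ⟨z, hSC (h.le hz)⟩ ∈ UFourSylow.omegaOne P := fun z hz => by
    refine (mem_omegaOne_iff P (E ⟨z, h.le hz⟩).2).2 (Subgroup.mem_center_iff.2 fun v => ?_)
    obtain ⟨s, rfl⟩ := E.surjective v
    exact ((map_mul E _ _).symm.trans (congrArg E
      (Subgroup.mem_center_iff.1 ((h.mem_center_iff ⟨z, h.le hz⟩).2 hz) s))).trans (map_mul E _ _)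
  have hzc : f ⟨a, hSC (h.le ha)⟩ ∈ Subgroup.center (C ⧸ K) := Subgroup.mem_center_iff.2 fun v => by
    obtain ⟨x, rfl⟩ := hfs v
    rw [← map_mul, ← map_mul]
    exact congrArg f (Subtype.ext (mem_centralizer_singleton_iff.1 x.2))
  have hz1 : f ⟨a, hSC (h.le ha)⟩ ≠ 1 := fun e => ha1 (congrArg Subtype.val
    (hdisj _ (h.le ha) ((QuotientGroup.eq_one_iff (⟨a, hSC (h.le ha)⟩ : C)).1 e)))
  obtain ⟨hcen, hPn⟩ := sylow_normal_of_central hT (Cores.pPrimeCore_quotient_self 2) (homega a ha) hz1 hzc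
  have hmove : ∀ g ∈ C, ∀ s ∈ (S : Subgroup G), ∃ s' ∈ (S : Subgroup G), s'⁻¹ * (g * s * g⁻¹) ∈ O := by
    intro g hg s hs
    have h1 := hPn.conj_mem _ (E ⟨s, hs⟩).2 (f ⟨g, hg⟩)
    obtain ⟨s', hs'⟩ := E.surjective ⟨_, h1⟩
    refine ⟨s', s'.2, (hmemO (⟨(s' : G), hSC s'.2⟩⁻¹ * (⟨g, hg⟩ * ⟨s, hSC hs⟩ * ⟨g, hg⟩⁻¹))).2 ?_⟩
    rw [← QuotientGroup.eq_one_iff]
    show f _ = 1
    rw [map_mul, map_inv, map_mul, map_mul, map_inv]
    exact inv_mul_eq_one.2 (congrArg Subtype.val hs')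
  refine ⟨O, hOodd, map_subtype_le _, fun g hg ρ hρ => ?_, hmove, fun g hg => ?_, fun m hm hk s hs => ?_⟩
  · obtain ⟨r, hr, rfl⟩ := hρ
    exact ⟨⟨g, hg⟩ * r * ⟨g, hg⟩⁻¹, (inferInstance : K.Normal).conj_mem r hr _, rfl⟩
  · -- Frattini
    set L := (P : Subgroup (C ⧸ K)).comap f with hL
    haveI : L.Normal := hPn.comap f
    have hSL : (SC : Subgroup C) ≤ L := fun x hx => by rw [hL, mem_comap, hPc]; exact ⟨x, hx, rfl⟩
    have hfr := Sylow.normalizer_sup_eq_top (SC.subtype hSL)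
    rw [show ((SC.subtype hSL : Sylow 2 L) : Subgroup L).map L.subtype = (SC : Subgroup C) from
      map_subgroupOf_eq_of_le hSL] at hfr
    have hg' : (⟨g, hg⟩ : C) ∈ normalizer ((SC : Subgroup C) : Set C) ⊔ L := hfr ▸ mem_top _
    obtain ⟨n, hn, l, hl, hnl⟩ := Subgroup.mem_sup_of_normal_right.1 hg'
    obtain ⟨x, hx, hxl⟩ := (show f l ∈ (SC : Subgroup C).map f from hPc ▸ hl)
    have hk1 : n * l * (n * x)⁻¹ ∈ K := by
      rw [← QuotientGroup.eq_one_iff]
      show f _ = 1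
      rw [map_mul, map_inv, map_mul, map_mul, hxl, mul_inv_cancel]
    set m : C := n * x with hm
    have hmN : m ∈ normalizer ((SC : Subgroup C) : Set C) := mul_mem hn (le_normalizer hx)
    refine ⟨_, (hmemO (n * l * m⁻¹)).2 hk1, (m : G), mem_normalizer_fintype fun s hs => ?_, ?_, ?_⟩
    · exact mem_subgroupOf.1
        ((mem_normalizer_iff.1 hmN ⟨s, hSC hs⟩).1 (mem_subgroupOf.2 hs))
    · refine mem_centralizer_iff.2 fun z hz => ?_
      have h1 : f m * f ⟨z, hSC (h.le hz)⟩ = f ⟨z, hSC (h.le hz)⟩ * f m :=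
        Subgroup.mem_center_iff.1 (hcen (homega z hz)) (f m)
      have h2 : (m : G) * z * (m : G)⁻¹ ∈ (S : Subgroup G) := mem_subgroupOf.1
        ((mem_normalizer_iff.1 hmN ⟨z, hSC (h.le hz)⟩).1 (mem_subgroupOf.2 (h.le hz)))
      have h3 := hdisj (m * ⟨z, hSC (h.le hz)⟩ * m⁻¹ * ⟨z, hSC (h.le hz)⟩⁻¹)
        ((S : Subgroup G).mul_mem h2 ((S : Subgroup G).inv_mem (h.le hz)))
        ((QuotientGroup.eq_one_iff _).1 (show f _ = 1 by
          rw [map_mul, map_mul, map_mul, map_inv, map_inv, h1, mul_inv_cancel_right, mul_inv_cancel]))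
      exact (mul_inv_eq_iff_eq_mul.1 (mul_inv_eq_one.1 (congrArg Subtype.val h3))).symm
    · have := congrArg Subtype.val hnl
      show g = (n * l * m⁻¹ * m : C)
      rw [inv_mul_cancel_right]; exact this.symm
  · obtain ⟨k, hk⟩ := hk
    have hmN : f ⟨m, hm⟩ ∈ normalizer ((P : Subgroup (C ⧸ K)) : Set (C ⧸ K)) := by
      rw [normalizer_eq_top_iff.2 hPn]; exact mem_top _
    let σ : MulAut ↥(P : Subgroup (C ⧸ K)) := (P : Subgroup (C ⧸ K)).normalizerMonoidHom ⟨_, hmN⟩
    have hσ : σ = 1 := by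
      refine aut_three_power hT k (fun z hz => Subtype.ext ?_) ?_
      · show f ⟨m, hm⟩ * (z : C ⧸ K) * (f ⟨m, hm⟩)⁻¹ = z
        have hmz : f ⟨m, hm⟩ * (z : C ⧸ K) = (z : C ⧸ K) * f ⟨m, hm⟩ :=
          Subgroup.mem_center_iff.1 (hcen ⟨z, hz, rfl⟩) (f ⟨m, hm⟩)
        rw [hmz, mul_inv_cancel_right]
      · rw [← map_pow, ← map_one (P : Subgroup (C ⧸ K)).normalizerMonoidHom]
        refine congrArg _ (Subtype.ext ?_)
        show f ⟨m, hm⟩ ^ 3 ^ k = 1
        rw [← map_pow, show (⟨m, hm⟩ : C) ^ 3 ^ k = 1 from Subtype.ext hk, map_one]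
    have h1 := congrArg Subtype.val (DFunLike.congr_fun hσ (E ⟨s, hs⟩))
    refine (hmemO (⟨m, hm⟩ * ⟨s, hSC hs⟩ * ⟨m, hm⟩⁻¹ * ⟨s, hSC hs⟩⁻¹)).2 ?_
    rw [← QuotientGroup.eq_one_iff]
    show f _ = 1
    rw [map_mul, map_inv, map_mul, map_mul, map_inv]
    exact mul_inv_eq_one.2 h1

/-- The hypotheses of item (Q). -/
theorem Setting.stableHyp (h : Setting S A) : Stable.Hyp S A where
  setting := h
  exp := fun _ hs => h.exp hs
  no_quaternion := fun _ hx _ hy h1 h2 => h.no_quaternion hx hy h1 h2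
  three := fun z hz hz1 => by
    obtain ⟨O, hO, -, -, -, -, h3⟩ := h.exists_cent_shape hz hz1
    exact ⟨O, hO, h3⟩

/-- All sections are `p`-stable, `p` odd (item (Q)). -/
theorem Setting.pStableSections (h : Setting S A) {p : ℕ} [Fact p.Prime] (hp : p ≠ 2) :
    GWKlein.PStableSections G p :=
  Stable.pStableSections_threeInv hp h.stableHyp

end Cfsg.Agent.Goldschmidt.ThreeInv
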