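import Cfsg.Agent.EqLemmas
import Cfsg.Agent.Lib.Goldschmidt.ThreeInv.CentShape
import Cfsg.Agent.Lib.OddOrderTheorem.Basic
import Cfsg.Agent.Lib.Components.HatLayer
import Cfsg.Agent.Lib.Involution.KleinFour
import Cfsg.Agent.Lib.Coprime.Factorization

/-!
# Three involutions: solvable local subgroups (owner: helper63)

In a simple group with `Setting S A`:
* `isSolvable_centralizer`, `isSolvable_centralizer_involution` : involution centralisers are solvable;
* `isSolvable_of_rank_one` : a subgroup without two commuting involutions is solvable (item (Z));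
* `mem_core_of_fixed` : an element of odd order of `C(a)` moving some `q ∈ S \ A` only by odd elements
  lies in `O(C(a))`.
-/

set_option autoImplicit false
set_option linter.style.haveILetI false
set_option linter.unusedSectionVars false

namespace Cfsg.Agent.Goldschmidt.ThreeInv

open Subgroup

universe u

/-- A group with a normal Sylow 2-subgroup is solvable. -/
theorem isSolvable_normalizer_sylow {G : Type u} [Group G] [Finite G] (S : Sylow 2 G) :
    Group.IsSolvable ↥(normalizer ((S : Subgroup G) : Set G)) := by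
  haveI : Fact (Nat.Prime 2) := ⟨Nat.prime_two⟩
  set N := normalizer ((S : Subgroup G) : Set G)
  haveI : ((S : Subgroup G).subgroupOf N).Normal := Subgroup.normal_in_normalizer
  refine (Group.isSolvable_iff_subgroup_quotient ((S : Subgroup G).subgroupOf N)).2 ⟨?_, ?_⟩
  · haveI := (S.2.of_equiv (subgroupOfEquivOfLe (le_normalizer (H := (S : Subgroup G)))).symm).isNilpotent
    infer_instance
  · refine OddOrderTheorem.solvable (Nat.not_even_iff_odd.1 fun he => ?_)
    rw [← Subgroup.index_eq_card, even_iff_two_dvd] at he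
    exact S.not_dvd_index (he.trans (Subgroup.relIndex_dvd_index_of_le le_normalizer))

variable {G : Type u} [Group G] [Finite G] {S : Sylow 2 G} {A : Subgroup G}

namespace Setting

variable (h : Setting S A)

include h

/-- An involution is conjugate into `A`. -/
theorem exists_conj_mem {t : G} (ht : t * t = 1) (ht1 : t ≠ 1) : ∃ g : G, g * t * g⁻¹ ∈ A := by
  obtain ⟨g, hg⟩ := Involution.exists_conj_mem_sylow S (t := t)
    (orderOf_eq_prime (by rw [pow_two, ht]) ht1)
  exact ⟨g, (h.mem _ hg).1 (by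
    rw [show g * t * g⁻¹ * (g * t * g⁻¹) = g * (t * t) * g⁻¹ by group, ht]; group)⟩

variable [IsSimpleGroup G]

theorem isSolvable_centralizer {a : G} (ha : a ∈ A) (ha1 : a ≠ 1) :
    Group.IsSolvable ↥(centralizer ({a} : Set G)) := by
  obtain ⟨O, hO, hOC, hOn, -, hfac, -⟩ := h.exists_cent_shape ha ha1
  set C := centralizer ({a} : Set G)
  haveI : (O.subgroupOf C).Normal := ⟨fun x hx g => hOn g g.2 x hx⟩
  refine (Group.isSolvable_iff_subgroup_quotient (O.subgroupOf C)).2 ⟨?_, ?_⟩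
  · exact OddOrderTheorem.solvable (by rwa [Nat.card_congr (subgroupOfEquivOfLe hOC).toEquiv])
  · set N := normalizer ((S : Subgroup G) : Set G)
    haveI := isSolvable_normalizer_sylow S
    haveI : Group.IsSolvable ↥(N ⊓ C) :=
      Group.isSolvable_of_isSolvable_injective (Subgroup.inclusion_injective (inf_le_left : N ⊓ C ≤ N))
    refine Group.isSolvable_of_surjective
      (f := (QuotientGroup.mk' (O.subgroupOf C)).comp (Subgroup.inclusion (inf_le_right : N ⊓ C ≤ C))) ?_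
    intro y
    obtain ⟨⟨g, hg⟩, rfl⟩ := QuotientGroup.mk'_surjective _ y
    obtain ⟨ρ, hρ, n, hn, -, rfl⟩ := hfac g hg
    have hnC : n ∈ C := by simpa using C.mul_mem (C.inv_mem (hOC hρ)) hg
    refine ⟨⟨n, hn, hnC⟩, ?_⟩
    rw [show (⟨ρ * n, hg⟩ : C) = ⟨ρ, hOC hρ⟩ * ⟨n, hnC⟩ from rfl, map_mul,
      show QuotientGroup.mk' (O.subgroupOf C) ⟨ρ, hOC hρ⟩ = 1 from (QuotientGroup.eq_one_iff _).2 hρ,
      one_mul]
    rfl

theorem isSolvable_centralizer_involution {t : G} (ht : t * t = 1) (ht1 : t ≠ 1) :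
    Group.IsSolvable ↥(centralizer ({t} : Set G)) := by
  obtain ⟨g, hg⟩ := h.exists_conj_mem ht ht1
  haveI := h.isSolvable_centralizer hg fun e => ht1 (conj_eq_one_iff.1 e)
  refine Group.isSolvable_of_isSolvable_injective
    (f := (((MulAut.conj g).toMonoidHom).comp (centralizer ({t} : Set G)).subtype).codRestrict
      (centralizer ({g * t * g⁻¹} : Set G)) fun x => mem_centralizer_singleton_iff.2 ?_) ?_
  · show g * (x : G) * g⁻¹ * (g * t * g⁻¹) = g * t * g⁻¹ * (g * (x : G) * g⁻¹)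
    rw [show g * (x : G) * g⁻¹ * (g * t * g⁻¹) = g * ((x : G) * t) * g⁻¹ by group,
      mem_centralizer_singleton_iff.1 x.2]
    group
  · intro x y e
    exact Subtype.ext ((MulAut.conj g).injective (congrArg Subtype.val e :))

/-- A subgroup without two distinct commuting involutions is solvable. -/
theorem isSolvable_of_rank_one {H : Subgroup G}
    (hH : ∀ s ∈ H, ∀ t ∈ H, s * s = 1 → t * t = 1 → s ≠ 1 → t ≠ 1 → s * t = t * s → s = t) :
    Group.IsSolvable ↥H := by
  haveI : Fact (Nat.Prime 2) := ⟨Nat.prime_two⟩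
  by_cases hodd : Odd (Nat.card H)
  · exact OddOrderTheorem.solvable hodd
  obtain ⟨P⟩ : Nonempty (Sylow 2 ↥H) := inferInstance
  have hne : (P : Subgroup ↥H) ≠ ⊥ :=
    P.ne_bot_of_dvd_card (even_iff_two_dvd.1 (Nat.not_odd_iff_even.1 hodd))
  obtain ⟨z, hz⟩ : ∃ z : ↥(Subgroup.center ↥(P : Subgroup ↥H)), orderOf z = 2 := by
    haveI : Nontrivial ↥(P : Subgroup ↥H) := (Subgroup.nontrivial_iff_ne_bot _).2 hne
    haveI := P.2.center_nontrivial
    refine exists_prime_orderOf_dvd_card' 2 ?_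
    obtain ⟨k, hk, he⟩ := IsPGroup.nontrivial_iff_card (P.2.to_subgroup _) |>.1
      (inferInstance : Nontrivial ↥(Subgroup.center ↥(P : Subgroup ↥H)))
    rw [he]
    exact dvd_pow_self 2 hk.ne'
  set w : ↥H := ((z : ↥(P : Subgroup ↥H)) : ↥H)
  have hw2 : orderOf w = 2 := by rw [orderOf_submonoid, orderOf_submonoid, hz]
  have hinv : ∀ x : ↥H, orderOf x = 2 → (x : G) * x = 1 ∧ (x : G) ≠ 1 := fun x hx => by
    constructor
    · have := orderOf_dvd_iff_pow_eq_one.1 hx.dvd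
      rw [pow_two] at this
      exact congrArg Subtype.val this
    · intro e
      rw [show x = 1 from Subtype.ext e, orderOf_one] at hx
      omega
  have hiso : ∀ g : ↥H, g * w * g⁻¹ ∈ (P : Subgroup ↥H) → g * w * g⁻¹ = w := fun g hg => by
    obtain ⟨h1, h2⟩ := hinv w hw2
    obtain ⟨h3, h4⟩ := hinv (g * w * g⁻¹) (by rw [Involution.orderOf_conj, hw2])
    refine Subtype.ext (hH _ (g * w * g⁻¹).2 _ w.2 h3 h1 h4 h2 ?_)
    exact congrArg (fun x : ↥(P : Subgroup ↥H) => ((x : ↥H) : G))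
      (Subgroup.mem_center_iff.1 z.2 ⟨_, hg⟩)
  obtain ⟨N, hN, hNo, hNz⟩ := S0215.result P w hw2 z.1.2 hiso
  refine (Group.isSolvable_iff_subgroup_quotient N).2 ⟨OddOrderTheorem.solvable hNo, ?_⟩
  haveI : Group.IsSolvable ↥(centralizer ((zpowers w : Subgroup ↥H) : Set ↥H)) := by
    obtain ⟨h1, h2⟩ := hinv w hw2
    haveI := h.isSolvable_centralizer_involution h1 h2
    refine Group.isSolvable_of_isSolvable_injective
      (f := ((H.subtype).comp (centralizer ((zpowers w : Subgroup ↥H) : Set ↥H)).subtype).codRestrict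
        (centralizer ({(w : G)} : Set G)) fun x => mem_centralizer_singleton_iff.2
          (congrArg Subtype.val (mem_centralizer_iff.1 x.2 w (mem_zpowers w))).symm) ?_
    intro x y e
    exact Subtype.ext (Subtype.ext (congrArg Subtype.val e :))
  have hcen : ((zpowers w).map (QuotientGroup.mk' N) : Set (↥H ⧸ N)) ⊆ Subgroup.center (↥H ⧸ N) := by
    have h1 : QuotientGroup.mk' N w ∈ Subgroup.center (↥H ⧸ N) := Subgroup.mem_center_iff.2 fun y => by
      obtain ⟨g, rfl⟩ := QuotientGroup.mk'_surjective N y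
      have := (QuotientGroup.eq_one_iff _).2 (hNz g)
      rw [← QuotientGroup.mk'_apply, map_mul, map_mul, map_mul, map_inv, map_inv] at this
      exact (mul_inv_eq_iff_eq_mul.1 (mul_inv_eq_one.1 this)).symm
    rintro _ ⟨v, hv, rfl⟩
    obtain ⟨k, rfl⟩ := mem_zpowers_iff.1 hv
    rw [map_zpow]
    exact zpow_mem h1 k
  have htop := Components.centralizer_map_of_coprime (p := 2) (R := zpowers w)
    (IsPGroup.of_card (n := 1) (by rw [Nat.card_zpowers, hw2, pow_one])) N (Nat.coprime_two_right.2 hNo)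
  rw [centralizer_eq_top_iff_subset.2 hcen] at htop
  haveI : Group.IsSolvable ↥((centralizer ((zpowers w : Subgroup ↥H) : Set ↥H)).map (QuotientGroup.mk' N)) :=
    Group.isSolvable_of_surjective ((QuotientGroup.mk' N).subgroupMap_surjective _)
  rw [← htop] at this
  exact Group.isSolvable_of_surjective (f := (Subgroup.topEquiv (G := ↥H ⧸ N)).toMonoidHom)
    Subgroup.topEquiv.surjective

/-- The elements of odd order in `C(S)` form a subgroup. -/
theorem exists_odd_centralizer : ∃ W : Subgroup G, Odd (Nat.card W) ∧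
    ∀ x : G, x ∈ W ↔ x ∈ centralizer ((S : Subgroup G) : Set G) ∧ Odd (orderOf x) := by
  haveI : Fact (Nat.Prime 2) := ⟨Nat.prime_two⟩
  set Y := centralizer ((S : Subgroup G) : Set G)
  have hAY : A ≤ Y := fun a ha => mem_centralizer_iff.2 fun s hs => (h.commute ha hs).symm
  have hp2 : ∀ x : ↥Y, (∃ k : ℕ, x ^ 2 ^ k = 1) → (x : G) ∈ A := by
    rintro x ⟨k, hk⟩
    have hxS : (x : G) ∈ (S : Subgroup G) := by
      obtain ⟨i, -, hi⟩ := (Nat.dvd_prime_pow Nat.prime_two).1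
        (orderOf_dvd_of_pow_eq_one (show (x : G) ^ 2 ^ k = 1 from congrArg Subtype.val hk))
      have hP : IsPGroup 2 ↥(zpowers (x : G)) := IsPGroup.of_card (n := i) (by rw [Nat.card_zpowers, hi])
      have hsup := hP.to_sup_of_normal_right' S.2 (zpowers_le.2 (centralizer_le_normalizer _ x.2))
      rw [← S.3 hsup le_sup_right]
      exact mem_sup_left (mem_zpowers _)
    exact (h.mem_center_iff ⟨x, hxS⟩).1 (Subgroup.mem_center_iff.2 fun s => Subtype.ext
      (mem_centralizer_iff.1 x.2 s s.2))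
  obtain ⟨P⟩ : Nonempty (Sylow 2 ↥Y) := inferInstance
  have hPA : ∀ p ∈ (P : Subgroup ↥Y), (p : G) ∈ A := fun p hp => hp2 p (by
    obtain ⟨k, hk⟩ := P.2 ⟨p, hp⟩
    exact ⟨k, congrArg Subtype.val hk⟩)
  have hcent : normalizer ((P : Subgroup ↥Y) : Set ↥Y) ≤ centralizer ((P : Subgroup ↥Y) : Set ↥Y) :=
    fun g _ => mem_centralizer_iff.2 fun p hp => Subtype.ext
      (mem_centralizer_iff.1 g.2 p (h.le (hPA p hp)))
  have hK := MonoidHom.ker_transferSylow_isComplement' P hcent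
  set K := (MonoidHom.transferSylow P hcent).ker
  have hKodd : Odd (Nat.card K) := by
    refine Nat.not_even_iff_odd.1 fun he => P.not_dvd_index ?_
    rw [hK.index_eq_card]
    exact even_iff_two_dvd.1 he
  refine ⟨K.map Y.subtype, by rwa [card_map_of_injective Y.subtype_injective], fun x => ⟨?_, ?_⟩⟩
  · rintro ⟨y, hy, rfl⟩
    exact ⟨y.2, hKodd.of_dvd_nat (by
      show orderOf (y : G) ∣ _
      rw [Subgroup.orderOf_coe]; exact Subgroup.orderOf_dvd_natCard _ hy)⟩
  · rintro ⟨hx, ho⟩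
    refine ⟨⟨x, hx⟩, MonoidHom.mem_ker.2 (orderOf_eq_one_iff.1 ?_), rfl⟩
    have h1 := orderOf_map_dvd (MonoidHom.transferSylow P hcent) ⟨x, hx⟩
    obtain ⟨k, hk⟩ := IsPGroup.iff_orderOf.1 P.2 (MonoidHom.transferSylow P hcent ⟨x, hx⟩)
    refine Nat.eq_one_of_dvd_coprimes ?_ h1 hk.dvd
    rw [Subgroup.orderOf_mk]
    exact (Nat.coprime_two_right.2 ho).pow_right k

/-- An element of odd order of `C(a)` moving `q ∈ S \ A` by elements of odd order lies in `O(C(a))`. -/
theorem mem_core_of_fixed {a : G} (ha : a ∈ A) (ha1 : a ≠ 1) {d : G}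
    (hd : d ∈ centralizer ({a} : Set G)) (hdo : Odd (orderOf d)) {q : G} (hq : q ∈ (S : Subgroup G))
    (hqA : q ∉ A) {D : Subgroup G} (hD : Odd (Nat.card D)) (hdq : d * q * d⁻¹ * q⁻¹ ∈ D) :
    d ∈ (Cfsg.oddCore ↥(centralizer ({a} : Set G))).map (centralizer ({a} : Set G)).subtype := by
  haveI : Fact (Nat.Prime 2) := ⟨Nat.prime_two⟩
  obtain ⟨O, hO, hOC, hOn, -, hfac, -⟩ := h.exists_cent_shape ha ha1
  set C := centralizer ({a} : Set G)
  have hSC : (S : Subgroup G) ≤ C := fun s hs => mem_centralizer_singleton_iff.2 (h.commute ha hs).symm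
  haveI : (O.subgroupOf C).Normal := ⟨fun x hx g => hOn g g.2 x hx⟩
  set f := QuotientGroup.mk' (O.subgroupOf C) with hf
  have hdisj : ∀ x ∈ O, x ∈ (S : Subgroup G) → x = 1 := fun x hx hxS => by
    obtain ⟨k, hk⟩ := IsPGroup.iff_orderOf.1 S.2 ⟨x, hxS⟩
    rw [Subgroup.orderOf_mk] at hk
    exact orderOf_eq_one_iff.1 (Nat.eq_one_of_dvd_coprimes ((Nat.coprime_two_right.2 hO).pow_right k)
      (Subgroup.orderOf_dvd_natCard _ hx) hk.dvd)
  have h2part : ∀ x : C, (x : G) ∈ (S : Subgroup G) → Odd (orderOf (f x)) → (x : G) = 1 := fun x hxS ho => by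
    refine hdisj _ ?_ hxS
    obtain ⟨k, hk⟩ := IsPGroup.iff_orderOf.1 S.2 ⟨x, hxS⟩
    rw [Subgroup.orderOf_mk, Subgroup.orderOf_coe] at hk
    exact mem_subgroupOf.1 ((QuotientGroup.eq_one_iff x).1 (orderOf_eq_one_iff.1
      (Nat.eq_one_of_dvd_coprimes ((Nat.coprime_two_right.2 ho).pow_right k) dvd_rfl
        (hk ▸ orderOf_map_dvd f x))))
  obtain ⟨ρ, hρ, n, hn, hnA, he⟩ := hfac d hd
  have hnC : n ∈ C := by simpa [he] using C.mul_mem (C.inv_mem (hOC hρ)) hd
  have hfd : f ⟨d, hd⟩ = f ⟨n, hnC⟩ := by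
    rw [show (⟨d, hd⟩ : C) = ⟨ρ, hOC hρ⟩ * ⟨n, hnC⟩ from Subtype.ext he, map_mul,
      show f ⟨ρ, hOC hρ⟩ = 1 from (QuotientGroup.eq_one_iff _).2 hρ, one_mul]
  have hfo : Odd (orderOf (f ⟨d, hd⟩)) := hdo.of_dvd_nat (by
    have := orderOf_map_dvd f ⟨d, hd⟩
    rwa [Subgroup.orderOf_mk] at this)
  -- `n` centralises `q`
  have hnq : n * q * n⁻¹ = q := by
    have hmem : n * q * n⁻¹ * q⁻¹ ∈ (S : Subgroup G) :=
      mul_mem ((mem_normalizer_iff.1 hn q).1 hq) (inv_mem hq)
    refine mul_inv_eq_one.1 (h2part ⟨_, hSC hmem⟩ hmem ?_)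
    have hx : f ⟨n * q * n⁻¹ * q⁻¹, hSC hmem⟩ = f ⟨d * q * d⁻¹ * q⁻¹,
        C.mul_mem (C.mul_mem (C.mul_mem hd (hSC hq)) (C.inv_mem hd)) (C.inv_mem (hSC hq))⟩ := by
      show f (⟨n, hnC⟩ * ⟨q, hSC hq⟩ * ⟨n, hnC⟩⁻¹ * ⟨q, hSC hq⟩⁻¹) =
        f (⟨d, hd⟩ * ⟨q, hSC hq⟩ * ⟨d, hd⟩⁻¹ * ⟨q, hSC hq⟩⁻¹)
      simp only [map_mul, map_inv, hfd]
    rw [hx]
    refine hD.of_dvd_nat ((orderOf_map_dvd f _).trans ?_)
    rw [Subgroup.orderOf_mk]
    exact Subgroup.orderOf_dvd_natCard _ hdq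
  -- `n` centralises `S`
  let σ : MulAut ↥(S : Subgroup G) := (S : Subgroup G).normalizerMonoidHom ⟨n, hn⟩
  have hσ : σ = 1 := by
    refine UFourSylow.aut_eq_one h.usylow.shape (fun z hz => Subtype.ext ?_) ?_
      (fun e => hqA ((h.mem_center_iff ⟨q, hq⟩).1 e)) (s := ⟨q, hq⟩) ?_
    · show n * (z : G) * n⁻¹ = z
      rw [← mem_centralizer_iff.1 hnA z ((h.mem_center_iff z).1 hz), mul_inv_cancel_right]
    · refine hdo.of_dvd_nat (orderOf_dvd_of_pow_eq_one ?_)
      rw [← map_pow]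
      refine MulEquiv.ext fun s => Subtype.ext ?_
      show n ^ orderOf d * (s : G) * (n ^ orderOf d)⁻¹ = s
      have hmem : n ^ orderOf d * (s : G) * (n ^ orderOf d)⁻¹ * (s : G)⁻¹ ∈ (S : Subgroup G) :=
        mul_mem ((mem_normalizer_iff.1 (pow_mem hn _) _).1 s.2) (inv_mem s.2)
      refine mul_inv_eq_one.1 (h2part ⟨_, hSC hmem⟩ hmem ?_)
      have h1 : f ⟨n ^ orderOf d * (s : G) * (n ^ orderOf d)⁻¹ * (s : G)⁻¹, hSC hmem⟩ = 1 := by
        show f (⟨n, hnC⟩ ^ orderOf d * ⟨s, hSC s.2⟩ * (⟨n, hnC⟩ ^ orderOf d)⁻¹ * ⟨s, hSC s.2⟩⁻¹) = 1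
        rw [map_mul, map_mul, map_mul, map_inv, map_inv, map_pow, ← hfd, ← map_pow,
          show (⟨d, hd⟩ : C) ^ orderOf d = 1 from Subtype.ext (pow_orderOf_eq_one d), map_one]
        group
      rw [h1, orderOf_one]
      exact odd_one
    · have : σ ⟨q, hq⟩ = ⟨q, hq⟩ := Subtype.ext hnq
      rw [this, inv_mul_cancel]
      exact one_mem _
  have hnS : n ∈ centralizer ((S : Subgroup G) : Set G) := mem_centralizer_iff.2 fun s hs => by
    have h1 : n * s * n⁻¹ = s := congrArg Subtype.val (DFunLike.congr_fun hσ (⟨s, hs⟩ : ↥(S : Subgroup G)) :)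
    exact (mul_inv_eq_iff_eq_mul.1 h1).symm
  -- `W O` is odd and normal in `C`
  obtain ⟨W, hWo, hW⟩ := h.exists_odd_centralizer
  have hWC : W ≤ C := fun x hx => mem_centralizer_singleton_iff.2
    (mem_centralizer_iff.1 ((hW x).1 hx).1 a (h.le ha)).symm
  have hWN : W ≤ normalizer (O : Set G) := fun x hx =>
    mem_normalizer_fintype fun y hy => hOn x (hWC hx) y hy
  have hOWo : Odd (Nat.card ↥(O ⊔ W)) := (by
    have h1 := Coprime.card_mul_inf O W
    rw [← Subgroup.coe_mul_of_right_le_normalizer_left O W hWN] at h1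
    exact (hO.mul hWo).of_dvd_nat ⟨_, h1.symm⟩)
  have hOWC : O ⊔ W ≤ C := sup_le hOC hWC
  haveI : ((O ⊔ W).subgroupOf C).Normal := by
    refine normal_subgroupOf_of_le_normalizer fun g hg => ?_
    obtain ⟨r, hr, m, hm, -, rfl⟩ := hfac g hg
    refine mul_mem (le_normalizer (mem_sup_left hr)) (mem_normalizer_fintype fun y hy => ?_)
    obtain ⟨o, ho, w, hw, rfl⟩ := (Coprime.mem_sup_iff hWN).1 hy
    have hmC : m ∈ C := by simpa using C.mul_mem (C.inv_mem (hOC hr)) hg
    rw [show m * (o * w) * m⁻¹ = m * o * m⁻¹ * (m * w * m⁻¹) by group]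
    refine mul_mem_sup (hOn m hmC o ho) ((hW _).2 ⟨mem_centralizer_iff.2 fun s hs => ?_, ?_⟩)
    · have h1 : m⁻¹ * s * m ∈ (S : Subgroup G) := by
        simpa using (mem_normalizer_iff.1 (inv_mem hm) s).1 hs
      have h2 := mem_centralizer_iff.1 ((hW w).1 hw).1 _ h1
      calc s * (m * w * m⁻¹) = m * (m⁻¹ * s * m * w) * m⁻¹ := by group
        _ = m * w * m⁻¹ * s := by rw [h2]; group
    · rw [Involution.orderOf_conj]
      exact ((hW w).1 hw).2
  have hle : (O ⊔ W).subgroupOf C ≤ Cfsg.oddCore ↥C := Cores.le_pPrimeCore inferInstance (by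
    rw [Nat.card_congr (subgroupOfEquivOfLe hOWC).toEquiv]
    exact Nat.coprime_two_right.2 hOWo)
  have hnW : n ∈ W := by
    refine (hW n).2 ⟨hnS, Nat.not_even_iff_odd.1 fun hev => ?_⟩
    obtain ⟨c, hc⟩ := even_iff_two_dvd.1 hev
    have hi : orderOf (n ^ c) = 2 := by
      rw [orderOf_pow_of_dvd (by intro e; rw [e] at hc; exact (orderOf_pos n).ne' (by simpa using hc))
        ⟨2, by rw [hc, mul_comm]⟩, hc, Nat.mul_div_left]
      have := orderOf_pos n
      omega
    have hiS : n ^ c ∈ (S : Subgroup G) := by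
      have hP : IsPGroup 2 ↥(zpowers (n ^ c)) := IsPGroup.of_card (n := 1)
        (by rw [Nat.card_zpowers, hi, pow_one])
      have hsup := hP.to_sup_of_normal_right' S.2
        (zpowers_le.2 (centralizer_le_normalizer _ (pow_mem hnS c)))
      rw [← S.3 hsup le_sup_right]
      exact mem_sup_left (mem_zpowers _)
    have h1 : n ^ c = 1 := h2part ⟨n ^ c, pow_mem hnC c⟩ hiS (by
      rw [show (⟨n ^ c, pow_mem hnC c⟩ : C) = ⟨n, hnC⟩ ^ c from rfl, map_pow, ← hfd]
      exact hfo.of_dvd_nat (orderOf_pow_dvd c))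
    rw [h1, orderOf_one] at hi
    omega
  exact ⟨⟨d, hd⟩, hle (mem_subgroupOf.2 (show d ∈ O ⊔ W from he ▸ mul_mem_sup hρ hnW)), rfl⟩

end Setting

end Cfsg.Agent.Goldschmidt.ThreeInv
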