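import Cfsg.Agent.EqLemmas
import Cfsg.Agent.Lib.Goldschmidt.ThreeInv.Targets
import Cfsg.Agent.Lib.Goldschmidt.ThreeInv.Solvable
import Cfsg.Agent.Lib.Goldschmidt.ThreeInv.FOne
import Cfsg.Agent.Lib.UFourSylow.Invariant

/-!
# Three involutions: the shape of `C(A)` and `C(a)` (owner: helper63)

Item 0 of `../THREE_INVOLUTIONS_SECTION3.md`.  With `S` the Sylow subgroup and `o = |O(C(A))|`:
* `Setting.exists_factor` : `C(A) = O(C(A)) (N(S) ∩ C(A))`;
* `Setting.mem_coreA_of_centralizes` : odd elements centralising `S` lie in `O(C(A))`;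
* `Setting.exists_index` : `|C(A)| = 64 e o` with `e ∈ {1, 3, 5}`;
* `TorusData.card_centralizer_A` : `|C(A)| = 320 o`;
* `TorusData.roots_trans` : `N(S) ∩ C(A)` is transitive on the roots of `a` in `S`;
* `TorusData.le_of_normal` : a normal subgroup of `C(A)` outside `O(C(A)) S` contains `A`;
* `TorusData.centralizer_eq`, `inf_eq_bot`, `card_centralizer` : `C(a) = T a ⋊ C(A)`.
-/

set_option autoImplicit false
set_option linter.style.haveILetI false
set_option linter.unusedSectionVars false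

namespace Cfsg.Agent.Goldschmidt.ThreeInv

open Subgroup

universe u

variable {G : Type u} [Group G] [Finite G] {S : Sylow 2 G} {A : Subgroup G}

theorem coreA_le (A : Subgroup G) : coreA A ≤ centralizer (A : Set G) := map_subtype_le _

theorem odd_coreA (A : Subgroup G) : Odd (Nat.card ↥(coreA A)) := by
  rw [coreA, card_map_of_injective (centralizer (A : Set G)).subtype_injective]
  exact Nat.coprime_two_right.1 (Cores.coprime_card_pPrimeCore 2)

theorem conj_mem_coreA {g x : G} (hg : g ∈ centralizer (A : Set G)) (hx : x ∈ coreA A) :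
    g * x * g⁻¹ ∈ coreA A := by
  obtain ⟨r, hr, rfl⟩ := hx
  exact ⟨⟨g, hg⟩ * r * ⟨g, hg⟩⁻¹,
    (inferInstance : (Cfsg.oddCore ↥(centralizer (A : Set G))).Normal).conj_mem r hr _, rfl⟩

theorem le_coreA {K : Subgroup G} (hK : K ≤ centralizer (A : Set G)) (hodd : Odd (Nat.card K))
    (hn : ∀ g ∈ centralizer (A : Set G), ∀ x ∈ K, g * x * g⁻¹ ∈ K) : K ≤ coreA A := by
  set C := centralizer (A : Set G)
  have hle : K.subgroupOf C ≤ Cfsg.pPrimeCore 2 ↥C := Cores.le_pPrimeCore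
    (⟨fun x hx g => mem_subgroupOf.2 (hn g g.2 x (mem_subgroupOf.1 hx))⟩)
    (by rw [Nat.card_congr (subgroupOfEquivOfLe hK).toEquiv]; exact Nat.coprime_two_right.2 hodd)
  exact fun x hx => ⟨⟨x, hK hx⟩, hle (mem_subgroupOf.2 hx), rfl⟩

/-- An element of odd order in a power of two cyclic group: the odd part of an element. -/
theorem mem_of_parts {H : Subgroup G} {n : G} (h1 : ∀ j : ℕ, Odd (orderOf (n ^ j)) → n ^ j ∈ H)
    (h2 : ∀ j : ℕ, (∃ i, orderOf (n ^ j) = 2 ^ i) → n ^ j ∈ H) : n ∈ H := by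
  obtain ⟨k, m, hm, hk⟩ := Nat.exists_eq_two_pow_mul_odd (orderOf_pos n).ne'
  have e1 : orderOf (n ^ 2 ^ k) = m := by
    rw [orderOf_pow_of_dvd (by positivity) ⟨m, hk⟩, hk, Nat.mul_div_cancel_left _ (by positivity)]
  have e2 : orderOf (n ^ m) = 2 ^ k := by
    rw [orderOf_pow_of_dvd hm.pos.ne' ⟨2 ^ k, by rw [hk, mul_comm]⟩, hk, Nat.mul_div_cancel _ hm.pos]
  have hcop : Nat.Coprime (2 ^ k) m := (Nat.coprime_two_left.2 hm).pow_left k
  obtain ⟨x, y, hxy⟩ : ∃ x y : ℤ, (2 ^ k : ℕ) * x + (m : ℤ) * y = 1 :=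
    ⟨_, _, by rw [← Nat.gcd_eq_gcd_ab, hcop.gcd_eq_one]; rfl⟩
  have h := H.mul_mem (H.zpow_mem (h1 _ (e1 ▸ hm)) x) (H.zpow_mem (h2 _ ⟨k, e2⟩) y)
  rw [← zpow_natCast n (2 ^ k), ← zpow_natCast n m, ← zpow_mul, ← zpow_mul, ← zpow_add, hxy, zpow_one] at h
  exact h

namespace Setting

variable (h : Setting S A)

include h

theorem S_le_centralizer : (S : Subgroup G) ≤ centralizer (A : Set G) := h.central

theorem coreA_disjoint {x : G} (hx : x ∈ coreA A) (hxS : x ∈ (S : Subgroup G)) : x = 1 := by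
  haveI : Fact (Nat.Prime 2) := ⟨Nat.prime_two⟩
  obtain ⟨k, hk⟩ := IsPGroup.iff_orderOf.1 S.2 ⟨x, hxS⟩
  rw [Subgroup.orderOf_mk] at hk
  exact orderOf_eq_one_iff.1 (Nat.eq_one_of_dvd_coprimes
    ((Nat.coprime_two_right.2 (odd_coreA A)).pow_right k) (Subgroup.orderOf_dvd_natCard _ hx) hk.dvd)

/-- Elements of `O(C(A))` normalising `S` centralise it. -/
theorem coreA_commute {x : G} (hx : x ∈ coreA A) (hxN : x ∈ normalizer ((S : Subgroup G) : Set G)) {s : G}
    (hs : s ∈ (S : Subgroup G)) : x * s * x⁻¹ = s := by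
  refine mul_inv_eq_one.1 (h.coreA_disjoint ?_ (mul_mem ((mem_normalizer_iff.1 hxN s).1 hs) (inv_mem hs)))
  rw [show x * s * x⁻¹ * s⁻¹ = x * (s * x⁻¹ * s⁻¹) by group]
  exact mul_mem hx (conj_mem_coreA (h.central hs) (inv_mem hx))

/-- A 2-element normalising `S` lies in `S`. -/
theorem mem_of_two_power {x : G} (hxN : x ∈ normalizer ((S : Subgroup G) : Set G)) {i : ℕ}
    (hi : orderOf x = 2 ^ i) : x ∈ (S : Subgroup G) := by
  haveI : Fact (Nat.Prime 2) := ⟨Nat.prime_two⟩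
  have hP : IsPGroup 2 ↥(zpowers x) := IsPGroup.of_card (n := i) (by rw [Nat.card_zpowers, hi])
  rw [← S.3 (hP.to_sup_of_normal_right' S.2 (zpowers_le.2 hxN)) le_sup_right]
  exact mem_sup_left (mem_zpowers x)

variable [IsSimpleGroup G]

theorem exists_ne_one : ∃ a ∈ A, a ≠ 1 := by
  by_contra hno
  push Not at hno
  have := h.card
  rw [(Subgroup.eq_bot_iff_forall A).2 hno, Subgroup.card_bot] at this
  omega

/-- `C(A) = O(C(A)) (N(S) ∩ C(A))`. -/
theorem exists_factor {g : G} (hg : g ∈ centralizer (A : Set G)) :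
    ∃ k ∈ coreA A, ∃ n, n ∈ normalizer ((S : Subgroup G) : Set G) ∧ n ∈ centralizer (A : Set G) ∧
      g = k * n := by
  obtain ⟨a, ha, ha1⟩ := h.exists_ne_one
  obtain ⟨O, hO, hOC, hOn, -, hfac, -⟩ := h.exists_cent_shape ha ha1
  have hle : centralizer (A : Set G) ≤ centralizer ({a} : Set G) := fun x hx =>
    mem_centralizer_singleton_iff.2 (mem_centralizer_iff.1 hx a ha).symm
  obtain ⟨ρ, hρ, n, hn, hnA, rfl⟩ := hfac g (hle hg)
  refine ⟨ρ, le_coreA inf_le_right (hO.of_dvd_nat (card_dvd_of_le (inf_le_left : O ⊓ centralizer (A : Set G) ≤ O)))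
    (fun c hc x hx => ⟨hOn c (hle hc) x hx.1, (centralizer (A : Set G)).mul_mem ((centralizer (A : Set G)).mul_mem hc hx.2)
      ((centralizer (A : Set G)).inv_mem hc)⟩) ⟨hρ, ?_⟩, n, hn, hnA, rfl⟩
  simpa using (centralizer (A : Set G)).mul_mem hg ((centralizer (A : Set G)).inv_mem hnA)

/-- An element of odd order centralising `S` lies in `O(C(A))`. -/
theorem mem_coreA_of_centralizes {x : G} (hx : x ∈ centralizer ((S : Subgroup G) : Set G))
    (ho : Odd (orderOf x)) : x ∈ coreA A := by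
  obtain ⟨W, hWo, hW⟩ := h.exists_odd_centralizer
  set C := centralizer (A : Set G)
  have hWC : W ≤ C := fun w hw => mem_centralizer_iff.2 fun a ha =>
    mem_centralizer_iff.1 ((hW w).1 hw).1 a (h.le ha)
  have hWN : W ≤ normalizer (coreA A : Set G) := fun w hw =>
    mem_normalizer_fintype fun y hy => conj_mem_coreA (hWC hw) hy
  have hodd : Odd (Nat.card ↥(coreA A ⊔ W)) := by
    have h1 := Coprime.card_mul_inf (coreA A) W
    rw [← Subgroup.coe_mul_of_right_le_normalizer_left (coreA A) W hWN] at h1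
    exact ((odd_coreA A).mul hWo).of_dvd_nat ⟨_, h1.symm⟩
  refine le_coreA (sup_le (coreA_le A) hWC) hodd (fun g hg y hy => ?_) (mem_sup_right ((hW x).2 ⟨hx, ho⟩))
  obtain ⟨k, hk, n, hn, hnA, rfl⟩ := h.exists_factor hg
  obtain ⟨c, hc, w, hw, rfl⟩ := (Coprime.mem_sup_iff hWN).1 hy
  rw [show k * n * (c * w) * (k * n)⁻¹ = k * (n * c * n⁻¹) * (n * w * n⁻¹) * k⁻¹ by group]
  refine mul_mem (mul_mem (mul_mem (mem_sup_left hk) (mem_sup_left (conj_mem_coreA hnA hc)))
    (mem_sup_right ((hW _).2 ⟨mem_centralizer_iff.2 fun s hs => ?_, ?_⟩))) (mem_sup_left (inv_mem hk))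
  · have h1 : n⁻¹ * s * n ∈ (S : Subgroup G) := by simpa using (mem_normalizer_iff.1 (inv_mem hn) s).1 hs
    have h2 := mem_centralizer_iff.1 ((hW w).1 hw).1 _ h1
    calc s * (n * w * n⁻¹) = n * (n⁻¹ * s * n * w) * n⁻¹ := by group
      _ = n * w * n⁻¹ * s := by rw [h2]; group
  · rw [Involution.orderOf_conj]
    exact ((hW w).1 hw).2

/-- An element of odd order of `N(S) ∩ C(A)` fixing a coset `σ A ≠ A` lies in `O(C(A))`. -/
theorem mem_coreA_of_fix {n : G} (hn : n ∈ normalizer ((S : Subgroup G) : Set G))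
    (hnA : n ∈ centralizer (A : Set G)) (ho : Odd (orderOf n)) {σ : G} (hσ : σ ∈ (S : Subgroup G))
    (hσA : σ ∉ A) (hfix : σ⁻¹ * (n * σ * n⁻¹) ∈ A) : n ∈ coreA A := by
  let τ : MulAut ↥(S : Subgroup G) := (S : Subgroup G).normalizerMonoidHom ⟨n, hn⟩
  have hτ : τ = 1 := by
    refine UFourSylow.aut_eq_one h.usylow.shape (fun z hz => Subtype.ext ?_) ?_
      (fun e => hσA ((h.mem_center_iff ⟨σ, hσ⟩).1 e)) (s := ⟨σ, hσ⟩) ((h.mem_center_iff _).2 hfix)
    · show n * (z : G) * n⁻¹ = z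
      rw [← mem_centralizer_iff.1 hnA z ((h.mem_center_iff z).1 hz), mul_inv_cancel_right]
    · exact ho.of_dvd_nat ((orderOf_map_dvd _ _).trans (by rw [Subgroup.orderOf_mk]))
  refine h.mem_coreA_of_centralizes (mem_centralizer_iff.2 fun s hs => ?_) ho
  have h1 : n * s * n⁻¹ = s := congrArg Subtype.val (DFunLike.congr_fun hτ (⟨s, hs⟩ : ↥(S : Subgroup G)) :)
  exact (mul_inv_eq_iff_eq_mul.1 h1).symm

/-- A root of an involution of `A` lies outside `A`. -/
theorem exists_root {a : G} (ha : a ∈ A) (ha1 : a ≠ 1) : ∃ σ ∈ (S : Subgroup G), σ * σ = a := by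
  by_contra hno
  push Not at hno
  have h20 := h.card_roots ha ha1
  haveI : IsEmpty {s : ↥(S : Subgroup G) // (s : G) * s = a} := ⟨fun s => hno _ s.1.2 s.2⟩
  rw [Nat.card_of_isEmpty] at h20
  omega

theorem index_ne_three {e : ℕ} {L : Subgroup ↥(centralizer (A : Set G))} [L.Normal] (he : L.index = e)
    (hL : ∀ x : ↥(centralizer (A : Set G)),
      x ∈ L ↔ (x : G) ∈ coreA A ⊔ (S : Subgroup G)) : e ≠ 3 := by
  rintro rfl
  haveI : Fact (Nat.Prime 3) := ⟨Nat.prime_three⟩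
  obtain ⟨P⟩ : Nonempty (Sylow 3 ↥(centralizer (A : Set G))) := inferInstance
  have hnle : ¬ (P : Subgroup ↥(centralizer (A : Set G))) ≤ L := fun hle => P.not_dvd_index
    ((dvd_of_eq he.symm).trans (Subgroup.index_dvd_of_le hle))
  obtain ⟨x, hx, hxL⟩ := Set.not_subset.1 hnle
  refine hxL ((hL x).2 ?_)
  obtain ⟨k, hk, n, hn, hnA, hxn⟩ := h.exists_factor x.2
  rw [hxn]
  refine mul_mem (mem_sup_left hk) ?_
  obtain ⟨a, ha, ha1⟩ := h.exists_ne_one
  obtain ⟨i, hi⟩ := P.2 ⟨x, hx⟩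
  have hk3 : n ^ 3 ^ i ∈ coreA A := by
    have hx1 : (x : G) ^ 3 ^ i = 1 := congrArg (fun y : ↥(P : Subgroup ↥(centralizer (A : Set G))) =>
      ((y : ↥(centralizer (A : Set G))) : G)) hi
    have hKn : (Cfsg.oddCore ↥(centralizer (A : Set G))).Normal := inferInstance
    set q := QuotientGroup.mk' (Cfsg.oddCore ↥(centralizer (A : Set G)))
    have h1 : q x = q ⟨n, hnA⟩ := by
      rw [show x = ⟨k, coreA_le A hk⟩ * ⟨n, hnA⟩ from Subtype.ext hxn, map_mul]
      rw [show q ⟨k, coreA_le A hk⟩ = 1 from (QuotientGroup.eq_one_iff _).2 (by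
        obtain ⟨r, hr, e⟩ := hk
        exact (Subtype.ext e : r = ⟨k, _⟩) ▸ hr), one_mul]
    have h2 : q (⟨n, hnA⟩ ^ 3 ^ i) = 1 := by
      rw [map_pow, ← h1, ← map_pow, show x ^ 3 ^ i = 1 from Subtype.ext hx1, map_one]
    exact ⟨_, (QuotientGroup.eq_one_iff _).1 h2, rfl⟩
  have hstep : ∀ j : ℕ, Odd (orderOf (n ^ j)) → n ^ j ∈ coreA A := by
    intro j hj
    have hjN := pow_mem hn j
    let τ : MulAut ↥(S : Subgroup G) := (S : Subgroup G).normalizerMonoidHom ⟨n ^ j, hjN⟩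
    have hτ : τ = 1 := by
      refine aut_three_power h.usylow i (fun z hz => Subtype.ext ?_) ?_
      · show n ^ j * (z : G) * (n ^ j)⁻¹ = z
        rw [← mem_centralizer_iff.1 (pow_mem hnA j) z ((h.mem_center_iff z).1 hz), mul_inv_cancel_right]
      · rw [← map_pow]
        refine MulEquiv.ext fun s => Subtype.ext ?_
        show (n ^ j) ^ 3 ^ i * (s : G) * ((n ^ j) ^ 3 ^ i)⁻¹ = s
        rw [← pow_mul, mul_comm j, pow_mul]
        exact h.coreA_commute (pow_mem hk3 j) (pow_mem (pow_mem hn _) j) s.2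
    refine h.mem_coreA_of_centralizes (mem_centralizer_iff.2 fun s hs => ?_) hj
    have h1 : n ^ j * s * (n ^ j)⁻¹ = s :=
      congrArg Subtype.val (DFunLike.congr_fun hτ (⟨s, hs⟩ : ↥(S : Subgroup G)) :)
    exact (mul_inv_eq_iff_eq_mul.1 h1).symm
  exact mem_of_parts (fun j hj => mem_sup_left (hstep j hj))
    fun j ⟨l, hl⟩ => mem_sup_right (h.mem_of_two_power (pow_mem hn j) hl)

/-- `|C(A)| = 64 e o` with `e ∈ {1, 5}`; for `e = 5` the roots of `a` form one orbit of `N(S) ∩ C(A)`. -/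
theorem exists_index {a : G} (ha : a ∈ A) (ha1 : a ≠ 1) :
    ∃ e : ℕ, (e = 1 ∨ e = 5) ∧
      Nat.card ↥(centralizer (A : Set G)) = 64 * e * Nat.card ↥(coreA A) ∧
      (e = 1 → ∀ g ∈ centralizer (A : Set G), g ∈ coreA A ⊔ (S : Subgroup G)) ∧
      (e = 5 → ∀ σ ∈ (S : Subgroup G), ∀ σ' ∈ (S : Subgroup G), σ * σ = a → σ' * σ' = a →
        ∃ g, g ∈ normalizer ((S : Subgroup G) : Set G) ∧ g ∈ centralizer (A : Set G) ∧ g * σ * g⁻¹ = σ') := by
  classical
  set C := centralizer (A : Set G) with hC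
  set L₀ := coreA A ⊔ (S : Subgroup G) with hL₀
  have hSN : (S : Subgroup G) ≤ normalizer (coreA A : Set G) := fun s hs =>
    mem_normalizer_fintype fun y hy => conj_mem_coreA (h.central hs) hy
  have hLC : L₀ ≤ C := sup_le (coreA_le A) h.central
  have hLn : ∀ g ∈ C, g ∈ normalizer (L₀ : Set G) := fun g hg => by
    obtain ⟨k, hk, n, hn, hnA, rfl⟩ := h.exists_factor hg
    refine mul_mem (le_normalizer (mem_sup_left hk)) (mem_normalizer_fintype fun y hy => ?_)
    obtain ⟨c, hc, s, hs, rfl⟩ := (Coprime.mem_sup_iff hSN).1 hy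
    rw [show n * (c * s) * n⁻¹ = n * c * n⁻¹ * (n * s * n⁻¹) by group]
    exact mul_mem_sup (conj_mem_coreA hnA hc) ((mem_normalizer_iff.1 hn s).1 hs)
  haveI : (L₀.subgroupOf C).Normal := normal_subgroupOf_of_le_normalizer hLn
  have hcardL : Nat.card ↥(L₀.subgroupOf C) = 64 * Nat.card ↥(coreA A) := by
    rw [Nat.card_congr (subgroupOfEquivOfLe hLC).toEquiv, hL₀, Coprime.card_sup_of_coprime hSN ?_,
      h.card_S, mul_comm]
    rw [h.card_S, show 64 = 2 ^ 6 by rfl]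
    exact ((Nat.coprime_two_right.2 (odd_coreA A)).pow_right 6)
  set e := (L₀.subgroupOf C).index with he
  have hcardC : Nat.card ↥C = 64 * e * Nat.card ↥(coreA A) := by
    rw [← (L₀.subgroupOf C).card_mul_index, hcardL, ← he]; ring
  have hodd : Odd e := by
    refine Nat.not_even_iff_odd.1 fun hev => ?_
    have h2 : 2 ∣ (S : Subgroup G).index := by
      refine dvd_trans ?_ (Subgroup.relIndex_dvd_index_of_le (h.central : (S : Subgroup G) ≤ C))
      rw [Subgroup.relIndex]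
      exact (even_iff_two_dvd.1 hev).trans (Subgroup.index_dvd_of_le fun x hx =>
        mem_subgroupOf.2 (mem_sup_right (mem_subgroupOf.1 hx)))
    exact S.not_dvd_index h2
  obtain ⟨σ, hσ, hσa⟩ := h.exists_root ha ha1
  have hσA : σ ∉ A := h.not_mem_of_sq ha1 hσa
  -- representatives in `N(S)`
  have hrep : ∀ q : ↥C ⧸ L₀.subgroupOf C, ∃ n, ∃ hn : n ∈ C,
      n ∈ normalizer ((S : Subgroup G) : Set G) ∧ (QuotientGroup.mk ⟨n, hn⟩ : ↥C ⧸ L₀.subgroupOf C) = q := by
    intro q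
    obtain ⟨⟨g, hg⟩, rfl⟩ := QuotientGroup.mk_surjective q
    obtain ⟨k, hk, n, hn, hnA, rfl⟩ := h.exists_factor hg
    refine ⟨n, hnA, hn, (QuotientGroup.eq).2 (mem_subgroupOf.2 ?_)⟩
    show n⁻¹ * (k * n) ∈ L₀
    rw [show n⁻¹ * (k * n) = n⁻¹ * k * n⁻¹⁻¹ by group]
    exact mem_sup_left (conj_mem_coreA (inv_mem hnA) hk)
  choose r hr hrN hrq using hrep
  let F : (↥C ⧸ L₀.subgroupOf C) × ↥A → {s : ↥(S : Subgroup G) // (s : G) * s = a} := fun p =>
    ⟨⟨r p.1 * σ * (r p.1)⁻¹ * p.2, mul_mem ((mem_normalizer_iff.1 (hrN p.1) σ).1 hσ) (h.le p.2.2)⟩, by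
      have hc := h.commute p.2.2 ((mem_normalizer_iff.1 (hrN p.1) σ).1 hσ)
      show r p.1 * σ * (r p.1)⁻¹ * (p.2 : G) * (r p.1 * σ * (r p.1)⁻¹ * p.2) = a
      calc r p.1 * σ * (r p.1)⁻¹ * (p.2 : G) * (r p.1 * σ * (r p.1)⁻¹ * p.2)
          = r p.1 * σ * (r p.1)⁻¹ * ((p.2 : G) * (r p.1 * σ * (r p.1)⁻¹)) * p.2 := by group
        _ = r p.1 * (σ * σ) * (r p.1)⁻¹ * ((p.2 : G) * p.2) := by rw [hc]; group
        _ = a := by rw [h.sq p.2.2, mul_one, hσa, ← mem_centralizer_iff.1 (hr p.1) a ha, mul_inv_cancel_right]⟩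
  have hF : Function.Injective F := by
    rintro ⟨p, z⟩ ⟨p', z'⟩ e
    have e1 : r p * σ * (r p)⁻¹ * (z : G) = r p' * σ * (r p')⁻¹ * z' :=
      congrArg (fun u : {s : ↥(S : Subgroup G) // (s : G) * s = a} => ((u.1 : ↥(S : Subgroup G)) : G)) e
    set n := (r p)⁻¹ * r p' with hn
    have hnA : n ∈ C := mul_mem (inv_mem (hr p)) (hr p')
    have hnN : n ∈ normalizer ((S : Subgroup G) : Set G) := mul_mem (inv_mem (hrN p)) (hrN p')
    have hnσ : σ⁻¹ * (n * σ * n⁻¹) ∈ A := by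
      have h1 : n * σ * n⁻¹ = σ * ((r p)⁻¹ * ((z : G) * (z' : G)⁻¹) * r p) := by
        calc n * σ * n⁻¹ = (r p)⁻¹ * (r p' * σ * (r p')⁻¹ * (z' : G)) * (z' : G)⁻¹ * r p := by rw [hn]; group
          _ = σ * ((r p)⁻¹ * ((z : G) * (z' : G)⁻¹) * r p) := by rw [← e1]; group
      rw [h1, inv_mul_cancel_left]
      have hzz := A.mul_mem z.2 (A.inv_mem z'.2)
      rw [mul_assoc, mem_centralizer_iff.1 (hr p) _ hzz, inv_mul_cancel_left]
      exact hzz
    have hnL : n ∈ L₀ := by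
      refine mem_of_parts (fun j hj => mem_sup_left ?_)
        fun j ⟨l, hl⟩ => mem_sup_right (h.mem_of_two_power (pow_mem hnN j) hl)
      refine h.mem_coreA_of_fix (pow_mem hnN j) (pow_mem hnA j) hj hσ hσA ?_
      clear hj
      induction j with
      | zero => simp
      | succ j ih =>
        obtain ⟨y, hy, hy'⟩ : ∃ y ∈ A, n ^ j * σ * (n ^ j)⁻¹ = σ * y := ⟨_, ih, by group⟩
        have h2 : n ^ (j + 1) * σ * (n ^ (j + 1))⁻¹ = n * σ * n⁻¹ * (n * y * n⁻¹) := by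
          rw [pow_succ', show n * n ^ j * σ * (n * n ^ j)⁻¹ = n * (n ^ j * σ * (n ^ j)⁻¹) * n⁻¹ by group, hy']
          group
        rw [h2, ← mem_centralizer_iff.1 hnA y hy, mul_inv_cancel_right, ← mul_assoc]
        exact A.mul_mem hnσ hy
    have hp : p = p' := by
      rw [← hrq p, ← hrq p']
      exact (QuotientGroup.eq).2 (mem_subgroupOf.2 hnL)
    subst hp
    rw [Prod.mk.injEq]
    exact ⟨rfl, Subtype.ext (mul_left_cancel e1)⟩
  have hle : e * 4 ≤ 20 := by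
    rw [← h.card_roots ha ha1, ← h.card, he, Subgroup.index_eq_card, ← Nat.card_prod]
    exact Nat.card_le_card_of_injective F hF
  have he3 : e ≠ 3 := h.index_ne_three (L := L₀.subgroupOf C) rfl fun x => mem_subgroupOf
  refine ⟨e, ?_, hcardC, fun he1 g hg => ?_, fun he5 s hs s' hs' hsa hsa' => ?_⟩
  · obtain ⟨k, hk⟩ := hodd
    omega
  · have := Subgroup.index_eq_one.1 (he.symm.trans he1)
    exact mem_subgroupOf.1 (this ▸ mem_top (⟨g, hg⟩ : ↥C))
  have hsur : Function.Surjective F := ((Nat.bijective_iff_injective_and_card F).2 ⟨hF, by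
    rw [Nat.card_prod, ← Subgroup.index_eq_card, ← he, he5, h.card, h.card_roots ha ha1]⟩).2
  have key : ∀ t ∈ (S : Subgroup G), t * t = a →
      ∃ g, g ∈ normalizer ((S : Subgroup G) : Set G) ∧ g ∈ C ∧ g * σ * g⁻¹ = t := by
    intro t ht hta
    obtain ⟨⟨p, z⟩, hp⟩ := hsur ⟨⟨t, ht⟩, hta⟩
    have e1 : r p * σ * (r p)⁻¹ * (z : G) = t :=
      congrArg (fun u : {s : ↥(S : Subgroup G) // (s : G) * s = a} => ((u.1 : ↥(S : Subgroup G)) : G)) hp
    set σ₁ : ↥(S : Subgroup G) := ⟨r p * σ * (r p)⁻¹, (mem_normalizer_iff.1 (hrN p) σ).1 hσ⟩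
    obtain ⟨w, hw⟩ := h.usylow.shape.exists_conj (s := σ₁)
      (fun ec => by
        have h1 : r p * σ * (r p)⁻¹ ∈ A := (h.mem_center_iff σ₁).1 ec
        refine hσA ?_
        have h2 := mem_centralizer_iff.1 (hr p) _ h1
        have h3 : r p * σ = r p * (r p * σ * (r p)⁻¹) := by rw [← h2]; group
        exact (mul_left_cancel h3) ▸ h1)
      (c := ⟨z, h.le z.2⟩) ((h.mem_center_iff _).2 z.2)
    have hw' : (w : G) * (r p * σ * (r p)⁻¹) * (w : G)⁻¹ = z * (r p * σ * (r p)⁻¹) :=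
      congrArg Subtype.val hw
    refine ⟨w * r p, mul_mem (le_normalizer w.2) (hrN p), mul_mem (h.central w.2) (hr p), ?_⟩
    rw [show (w : G) * r p * σ * ((w : G) * r p)⁻¹ = w * (r p * σ * (r p)⁻¹) * (w : G)⁻¹ by group, hw',
      h.commute z.2 σ₁.2, e1]
  obtain ⟨g, hgN, hgC, hg⟩ := key s hs hsa
  obtain ⟨g', hgN', hgC', hg'⟩ := key s' hs' hsa'
  refine ⟨g' * g⁻¹, mul_mem hgN' (inv_mem hgN), mul_mem hgC' (inv_mem hgC), ?_⟩
  rw [← hg, ← hg']; group

end Setting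

namespace TorusData

variable {T : G → Subgroup G} (hT : TorusData S A T) (h : Setting S A) {a : G} (ha : a ∈ A) (ha1 : a ≠ 1)

include hT h ha ha1

/-- `T a ∩ C(A) = 1`. -/
theorem inf_eq_bot : T a ⊓ centralizer (A : Set G) = ⊥ := by
  classical
  refine (Subgroup.eq_bot_iff_forall _).2 fun t ht => ?_
  obtain ⟨b, hb, hb1, hba⟩ : ∃ b ∈ A, b ≠ 1 ∧ b ≠ a := by
    by_contra hno
    push Not at hno
    have : A ≤ zpowers a := fun x hx => by
      by_cases hx1 : x = 1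
      · rw [hx1]; exact one_mem _
      · rw [hno x hx hx1]; exact mem_zpowers a
    have h1 := Subgroup.card_le_of_le this
    rw [h.card, Nat.card_zpowers] at h1
    have h2 := orderOf_le_of_pow_eq_one (n := 2) (by norm_num) (by rw [pow_two]; exact h.sq ha : a ^ 2 = 1)
    omega
  have h1 := hT.inverts a ha ha1 b hb hb1 hba t ht.1
  rw [mem_centralizer_iff.1 ht.2 b hb, mul_inv_cancel_right] at h1
  obtain ⟨m, hm⟩ := (hT.odd a ha ha1).of_dvd_nat (Subgroup.orderOf_dvd_natCard _ ht.1)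
  have h2 := pow_orderOf_eq_one t
  rw [hm, pow_succ, pow_mul, pow_two, show t * t = 1 from mul_eq_one_iff_eq_inv.2 h1, one_pow, one_mul] at h2
  exact h2

theorem centralizer_A_le : centralizer (A : Set G) ≤ centralizer ({a} : Set G) := fun _ hx =>
  mem_centralizer_singleton_iff.2 (mem_centralizer_iff.1 hx a ha).symm

theorem centralizer_eq : centralizer ({a} : Set G) = T a ⊔ centralizer (A : Set G) :=
  le_antisymm (hT.gen a ha ha1) (sup_le (hT.le a ha ha1) (centralizer_A_le hT h ha ha1))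

theorem exists_mul {g : G} (hg : g ∈ centralizer ({a} : Set G)) :
    ∃ t ∈ T a, ∃ c ∈ centralizer (A : Set G), g = t * c := by
  obtain ⟨t, ht, c, hc, e⟩ := (Coprime.mem_sup_iff
    ((centralizer_A_le hT h ha ha1).trans (hT.normal a ha ha1))).1 (hT.gen a ha ha1 hg)
  exact ⟨t, ht, c, hc, e.symm⟩

theorem card_centralizer :
    Nat.card ↥(centralizer ({a} : Set G)) = Nat.card ↥(T a) * Nat.card ↥(centralizer (A : Set G)) := by
  have h1 := Coprime.card_mul_inf (T a) (centralizer (A : Set G))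
  rw [← Subgroup.coe_mul_of_right_le_normalizer_left (T a) _
    ((centralizer_A_le hT h ha ha1).trans (hT.normal a ha ha1)), ← centralizer_eq hT h ha ha1,
    inf_eq_bot hT h ha ha1, card_bot, mul_one] at h1
  exact h1

/-- `O(C(a)) = T a O(C(A))` is odd and normal in `C(a)`. -/
theorem odd_sup : Odd (Nat.card ↥(T a ⊔ coreA A)) := by
  have hle : coreA A ≤ normalizer (T a : Set G) :=
    ((coreA_le A).trans (centralizer_A_le hT h ha ha1)).trans (hT.normal a ha ha1)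
  have h1 := Coprime.card_mul_inf (T a) (coreA A)
  rw [← Subgroup.coe_mul_of_right_le_normalizer_left (T a) (coreA A) hle] at h1
  exact ((hT.odd a ha ha1).mul (odd_coreA A)).of_dvd_nat ⟨_, h1.symm⟩

theorem conj_mem_sup {g x : G} (hg : g ∈ centralizer ({a} : Set G)) (hx : x ∈ T a ⊔ coreA A) :
    g * x * g⁻¹ ∈ T a ⊔ coreA A := by
  obtain ⟨t, ht, c, hc, rfl⟩ := exists_mul hT h ha ha1 hg
  obtain ⟨u, hu, k, hk, rfl⟩ := (Coprime.mem_sup_iff
    (((coreA_le A).trans (centralizer_A_le hT h ha ha1)).trans (hT.normal a ha ha1))).1 hx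
  rw [show t * c * (u * k) * (t * c)⁻¹ = t * (c * u * c⁻¹) * (c * k * c⁻¹) * t⁻¹ by group]
  exact mul_mem (mul_mem (mul_mem (mem_sup_left ht) (mem_sup_left
    ((mem_normalizer_iff.1 (hT.normal a ha ha1 (centralizer_A_le hT h ha ha1 hc)) u).1 hu)))
    (mem_sup_right (conj_mem_coreA hc hk))) (mem_sup_left (inv_mem ht))

variable [IsSimpleGroup G]

/-- `|C(A)| = 320 o`, and the roots of `a` in `S` form one orbit of `N(S) ∩ C(A)`. -/
theorem card_and_trans : Nat.card ↥(centralizer (A : Set G)) = 320 * Nat.card ↥(coreA A) ∧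
    ∀ σ ∈ (S : Subgroup G), ∀ σ' ∈ (S : Subgroup G), σ * σ = a → σ' * σ' = a →
      ∃ g, g ∈ normalizer ((S : Subgroup G) : Set G) ∧ g ∈ centralizer (A : Set G) ∧ g * σ * g⁻¹ = σ' := by
  obtain ⟨e, he, hcard, hone, hfive⟩ := h.exists_index ha ha1
  rcases he with rfl | rfl
  · exfalso
    have hO : FOne S a (T a ⊔ coreA A) := {
      card_S := h.card_S
      mem := h.le ha
      sq := h.sq ha
      ne := ha1
      odd_O := odd_sup hT h ha ha1
      le_C := sup_le (hT.le a ha ha1) ((coreA_le A).trans (centralizer_A_le hT h ha ha1))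
      normal_O := fun g hg ρ hρ => conj_mem_sup hT h ha ha1 hg hρ
      factor := fun g hg => by
        obtain ⟨t, ht, c, hc, rfl⟩ := exists_mul hT h ha ha1 hg
        have hSN : (S : Subgroup G) ≤ normalizer (coreA A : Set G) := fun s hs =>
          mem_normalizer_fintype fun y hy => conj_mem_coreA (h.central hs) hy
        obtain ⟨k, hk, s, hs, rfl⟩ := (Coprime.mem_sup_iff hSN).1 (hone rfl c hc)
        exact ⟨t * k, mul_mem_sup ht hk, s, hs, (mul_assoc _ _ _).symm⟩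
      central := fun s hs hs1 t ht => h.commute ((h.mem s hs).1 hs1) ht
      fused := fun z hz hz2 hz1 => h.fused ha ha1 ((h.mem z hz).1 hz2) hz1
      exp := fun s hs => h.exp hs
      card_invol := h.card_invol
      card_roots := h.card_roots ha ha1
      class_roots := fun s hs => h.class_roots ha1 s hs
      inv_roots := fun s hs hsa => h.inv_roots ha1 hs hsa }
    exact hT.ne a ha ha1 (le_bot_iff.1 (hO.eq_bot ▸ le_sup_left))
  · exact ⟨by rw [hcard], hfive rfl⟩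

theorem card_centralizer_A : Nat.card ↥(centralizer (A : Set G)) = 320 * Nat.card ↥(coreA A) :=
  (card_and_trans hT h ha ha1).1

theorem roots_trans {σ σ' : G} (hσ : σ ∈ (S : Subgroup G)) (hσ' : σ' ∈ (S : Subgroup G))
    (h1 : σ * σ = a) (h2 : σ' * σ' = a) :
    ∃ g, g ∈ normalizer ((S : Subgroup G) : Set G) ∧ g ∈ centralizer (A : Set G) ∧ g * σ * g⁻¹ = σ' :=
  (card_and_trans hT h ha ha1).2 σ hσ σ' hσ' h1 h2

/-- A normal subgroup of `C(A)` outside `O(C(A)) S` contains `A`. -/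
theorem le_of_normal {N : Subgroup G} (hN : N ≤ centralizer (A : Set G))
    (hn : ∀ g ∈ centralizer (A : Set G), ∀ x ∈ N, g * x * g⁻¹ ∈ N)
    (hout : ¬ N ≤ coreA A ⊔ (S : Subgroup G)) : A ≤ N := by
  set C := centralizer (A : Set G)
  have hNO : N ≤ normalizer (coreA A : Set G) := fun x hx =>
    mem_normalizer_fintype fun y hy => conj_mem_coreA (hN hx) hy
  set M := coreA A ⊔ N with hM
  have hMn : ∀ g ∈ C, ∀ x ∈ M, g * x * g⁻¹ ∈ M := fun g hg x hx => by
    obtain ⟨k, hk, y, hy, rfl⟩ := (Coprime.mem_sup_iff hNO).1 hx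
    rw [show g * (k * y) * g⁻¹ = g * k * g⁻¹ * (g * y * g⁻¹) by group]
    exact mul_mem_sup (conj_mem_coreA hg hk) (hn g hg y hy)
  obtain ⟨x, hx, hxout⟩ := Set.not_subset.1 hout
  obtain ⟨k, hk, n, hnN, hnA, hxn⟩ := h.exists_factor (hN hx)
  have hnM : n ∈ M := by
    rw [show n = k⁻¹ * x by rw [hxn]; group]
    exact mul_mem (mem_sup_left (inv_mem hk)) (mem_sup_right hx)
  -- an element of odd order acting non-trivially
  obtain ⟨j, hjo, hjA⟩ : ∃ j : ℕ, Odd (orderOf (n ^ j)) ∧ n ^ j ∉ coreA A := by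
    by_contra hno
    push Not at hno
    refine hxout ?_
    rw [hxn]
    exact mul_mem (mem_sup_left hk) (mem_of_parts (fun j hj => mem_sup_left (hno j hj))
      fun j ⟨l, hl⟩ => mem_sup_right (h.mem_of_two_power (pow_mem hnN j) hl))
  set m := n ^ j
  have hmN : m ∈ normalizer ((S : Subgroup G) : Set G) := pow_mem hnN j
  have hmA : m ∈ C := pow_mem hnA j
  let τ : MulAut ↥(S : Subgroup G) := (S : Subgroup G).normalizerMonoidHom ⟨m, hmN⟩
  have hfix : ∀ z ∈ Subgroup.center ↥(S : Subgroup G), τ z = z := fun z hz => Subtype.ext (by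
    show m * (z : G) * m⁻¹ = z
    rw [← mem_centralizer_iff.1 hmA z ((h.mem_center_iff z).1 hz), mul_inv_cancel_right])
  have hτo : Odd (orderOf τ) := hjo.of_dvd_nat ((orderOf_map_dvd _ _).trans (by rw [Subgroup.orderOf_mk]))
  have hτ1 : τ ≠ 1 := by
    intro e
    refine hjA (h.mem_coreA_of_centralizes (mem_centralizer_iff.2 fun s hs => ?_) hjo)
    have h1 : m * s * m⁻¹ = s := congrArg Subtype.val (DFunLike.congr_fun e (⟨s, hs⟩ : ↥(S : Subgroup G)) :)
    exact (mul_inv_eq_iff_eq_mul.1 h1).symm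
  -- `U = S ∩ M A` is the whole of `S`
  set U : Subgroup ↥(S : Subgroup G) :=
    (M ⊓ (S : Subgroup G)).subgroupOf (S : Subgroup G) ⊔ Subgroup.center ↥(S : Subgroup G) with hU
  have hcomm : ∀ s : ↥(S : Subgroup G), τ s * s⁻¹ ∈ (M ⊓ (S : Subgroup G)).subgroupOf (S : Subgroup G) :=
    fun s => mem_subgroupOf.2 ⟨by
      show m * (s : G) * m⁻¹ * (s : G)⁻¹ ∈ M
      rw [show m * (s : G) * m⁻¹ * (s : G)⁻¹ = m * ((s : G) * m⁻¹ * (s : G)⁻¹) by group]
      exact mul_mem (pow_mem hnM j) (hMn _ (h.central s.2) _ (inv_mem (pow_mem hnM j))), SetLike.coe_mem _⟩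
  have hinv : ∀ x ∈ U, τ x ∈ U := fun x hx => by
    rw [show τ x = τ x * x⁻¹ * x by group]
    exact mul_mem (mem_sup_left (hcomm x)) hx
  obtain ⟨σ, hσ, hσa⟩ := h.exists_root ha ha1
  have hUne : U ≠ Subgroup.center ↥(S : Subgroup G) := by
    intro e
    refine hτ1 (UFourSylow.aut_eq_one h.usylow.shape hfix hτo
      (fun e' => h.not_mem_of_sq ha1 hσa ((h.mem_center_iff ⟨σ, hσ⟩).1 e')) ?_)
    have h1 : τ ⟨σ, hσ⟩ * ⟨σ, hσ⟩⁻¹ ∈ Subgroup.center ↥(S : Subgroup G) := e ▸ mem_sup_left (hcomm _)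
    rw [show (⟨σ, hσ⟩ : ↥(S : Subgroup G))⁻¹ * τ ⟨σ, hσ⟩ =
      (⟨σ, hσ⟩ : ↥(S : Subgroup G))⁻¹ * (τ ⟨σ, hσ⟩ * ⟨σ, hσ⟩⁻¹) * ⟨σ, hσ⟩ by group,
      mul_assoc, ← Subgroup.mem_center_iff.1 h1, inv_mul_cancel_left]
    exact h1
  have htop := UFourSylow.eq_top_of_invariant h.usylow hfix hτo hτ1 le_sup_right hUne hinv
  -- squares of `S` lie in `M`
  intro z hz
  by_cases hz1 : z = 1
  · rw [hz1]; exact one_mem _
  obtain ⟨s, hs, hsz⟩ := h.exists_root hz hz1
  have hsU : (⟨s, hs⟩ : ↥(S : Subgroup G)) ∈ U := by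
    rw [show U = ⊤ from htop]; exact mem_top _
  obtain ⟨u, hu, c, hc, e⟩ := Subgroup.mem_sup_of_normal_right.1 hsU
  have hzM : z ∈ M := by
    have e' : (u : G) * c = s := congrArg Subtype.val e
    have hcA : (c : G) ∈ A := (h.mem_center_iff c).1 hc
    rw [← hsz, ← e', show (u : G) * c * (u * c) = u * ((c : G) * u) * c by group,
      h.commute hcA u.2, show (u : G) * (u * c) * c = u * u * ((c : G) * c) by group, h.sq hcA, mul_one]
    exact mul_mem (mem_subgroupOf.1 hu).1 (mem_subgroupOf.1 hu).1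
  obtain ⟨l, hl, y, hy, e'⟩ := (Coprime.mem_sup_iff hNO).1 hzM
  obtain ⟨d, hd⟩ := (odd_coreA A).of_dvd_nat (Subgroup.orderOf_dvd_natCard _ hl)
  have hlz : Commute l⁻¹ z :=
    (show Commute l z from (mem_centralizer_iff.1 (coreA_le A hl) z hz).symm).inv_left
  have hy' : y ^ orderOf l = z := by
    rw [show y = l⁻¹ * z by rw [← e']; group, hlz.mul_pow, inv_pow, pow_orderOf_eq_one, inv_one, one_mul,
      hd, pow_succ, pow_mul, pow_two, h.sq hz, one_pow, one_mul]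
  exact hy' ▸ pow_mem hy _

end TorusData

end Cfsg.Agent.Goldschmidt.ThreeInv
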