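import Cfsg.Agent.EqLemmas
import Cfsg.Agent.Lib.Goldschmidt.ThreeInv.Targets
import Cfsg.Agent.Lib.Goldschmidt.ThreeInv.Solvable
import Cfsg.Agent.Lib.Solvable.Fitting
import Cfsg.Agent.Lib.Solvable.PiClassCount
import Cfsg.Agent.Lib.Components.GenFitting
import Cfsg.Agent.Lib.Coprime.Generation
import Cfsg.Agent.Lib.ZStar.Apply
import Cfsg.Agent.Lib.ZStar.Unique
import Cfsg.Agent.Lib.UFourSylow.Families
import Cfsg.Agent.S0949

/-!
# Three involutions: proper subgroups containing `A` (owner: helper63)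

Item (L) of `../THREE_INVOLUTIONS_PROOF.md`:
* `Setting.solvable_or_component` : `M` is solvable, or `M / O(M)` has a simple normal subgroup above
  the image of `A` with trivial centraliser;
* `Setting.odd_le_core` : if a 2-group `Q > A` of `M` normalises the odd `D ≤ M`, then `D ≤ O(M)`.
-/

set_option autoImplicit false
set_option linter.style.haveILetI false
set_option linter.unusedSectionVars false

namespace Cfsg.Agent.Goldschmidt.ThreeInv

open Subgroup

universe u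

section general

variable {K : Type u} [Group K] [Finite K]

/-- In a nonabelian simple group no involution is isolated in a Sylow 2-subgroup. -/
theorem exists_conj_ne [IsSimpleGroup K] (hK : Subgroup.center K = ⊥) (T : Sylow 2 K) {z : K}
    (ho : orderOf z = 2) (hzT : z ∈ (T : Subgroup K)) :
    ∃ g : K, g * z * g⁻¹ ∈ (T : Subgroup K) ∧ g * z * g⁻¹ ≠ z := by
  by_contra hno
  push Not at hno
  obtain ⟨N, hN, hNo, hNz⟩ := S0215.result T z ho hzT hno
  rcases hN.eq_bot_or_eq_top with e | e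
  · subst e
    have : z ∈ Subgroup.center K := Subgroup.mem_center_iff.2 fun g =>
      ((mul_inv_eq_iff_eq_mul.1 (mul_inv_eq_one.1 (mem_bot.1 (hNz g)))).symm)
    rw [hK, mem_bot] at this
    rw [this, orderOf_one] at ho
    omega
  · rw [e, card_top] at hNo
    exact Nat.not_even_iff_odd.2 hNo (even_iff_two_dvd.2 (ho ▸ orderOf_dvd_natCard z))

/-- An abelian Sylow 2-subgroup whose squares lie in its four-group of involutions equals it. -/
theorem sylow_eq_of_abelian [IsSimpleGroup K] (hK : Subgroup.center K = ⊥) (T : Sylow 2 K)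
    (E : Subgroup K) (hcard : Nat.card E = 4) (hE : E ≤ (T : Subgroup K))
    (hmem : ∀ t ∈ (T : Subgroup K), t * t = 1 ↔ t ∈ E) (hsq : ∀ t ∈ (T : Subgroup K), t * t ∈ E)
    (hcomm : ∀ s ∈ (T : Subgroup K), ∀ t ∈ (T : Subgroup K), s * t = t * s) :
    (T : Subgroup K) = E := by
  haveI : Fact (Nat.Prime 2) := ⟨Nat.prime_two⟩
  by_contra hne
  obtain ⟨s₁, hs₁, hs₁E⟩ : ∃ s ∈ (T : Subgroup K), s ∉ E :=
    Set.not_subset.1 fun hle : (T : Subgroup K) ≤ E => hne (le_antisymm hle hE)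
  set z₁ := s₁ * s₁ with hz₁
  have hz₁E : z₁ ∈ E := hsq _ hs₁
  have hz₁1 : z₁ ≠ 1 := fun e => hs₁E ((hmem _ hs₁).1 e)
  have hz₁2 : z₁ * z₁ = 1 := (hmem _ (hE hz₁E)).2 hz₁E
  obtain ⟨g, hg, hgne⟩ := exists_conj_ne hK T (orderOf_eq_prime (by rw [pow_two, hz₁2]) hz₁1) (hE hz₁E)
  have hinv : ∀ u ∈ (T : Subgroup K), ∀ x ∈ (T : Subgroup K), (fun y => x * y * x⁻¹) '' {u} = {u} :=
    fun u hu x hx => by rw [Set.image_singleton, hcomm x hx u hu, mul_inv_cancel_right]
  obtain ⟨n, hn, hnz⟩ := Transfer.exists_normalizer_conj_image T (X := {z₁}) (Y := {g * z₁ * g⁻¹})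
    (hinv _ (hE hz₁E)) (hinv _ hg) (g := g) (by rw [Set.image_singleton])
  rw [Set.image_singleton, Set.singleton_eq_singleton_iff] at hnz
  set s₂ := n * s₁ * n⁻¹ with hs₂'
  have hs₂ : s₂ ∈ (T : Subgroup K) := (mem_normalizer_iff.1 hn _).1 hs₁
  set z₂ := s₂ * s₂ with hz₂
  have hz₂E : z₂ ∈ E := hsq _ hs₂
  have hz₂z₁ : z₂ ≠ z₁ := by
    rw [hz₂, hs₂', show n * s₁ * n⁻¹ * (n * s₁ * n⁻¹) = n * z₁ * n⁻¹ by rw [hz₁]; group, hnz]
    exact hgne
  have hz₂1 : z₂ ≠ 1 := by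
    rw [hz₂, hs₂', show n * s₁ * n⁻¹ * (n * s₁ * n⁻¹) = n * z₁ * n⁻¹ by rw [hz₁]; group]
    exact fun e => hz₁1 (conj_eq_one_iff.1 e)
  have hsqE : ∀ z ∈ E, ∃ s ∈ (T : Subgroup K), s * s = z ∧ ∃ i j : ℕ, i < 2 ∧ j < 2 ∧ s = s₁ ^ i * s₂ ^ j := by
    classical
    intro z hz
    have h12 : s₁ * s₂ * (s₁ * s₂) = z₁ * z₂ := by
      rw [hz₁, hz₂]
      calc s₁ * s₂ * (s₁ * s₂) = s₁ * (s₂ * s₁) * s₂ := by group
        _ = _ := by rw [hcomm _ hs₂ _ hs₁]; group
    let f : Fin 4 → ↥E := ![1, ⟨z₁, hz₁E⟩, ⟨z₂, hz₂E⟩, ⟨z₁ * z₂, E.mul_mem hz₁E hz₂E⟩]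
    have h3 : z₁ * z₂ ≠ 1 := fun e => hz₂z₁ (mul_left_cancel (a := z₁) (by rw [e, hz₁2]))
    have hf : Function.Injective f := by
      intro r s e
      have e' := congrArg Subtype.val e
      fin_cases r <;> fin_cases s <;>
        simp [f, hz₁1, hz₂1, hz₂z₁, h3, Ne.symm hz₁1, Ne.symm hz₂1, Ne.symm hz₂z₁, Ne.symm h3] at e' ⊢
    haveI := Fintype.ofFinite ↥E
    obtain ⟨i, hi⟩ := ((Fintype.bijective_iff_injective_and_card f).2
      ⟨hf, by rw [Fintype.card_fin, ← Nat.card_eq_fintype_card, hcard]⟩).2 ⟨z, hz⟩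
    have hi' := congrArg Subtype.val hi
    fin_cases i <;> simp [f] at hi'
    · exact ⟨1, one_mem _, by simp [hi'], 0, 0, by omega, by omega, by simp⟩
    · exact ⟨s₁, hs₁, hi', 1, 0, by omega, by omega, by simp⟩
    · exact ⟨s₂, hs₂, hi', 0, 1, by omega, by omega, by simp⟩
    · exact ⟨s₁ * s₂, mul_mem hs₁ hs₂, h12.trans hi', 1, 1, by omega, by omega, by simp⟩
  -- `T` has order 16 and is homocyclic
  haveI : IsMulCommutative ↥(T : Subgroup K) := ⟨⟨fun x y => Subtype.ext (hcomm _ x.2 _ y.2)⟩⟩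
  have hmm : ∀ a b c d : ↥(T : Subgroup K), a * b * (c * d) = a * c * (b * d) := fun a b c d => by
    rw [mul_assoc, ← mul_assoc b, show b * c = c * b from Subtype.ext (hcomm _ b.2 _ c.2), mul_assoc,
      ← mul_assoc]
  have hsq4 : ∀ t : ↥(T : Subgroup K), t ^ 4 = 1 := fun t => Subtype.ext (by
    show (t : K) ^ 4 = 1
    rw [show 4 = 2 * 2 by rfl, pow_mul, pow_two, pow_two]
    exact (hmem _ (hE (hsq _ t.2))).2 (hsq _ t.2))
  have hcardT : Nat.card ↥(T : Subgroup K) = 16 := by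
    let φ : ↥(T : Subgroup K) →* ↥E := MonoidHom.mk' (fun t => ⟨(t : K) * t, hsq _ t.2⟩) fun s t =>
      Subtype.ext (by
        show (s : K) * t * (s * t) = s * s * (t * t)
        calc (s : K) * t * (s * t) = s * ((t : K) * s) * t := by group
          _ = _ := by rw [hcomm _ t.2 _ s.2]; group)
    have h1 := φ.ker.card_mul_index
    rw [Subgroup.index_ker, MonoidHom.range_eq_top.2 (fun z => by
      obtain ⟨s, hs, he, -⟩ := hsqE z z.2
      exact ⟨⟨s, hs⟩, Subtype.ext he⟩), Subgroup.card_top, hcard,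
      show φ.ker = E.subgroupOf (T : Subgroup K) from Subgroup.ext fun t => by
        rw [MonoidHom.mem_ker, mem_subgroupOf, ← hmem _ t.2, Subtype.ext_iff]; rfl,
      Nat.card_congr (subgroupOfEquivOfLe hE).toEquiv, hcard] at h1
    exact h1.symm
  let S₁ : ↥(T : Subgroup K) := ⟨s₁, hs₁⟩
  let S₂ : ↥(T : Subgroup K) := ⟨s₂, hs₂⟩
  let g₁ : ZMod 4 →+ Additive ↥(T : Subgroup K) :=
    ZMod.lift 4 ⟨zmultiplesHom _ (Additive.ofMul S₁), by
      show (4 : ℤ) • Additive.ofMul S₁ = 0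
      rw [← ofMul_zpow, ← ofMul_one]
      exact congrArg Additive.ofMul ((zpow_natCast S₁ 4).trans (hsq4 S₁))⟩
  let g₂ : ZMod 4 →+ Additive ↥(T : Subgroup K) :=
    ZMod.lift 4 ⟨zmultiplesHom _ (Additive.ofMul S₂), by
      show (4 : ℤ) • Additive.ofMul S₂ = 0
      rw [← ofMul_zpow, ← ofMul_one]
      exact congrArg Additive.ofMul ((zpow_natCast S₂ 4).trans (hsq4 S₂))⟩
  let g₁₂ : Multiplicative (ZMod 4 × ZMod 4) →* ↥(T : Subgroup K) :=
    MonoidHom.mk' (fun v => Additive.toMul (g₁ v.toAdd.1) * Additive.toMul (g₂ v.toAdd.2)) fun v w => by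
      simp only [toAdd_mul, Prod.fst_add, Prod.snd_add, map_add, toMul_add]
      exact hmm _ _ _ _
  have hgen : ∀ a b : ℕ, g₁₂ (Multiplicative.ofAdd ((a : ZMod 4), (b : ZMod 4))) = S₁ ^ a * S₂ ^ b := by
    intro a b
    show Additive.toMul (g₁ (a : ZMod 4)) * Additive.toMul (g₂ (b : ZMod 4)) = _
    rw [show (a : ZMod 4) = ((a : ℤ) : ZMod 4) by simp, show (b : ZMod 4) = ((b : ℤ) : ZMod 4) by simp,
      ZMod.lift_coe, ZMod.lift_coe]
    show Additive.toMul ((a : ℤ) • Additive.ofMul S₁) * Additive.toMul ((b : ℤ) • Additive.ofMul S₂) = _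
    rw [natCast_zsmul, natCast_zsmul, toMul_nsmul, toMul_nsmul, toMul_ofMul, toMul_ofMul]
  have hsur : Function.Surjective g₁₂ := by
    have hEr : ∀ t : ↥(T : Subgroup K), (t : K) ∈ E → t ∈ g₁₂.range := fun t ht => by
      obtain ⟨s, hs, he, i, j, -, -, rfl⟩ := hsqE _ ht
      have : t = (S₁ ^ i * S₂ ^ j) * (S₁ ^ i * S₂ ^ j) := Subtype.ext he.symm
      rw [this, ← hgen]
      exact mul_mem ⟨_, rfl⟩ ⟨_, rfl⟩
    intro t
    obtain ⟨s, hs, he, i, j, -, -, rfl⟩ := hsqE _ (hsq _ t.2)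
    have h1 : (((S₁ ^ i * S₂ ^ j)⁻¹ * t : ↥(T : Subgroup K)) : K) ∈ E := by
      refine (hmem _ (Subtype.prop _)).1 ?_
      have : ((S₁ ^ i * S₂ ^ j)⁻¹ * t) * ((S₁ ^ i * S₂ ^ j)⁻¹ * t) = (1 : ↥(T : Subgroup K)) := by
        rw [hmm, ← mul_inv_rev, inv_mul_eq_one]
        exact Subtype.ext he
      exact congrArg Subtype.val this
    obtain ⟨v, hv⟩ := hEr _ h1
    exact ⟨Multiplicative.ofAdd ((i : ZMod 4), (j : ZMod 4)) * v, by
      rw [map_mul, hgen, hv, mul_inv_cancel_left]⟩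
  have hbij : Function.Bijective g₁₂ := (Nat.bijective_iff_surjective_and_card g₁₂).2 ⟨hsur, by
    rw [hcardT, Nat.card_congr Multiplicative.toAdd, Nat.card_prod, Nat.card_zmod]⟩
  obtain ⟨hnorm, -, -⟩ := S0949.result T 2 le_rfl (MulEquiv.ofBijective g₁₂ hbij).symm
    (fun N hN hodd => by
      rcases hN.eq_bot_or_eq_top with e | e
      · exact e
      · rw [e, card_top] at hodd
        exact absurd (even_iff_two_dvd.2
          ((show 2 ∣ Nat.card ↥(T : Subgroup K) by rw [hcardT]; norm_num).trans (card_subgroup_dvd_card _)))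
          (Nat.not_even_iff_odd.2 hodd))
  rcases hnorm.eq_bot_or_eq_top with e | e
  · rw [e, card_bot] at hcardT
    omega
  · have : Subgroup.center K = ⊤ := eq_top_iff.2 fun x _ => Subgroup.mem_center_iff.2 fun y =>
      hcomm y (e ▸ mem_top y) x (e ▸ mem_top x)
    rw [hK] at this
    have h1 := congrArg (fun H : Subgroup K => Nat.card H) this
    simp only [card_bot, card_top] at h1
    have h16 : 16 ∣ Nat.card K := hcardT ▸ card_subgroup_dvd_card _
    omega

/-- The intersection of a Sylow subgroup with a normal subgroup is a Sylow subgroup of it. -/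
theorem exists_sylow_inf {p : ℕ} [Fact p.Prime] (P : Sylow p K) (N : Subgroup K) [N.Normal] :
    ∃ T : Sylow p ↥N, (T : Subgroup ↥N) = (P : Subgroup K).subgroupOf N := by
  obtain ⟨T, hT⟩ := (P.2.comap_of_injective N.subtype N.subtype_injective).exists_le_sylow
  refine ⟨T, (Subgroup.eq_of_le_of_card_ge hT ?_).symm⟩
  obtain ⟨c, hc⟩ := PiClassCount.exists_conj_mem_sylow P (T.2.map N.subtype)
  exact Nat.card_le_card_of_injective
    (fun x : ↥(T : Subgroup ↥N) => (⟨⟨c * (x : N) * c⁻¹, (inferInstance : N.Normal).conj_mem _ x.1.2 c⟩,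
      hc _ ⟨x, x.2, rfl⟩⟩ : ↥((P : Subgroup K).subgroupOf N)))
    fun x y e => Subtype.ext (Subtype.ext (mul_left_cancel (mul_right_cancel
      (congrArg (fun v : ↥((P : Subgroup K).subgroupOf N) => ((v : N) : K)) e))))

end general

variable {G : Type u} [Group G] [Finite G] {S : Sylow 2 G} {A : Subgroup G}

namespace Setting

variable (h : Setting S A)

include h

/-- Any Sylow 2-subgroup containing `A` is in the same setting. -/
theorem change_sylow {S' : Sylow 2 G} (hle : A ≤ (S' : Subgroup G)) : Setting S' A := by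
  haveI : Fact (Nat.Prime 2) := ⟨Nat.prime_two⟩
  obtain ⟨g, hg⟩ := MulAction.exists_smul_eq G S S'
  have hmemS : ∀ x : G, x ∈ (S' : Subgroup G) ↔ g⁻¹ * x * g ∈ (S : Subgroup G) := fun x => by
    rw [← hg]; exact Coprime.mem_conj
  have hmem : ∀ x ∈ (S' : Subgroup G), x * x = 1 ↔ g⁻¹ * x * g ∈ A := fun x hx => by
    rw [← h.mem _ ((hmemS x).1 hx), show g⁻¹ * x * g * (g⁻¹ * x * g) = g⁻¹ * (x * x) * g by group]
    exact ⟨fun e => by rw [e]; group, fun e => (conj_eq_one_iff (a := g⁻¹)).1 (by rwa [inv_inv])⟩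
  let f : ↥A → ↥A := fun a => ⟨g⁻¹ * a * g, (hmem _ (hle a.2)).1 (h.sq a.2)⟩
  have hf : Function.Injective f := fun a b e =>
    Subtype.ext (mul_left_cancel (mul_right_cancel (congrArg Subtype.val e)))
  have hiff : ∀ x : G, g⁻¹ * x * g ∈ A ↔ x ∈ A := fun x => by
    refine ⟨fun hx => ?_, fun hx => (f ⟨x, hx⟩).2⟩
    obtain ⟨a, ha⟩ := (Finite.injective_iff_surjective.1 hf) ⟨_, hx⟩
    rw [← mul_left_cancel (mul_right_cancel (congrArg Subtype.val ha))]
    exact a.2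
  refine ⟨h.card, hle, fun x hx => (hmem x hx).trans (hiff x), fun s hs => mem_centralizer_iff.2 fun a ha => ?_, ?_⟩
  · have := h.commute ((hiff a).2 ha) ((hmemS s).1 hs)
    calc a * s = g * (g⁻¹ * a * g * (g⁻¹ * s * g)) * g⁻¹ := by group
      _ = s * a := by rw [this]; group
  · exact fun e => h.nonab ⟨⟨fun x y => (S.equiv S').injective (by
      rw [map_mul, map_mul]; exact e.is_comm.comm _ _)⟩⟩

/-- A 2-subgroup of `M` above `A` lies in a Sylow 2-subgroup of `G` meeting `M` in one of `M`. -/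
theorem exists_sylow_local (M : Subgroup G) {Q : Subgroup G} (hQ : IsPGroup 2 ↥Q) (hAQ : A ≤ Q)
    (hQM : Q ≤ M) : ∃ S' : Sylow 2 G, Setting S' A ∧ Q ≤ (S' : Subgroup G) ∧
      ∃ PM : Sylow 2 ↥M, (PM : Subgroup ↥M) = (S' : Subgroup G).subgroupOf M := by
  obtain ⟨PM, hPM⟩ := (hQ.of_equiv (subgroupOfEquivOfLe hQM).symm).exists_le_sylow
  obtain ⟨S', hS'⟩ := (PM.2.map M.subtype).exists_le_sylow
  have hQS : Q ≤ (S' : Subgroup G) := fun x hx => hS' ⟨⟨x, hQM hx⟩, hPM (mem_subgroupOf.2 hx), rfl⟩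
  exact ⟨S', h.change_sylow (hAQ.trans hQS), hQS, PM,
    (PM.3 (S'.2.comap_of_injective M.subtype M.subtype_injective) fun x hx => hS' ⟨x, hx, rfl⟩).symm⟩

section local_

variable {M : Subgroup G} {PM : Sylow 2 ↥M}

omit h in
theorem disjoint_core {x : ↥M} (hx : x ∈ (PM : Subgroup ↥M)) (hK : x ∈ Cfsg.oddCore ↥M) : x = 1 := by
  haveI : Fact (Nat.Prime 2) := ⟨Nat.prime_two⟩
  obtain ⟨k, hk⟩ := IsPGroup.iff_orderOf.1 PM.2 ⟨x, hx⟩
  rw [Subgroup.orderOf_mk] at hk
  exact orderOf_eq_one_iff.1 (Nat.eq_one_of_dvd_coprimes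
    ((Cores.coprime_card_pPrimeCore 2).pow_right k) (Subgroup.orderOf_dvd_natCard _ hK) hk.dvd)

variable [IsSimpleGroup G] (hPM : (PM : Subgroup ↥M) = (S : Subgroup G).subgroupOf M) (hAM : A ≤ M)

include hPM

omit hAM

/-- The images of the elements of `PM` squaring to one are those of `A`. -/
theorem image_sq {v : ↥M ⧸ Cfsg.oddCore ↥M}
    (hv : v ∈ (PM : Subgroup ↥M).map (QuotientGroup.mk' (Cfsg.oddCore ↥M))) :
    v * v = 1 ↔ v ∈ (A.subgroupOf M).map (QuotientGroup.mk' (Cfsg.oddCore ↥M)) := by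
  obtain ⟨x, hx, rfl⟩ := hv
  constructor
  · intro e
    have hxS : (x : G) ∈ (S : Subgroup G) := mem_subgroupOf.1 (hPM ▸ hx : x ∈ (S : Subgroup G).subgroupOf M)
    rw [← map_mul] at e
    have := disjoint_core (mul_mem hx hx) ((QuotientGroup.eq_one_iff (x * x)).1 e)
    exact ⟨x, mem_subgroupOf.2 ((h.mem _ hxS).1 (congrArg Subtype.val this)), rfl⟩
  · rintro ⟨a, ha, e⟩
    rw [← e, ← map_mul, show a * a = 1 from Subtype.ext (h.sq ha), map_one]

theorem mem_pm {x : ↥M} (hx : (x : G) ∈ (S : Subgroup G)) : x ∈ (PM : Subgroup ↥M) :=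
  hPM ▸ mem_subgroupOf.2 hx

theorem image_sq_mem {v : ↥M ⧸ Cfsg.oddCore ↥M}
    (hv : v ∈ (PM : Subgroup ↥M).map (QuotientGroup.mk' (Cfsg.oddCore ↥M))) :
    v * v ∈ (A.subgroupOf M).map (QuotientGroup.mk' (Cfsg.oddCore ↥M)) := by
  obtain ⟨x, hx, rfl⟩ := hv
  have hxS : (x : G) ∈ (S : Subgroup G) := mem_subgroupOf.1 (hPM ▸ hx : x ∈ (S : Subgroup G).subgroupOf M)
  exact ⟨x * x, mem_subgroupOf.2 (h.sq_mem hxS), map_mul _ _ _⟩

theorem image_commute {v w : ↥M ⧸ Cfsg.oddCore ↥M}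
    (hv : v ∈ (A.subgroupOf M).map (QuotientGroup.mk' (Cfsg.oddCore ↥M)))
    (hw : w ∈ (PM : Subgroup ↥M).map (QuotientGroup.mk' (Cfsg.oddCore ↥M))) : v * w = w * v := by
  obtain ⟨a, ha, rfl⟩ := hv
  obtain ⟨x, hx, rfl⟩ := hw
  have hxS : (x : G) ∈ (S : Subgroup G) := mem_subgroupOf.1 (hPM ▸ hx : x ∈ (S : Subgroup G).subgroupOf M)
  rw [← map_mul, ← map_mul]
  exact congrArg _ (Subtype.ext (h.commute ha hxS))

theorem image_le : (A.subgroupOf M).map (QuotientGroup.mk' (Cfsg.oddCore ↥M)) ≤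
    (PM : Subgroup ↥M).map (QuotientGroup.mk' (Cfsg.oddCore ↥M)) :=
  map_mono fun _ ha => h.mem_pm hPM (h.le ha)

theorem image_card (hAM : A ≤ M) :
    Nat.card ↥((A.subgroupOf M).map (QuotientGroup.mk' (Cfsg.oddCore ↥M))) = 4 := by
  rw [← h.card, ← Nat.card_congr (subgroupOfEquivOfLe hAM).toEquiv]
  refine (Nat.card_eq_of_bijective (fun x => ⟨QuotientGroup.mk' _ x.1, ⟨_, x.2, rfl⟩⟩) ⟨?_, ?_⟩).symm
  · intro x y e
    refine Subtype.ext (inv_mul_eq_one.1 (disjoint_core (h.mem_pm hPM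
      (h.le (mul_mem (inv_mem x.2) y.2))) ?_))
    refine (QuotientGroup.eq_one_iff (x.1⁻¹ * y.1)).1 ?_
    show QuotientGroup.mk' (Cfsg.oddCore ↥M) (x.1⁻¹ * y.1) = 1
    rw [map_mul, map_inv, inv_mul_eq_one]
    exact congrArg Subtype.val e
  · rintro ⟨_, a, ha, rfl⟩
    exact ⟨⟨a, ha⟩, rfl⟩

/-- Involutions of `A` have images with solvable centralisers. -/
theorem isSolvable_centralizer_image {v : ↥M ⧸ Cfsg.oddCore ↥M}
    (hv : v ∈ (A.subgroupOf M).map (QuotientGroup.mk' (Cfsg.oddCore ↥M))) (hv1 : v ≠ 1) :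
    Group.IsSolvable ↥(centralizer ({v} : Set (↥M ⧸ Cfsg.oddCore ↥M))) := by
  haveI : Fact (Nat.Prime 2) := ⟨Nat.prime_two⟩
  obtain ⟨a, ha, rfl⟩ := hv
  have ha1 : (a : G) ≠ 1 := fun e => hv1 (by rw [show a = 1 from Subtype.ext e, map_one])
  haveI : Group.IsSolvable ↥(centralizer ({(a : G)} : Set G)) := h.isSolvable_centralizer ha ha1
  haveI : Group.IsSolvable ↥(centralizer ((zpowers a : Subgroup ↥M) : Set ↥M)) := by
    refine Group.isSolvable_of_isSolvable_injective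
      (f := ((M.subtype).comp (centralizer ((zpowers a : Subgroup ↥M) : Set ↥M)).subtype).codRestrict
        (centralizer ({(a : G)} : Set G)) fun x => mem_centralizer_singleton_iff.2
          (congrArg Subtype.val (mem_centralizer_iff.1 x.2 a (mem_zpowers a))).symm) ?_
    intro x y e
    exact Subtype.ext (Subtype.ext (congrArg Subtype.val e :))
  have htop := Components.centralizer_map_of_coprime (p := 2) (R := zpowers a)
    (PM.2.to_le (zpowers_le.2 (h.mem_pm hPM (h.le ha)))) (Cfsg.oddCore ↥M)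
    (Cores.coprime_card_pPrimeCore 2)
  haveI : Group.IsSolvable ↥((centralizer ((zpowers a : Subgroup ↥M) : Set ↥M)).map
      (QuotientGroup.mk' (Cfsg.oddCore ↥M))) :=
    Group.isSolvable_of_surjective ((QuotientGroup.mk' (Cfsg.oddCore ↥M)).subgroupMap_surjective _)
  refine Solvable.isSolvable_of_le (K := (centralizer ((zpowers a : Subgroup ↥M) : Set ↥M)).map
    (QuotientGroup.mk' (Cfsg.oddCore ↥M))) ?_
  rw [← htop]
  intro x hx
  refine mem_centralizer_iff.2 fun y hy => ?_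
  obtain ⟨b, hb, rfl⟩ := hy
  obtain ⟨k, rfl⟩ := mem_zpowers_iff.1 hb
  rw [map_zpow]
  exact ((Commute.symm (mem_centralizer_singleton_iff.1 hx)).zpow_left k).eq

/-- Item (L): the structure of `M / O(M)`. -/
theorem solvable_or_component' (hAM : A ≤ M) :
    Group.IsSolvable ↥M ∨ ∃ K : Subgroup (↥M ⧸ Cfsg.oddCore ↥M), IsSimpleGroup ↥K ∧
      Subgroup.center ↥K = ⊥ ∧ K.Normal ∧
      (A.subgroupOf M).map (QuotientGroup.mk' (Cfsg.oddCore ↥M)) ≤ K ∧
      centralizer (K : Set (↥M ⧸ Cfsg.oddCore ↥M)) = ⊥ := by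
  haveI : Fact (Nat.Prime 2) := ⟨Nat.prime_two⟩
  set X := ↥M ⧸ Cfsg.oddCore ↥M
  set f := QuotientGroup.mk' (Cfsg.oddCore ↥M)
  set P : Sylow 2 X := PM.mapSurjective (QuotientGroup.mk'_surjective (Cfsg.oddCore ↥M))
  have hP : (P : Subgroup X) = (PM : Subgroup ↥M).map f := Sylow.coe_mapSurjective _ _
  set E := (A.subgroupOf M).map f with hE
  have hEP : E ≤ (P : Subgroup X) := hP ▸ h.image_le hPM
  have hinvE : ∀ v ∈ (P : Subgroup X), v * v = 1 → v ∈ E := fun v hv e =>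
    (h.image_sq hPM (hP ▸ hv)).1 e
  have hcomm : ∀ v ∈ E, ∀ w ∈ (P : Subgroup X), v * w = w * v := fun v hv w hw =>
    h.image_commute hPM hv (hP ▸ hw)
  have hXcore : Cfsg.oddCore X = ⊥ := Cores.pPrimeCore_quotient_self 2
  by_cases hU : Cfsg.pCore 2 X = ⊥
  · right
    have hF : Cfsg.fittingSubgroup X = ⊥ := by
      rw [Cores.fittingSubgroup_eq_bot_iff]
      intro p hp
      haveI := Fact.mk hp
      by_cases h2 : p = 2
      · rw [h2, hU]
      · refine le_bot_iff.1 (hXcore ▸ Cores.le_pPrimeCore (Subgroup.sSup_normal _ fun _ h => h.1) ?_)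
        obtain ⟨n, hn⟩ := IsPGroup.iff_card.1 (Cores.isPGroup_pCore p X)
        rw [hn]
        exact Nat.coprime_two_right.2 (hp.odd_of_ne_two h2).pow
    have hsol : ∀ N : Subgroup X, N.Normal → Group.IsSolvable ↥N → N = ⊥ := fun N hN hs => by
      have h1 : Cfsg.fittingSubgroup ↥N = ⊥ := by
        have := Cores.fittingSubgroup_map_le_of_isSubnormal hN.isSubnormal
        rwa [hF, le_bot_iff, Subgroup.map_eq_bot_iff_of_injective _ N.subtype_injective] at this
      have h2 := Solvable.centralizer_fitting_le ↥N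
      rw [h1, le_bot_iff] at h2
      refine (Subgroup.eq_bot_iff_forall _).2 fun x hx => ?_
      have : (⟨x, hx⟩ : ↥N) ∈ centralizer ((⊥ : Subgroup ↥N) : Set ↥N) :=
        mem_centralizer_iff.2 fun y hy => by rw [mem_bot.1 hy, one_mul, mul_one]
      rw [h2, mem_bot] at this
      exact congrArg Subtype.val this
    have hXne : Nontrivial X := by
      by_contra hX
      haveI := not_nontrivial_iff_subsingleton.1 hX
      have := h.image_card hPM hAM
      rw [← hE, show E = ⊥ from Subsingleton.elim _ _, card_bot] at this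
      omega
    obtain ⟨K₀, hK₀, -⟩ := Components.exists_component_le (S := (⊤ : Subgroup X)) IsSubnormal.top
      (by rw [hF]; exact fun x _ => mem_centralizer_iff.2 fun y hy => by rw [mem_bot.1 hy, one_mul, mul_one])
      (fun hn => by
        have := Cores.le_fittingSubgroup (G := X) (N := (⊤ : Subgroup X)) inferInstance hn
        rw [hF] at this
        exact (bot_ne_top (α := Subgroup X)) (eq_top_iff.2 this))
    -- a component with an involution of `A`
    have heven : 2 ∣ Nat.card K₀ := by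
      by_contra hodd
      exact Components.IsComponent.not_le_of_isSolvable hK₀
        (OddOrderTheorem.solvable (Nat.not_even_iff_odd.1 fun e => hodd (even_iff_two_dvd.1 e))) le_rfl
    obtain ⟨t, ht⟩ := exists_prime_orderOf_dvd_card' 2 heven
    obtain ⟨c, hc⟩ := Involution.exists_conj_mem_sylow P (t := (t : X)) (by rw [orderOf_submonoid, ht])
    set K := K₀.map (MulAut.conj c).toMonoidHom with hKdef
    have hK : Cfsg.IsComponent K := Components.IsComponent.conj hK₀ c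
    set z := c * (t : X) * c⁻¹ with hz
    have hzK : z ∈ K := ⟨t, t.2, rfl⟩
    have hzo : orderOf z = 2 := by rw [hz, Involution.orderOf_conj, orderOf_submonoid, ht]
    have hz1 : z ≠ 1 := fun e => by rw [e, orderOf_one] at hzo; omega
    have hzE : z ∈ E := hinvE z hc (by rw [← pow_two]; exact orderOf_dvd_iff_pow_eq_one.1 hzo.dvd)
    have hzsol := h.isSolvable_centralizer_image hPM hzE hz1
    have huniq : ∀ L : Subgroup X, Cfsg.IsComponent L → L = K := fun L hL => by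
      by_contra hne
      refine Components.IsComponent.not_le_of_isSolvable hL hzsol fun l hl => ?_
      have := commutator_eq_bot_iff_le_centralizer.1 (Components.IsComponent.commutator_eq_bot hL hK hne) hl
      exact mem_centralizer_singleton_iff.2 (mem_centralizer_iff.1 this z hzK).symm
    haveI hKn : K.Normal := by
      refine ⟨fun x hx g => ?_⟩
      have h1 := huniq _ (Components.IsComponent.conj hK g)
      rw [← h1]
      exact ⟨x, hx, rfl⟩
    have hC : centralizer (K : Set X) = ⊥ :=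
      hsol _ inferInstance (Solvable.isSolvable_of_le (K := centralizer ({z} : Set X)) fun x hx =>
        mem_centralizer_singleton_iff.2 (mem_centralizer_iff.1 hx z hzK).symm)
    have hcen : Subgroup.center ↥K = ⊥ := by
      rw [← Subgroup.map_eq_bot_iff_of_injective _ K.subtype_injective, ← le_bot_iff, ← hC]
      rintro _ ⟨x, hx, rfl⟩
      exact mem_centralizer_iff.2 fun y hy => congrArg Subtype.val (Subgroup.mem_center_iff.1 hx ⟨y, hy⟩)
    haveI hsimp : IsSimpleGroup ↥K := by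
      haveI := hK.2.2
      exact ((QuotientGroup.quotientMulEquivOfEq hcen).trans QuotientGroup.quotientBot).isSimpleGroup_congr.1
        inferInstance
    refine ⟨K, hsimp, hcen, hKn, ?_, hC⟩
    obtain ⟨T, hT⟩ := exists_sylow_inf P K
    obtain ⟨g, hg, hgne⟩ := exists_conj_ne hcen T (z := (⟨z, hzK⟩ : ↥K))
      (by rw [Subgroup.orderOf_mk]; exact hzo) (hT ▸ mem_subgroupOf.2 hc)
    set z' : X := ((g * ⟨z, hzK⟩ * g⁻¹ : ↥K) : X) with hz'
    have hz'E : z' ∈ E := by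
      refine hinvE z' (mem_subgroupOf.1 (hT ▸ hg : g * ⟨z, hzK⟩ * g⁻¹ ∈ (P : Subgroup X).subgroupOf K)) ?_
      rw [hz']
      show ((g : X) * z * (g : X)⁻¹) * ((g : X) * z * (g : X)⁻¹) = 1
      rw [show (g : X) * z * (g : X)⁻¹ * ((g : X) * z * (g : X)⁻¹) = (g : X) * (z * z) * (g : X)⁻¹ by group,
        ← pow_two, orderOf_dvd_iff_pow_eq_one.1 hzo.dvd]
      group
    have hz'z : z' ≠ z := fun e => hgne (Subtype.ext e)
    have hz'1 : z' ≠ 1 := fun e => hz1 ((conj_eq_one_iff (a := (g : X))).1 e)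
    have hfour : 3 ≤ Nat.card ↥(E ⊓ K) := by
      classical
      let φ : Fin 3 → ↥(E ⊓ K) := ![1, ⟨z, hzE, hzK⟩, ⟨z', hz'E, SetLike.coe_mem _⟩]
      refine (le_of_eq (Nat.card_fin 3).symm).trans (Nat.card_le_card_of_injective φ ?_)
      intro r s e
      have e' := congrArg Subtype.val e
      fin_cases r <;> fin_cases s <;>
        simp [φ, hz1, hz'1, hz'z, Ne.symm hz1, Ne.symm hz'1, Ne.symm hz'z] at e' ⊢
    have hdvd : Nat.card ↥(E ⊓ K) ∣ 4 := h.image_card hPM hAM ▸ card_dvd_of_le inf_le_left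
    have h4 : Nat.card ↥(E ⊓ K) = 4 := by
      have := Nat.le_of_dvd (by norm_num) hdvd
      interval_cases hh : Nat.card ↥(E ⊓ K) <;> omega
    exact inf_eq_left.1 (Subgroup.eq_of_le_of_card_ge inf_le_left
      (by rw [h4, ← h.image_card hPM hAM]))
  · left
    set U := Cfsg.pCore 2 X
    haveI hUn : U.Normal := Subgroup.sSup_normal _ fun _ h => h.1
    have hUP : U ≤ (P : Subgroup X) := Cores.pCore_le_sylow P
    haveI : (U ⊓ E).Normal := by
      refine ⟨fun x hx g => ⟨hUn.conj_mem x hx.1 g, ?_⟩⟩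
      refine hinvE _ (hUP (hUn.conj_mem x hx.1 g)) ?_
      rw [show g * x * g⁻¹ * (g * x * g⁻¹) = g * (x * x) * g⁻¹ by group,
        (h.image_sq hPM (hP ▸ hUP hx.1)).2 hx.2]
      group
    obtain ⟨w, hwU, hw1⟩ : ∃ w ∈ U ⊓ E, w ≠ 1 := by
      obtain ⟨n, hn⟩ := IsPGroup.iff_card.1 (Cores.isPGroup_pCore 2 X)
      have h2 : 2 ∣ Nat.card U := by
        rw [hn]
        refine dvd_pow_self 2 fun e => hU ?_
        rw [e, pow_zero] at hn
        exact Subgroup.card_eq_one.1 hn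
      obtain ⟨u, hu⟩ := exists_prime_orderOf_dvd_card' 2 h2
      refine ⟨u, ⟨u.2, hinvE _ (hUP u.2) ?_⟩, ?_⟩
      · rw [← pow_two, ← orderOf_submonoid] at *
        exact orderOf_dvd_iff_pow_eq_one.1 hu.dvd
      · intro e
        rw [← orderOf_submonoid, e, orderOf_one] at hu
        omega
    have hsol : Group.IsSolvable ↥(centralizer ((U ⊓ E : Subgroup X) : Set X)) := by
      haveI := h.isSolvable_centralizer_image hPM hwU.2 hw1
      exact Solvable.isSolvable_of_le (K := centralizer ({w} : Set X)) fun x hx =>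
        mem_centralizer_singleton_iff.2 (mem_centralizer_iff.1 hx w hwU).symm
    have hPC : (P : Subgroup X) ≤ centralizer ((U ⊓ E : Subgroup X) : Set X) := fun x hx =>
      mem_centralizer_iff.2 fun y hy => hcomm y hy.2 x hx
    haveI : Group.IsSolvable X := (Group.isSolvable_iff_subgroup_quotient
      (centralizer ((U ⊓ E : Subgroup X) : Set X))).2 ⟨hsol, OddOrderTheorem.solvable
        (Nat.not_even_iff_odd.1 fun he => P.not_dvd_index ((even_iff_two_dvd.1
          (by rwa [← Subgroup.index_eq_card] at he)).trans (Subgroup.index_dvd_of_le hPC)))⟩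
    exact (Group.isSolvable_iff_subgroup_quotient (Cfsg.oddCore ↥M)).2
      ⟨OddOrderTheorem.solvable (Nat.coprime_two_right.1 (Cores.coprime_card_pPrimeCore 2)), inferInstance⟩

/-- With a 2-subgroup above `A`, the core of `C(a)` meets `M` in the core of `M`. -/
theorem core_inf_le' (hIH : Smaller G) (hM : M ≠ ⊤) (hAM : A ≤ M)
    (hq : ∃ q ∈ M, q ∈ (S : Subgroup G) ∧ q ∉ A) {a : G} (ha : a ∈ A) (ha1 : a ≠ 1) :
    (Cfsg.oddCore ↥(centralizer ({a} : Set G))).map (centralizer ({a} : Set G)).subtype ⊓ M ≤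
      (Cfsg.oddCore ↥M).map M.subtype := by
  haveI : Fact (Nat.Prime 2) := ⟨Nat.prime_two⟩
  set C := centralizer ({a} : Set G) with hCdef
  set O := (Cfsg.oddCore ↥C).map C.subtype with hO
  have hOodd : Odd (Nat.card O) := by
    rw [hO, card_map_of_injective C.subtype_injective]
    exact Nat.coprime_two_right.1 (Cores.coprime_card_pPrimeCore 2)
  have hOn : ∀ g ∈ C, ∀ x ∈ O, g * x * g⁻¹ ∈ O := fun g hg x hx => by
    obtain ⟨r, hr, rfl⟩ := hx
    exact ⟨⟨g, hg⟩ * r * ⟨g, hg⟩⁻¹,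
      (inferInstance : (Cfsg.oddCore ↥C).Normal).conj_mem r hr _, rfl⟩
  set X := ↥M ⧸ Cfsg.oddCore ↥M
  set f := QuotientGroup.mk' (Cfsg.oddCore ↥M) with hf
  set W := ((O ⊓ M).subgroupOf M).map f with hW
  -- it suffices that `W` is trivial
  suffices hbot : W = ⊥ by
    intro x hx
    refine ⟨⟨x, hx.2⟩, (QuotientGroup.eq_one_iff (⟨x, hx.2⟩ : ↥M)).1 ?_, rfl⟩
    have : f ⟨x, hx.2⟩ ∈ W := ⟨⟨x, hx.2⟩, mem_subgroupOf.2 hx, rfl⟩
    rwa [hbot, mem_bot] at this
  have hWodd : Odd (Nat.card W) := by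
    refine Odd.of_dvd_nat ?_ (card_map_dvd _ f)
    rw [Nat.card_congr (subgroupOfEquivOfLe (inf_le_right : O ⊓ M ≤ M)).toEquiv]
    exact hOodd.of_dvd_nat (card_dvd_of_le inf_le_left)
  set P : Sylow 2 X := PM.mapSurjective (QuotientGroup.mk'_surjective (Cfsg.oddCore ↥M))
  have hP : (P : Subgroup X) = (PM : Subgroup ↥M).map f := Sylow.coe_mapSurjective _ _
  set E := (A.subgroupOf M).map f with hE
  set v : X := f ⟨a, hAM ha⟩ with hv
  have hvE : v ∈ E := ⟨⟨a, hAM ha⟩, mem_subgroupOf.2 ha, rfl⟩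
  have hv1 : v ≠ 1 := fun e => ha1 (congrArg Subtype.val (disjoint_core (PM := PM)
    (h.mem_pm hPM (h.le ha)) ((QuotientGroup.eq_one_iff (⟨a, hAM ha⟩ : ↥M)).1 e)))
  have hvP : v ∈ (P : Subgroup X) := hP ▸ h.image_le hPM hvE
  have hPCv : (P : Subgroup X) ≤ centralizer ({v} : Set X) := fun x hx =>
    mem_centralizer_singleton_iff.2 (h.image_commute hPM hvE (hP ▸ hx)).symm
  have hWCv : W ≤ centralizer ({v} : Set X) := by
    rintro _ ⟨x, hx, rfl⟩
    have hxC : (x : G) ∈ C := map_subtype_le _ (mem_subgroupOf.1 hx).1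
    refine mem_centralizer_singleton_iff.2 ?_
    rw [hv, ← map_mul, ← map_mul]
    exact congrArg f (Subtype.ext (mem_centralizer_singleton_iff.1 hxC))
  have hcent : centralizer ({v} : Set X) =
      ((centralizer ({a} : Set G)).subgroupOf M).map f := by
    refine le_antisymm ?_ ?_
    · have htop := Components.centralizer_map_of_coprime (p := 2) (R := zpowers (⟨a, hAM ha⟩ : ↥M))
        (PM.2.to_le (zpowers_le.2 (h.mem_pm hPM (h.le ha)))) (Cfsg.oddCore ↥M)
        (Cores.coprime_card_pPrimeCore 2)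
      intro x hx
      have h1 : x ∈ centralizer (((zpowers (⟨a, hAM ha⟩ : ↥M)).map f : Subgroup X) : Set X) := by
        refine mem_centralizer_iff.2 fun y hy => ?_
        obtain ⟨b, hb, rfl⟩ := hy
        obtain ⟨k, rfl⟩ := mem_zpowers_iff.1 hb
        rw [map_zpow]
        exact ((Commute.symm (mem_centralizer_singleton_iff.1 hx)).zpow_left k).eq
      rw [htop] at h1
      obtain ⟨y, hy, rfl⟩ := h1
      exact ⟨y, mem_subgroupOf.2 (mem_centralizer_singleton_iff.2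
        (congrArg Subtype.val (mem_centralizer_iff.1 hy _ (mem_zpowers _))).symm), rfl⟩
    · rintro _ ⟨x, hx, rfl⟩
      refine mem_centralizer_singleton_iff.2 ?_
      rw [hv, ← map_mul, ← map_mul]
      exact congrArg f (Subtype.ext (mem_centralizer_singleton_iff.1 (mem_subgroupOf.1 hx)))
  have hWn : ∀ g ∈ centralizer ({v} : Set X), ∀ w ∈ W, g * w * g⁻¹ ∈ W := fun g hg w hw => by
    rw [hcent] at hg
    obtain ⟨y, hy, rfl⟩ := hg
    obtain ⟨x, hx, rfl⟩ := hw
    refine ⟨y * x * y⁻¹, mem_subgroupOf.2 ⟨?_, (y * x * y⁻¹).2⟩, by rw [map_mul, map_mul, map_inv]⟩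
    exact hOn _ (mem_subgroupOf.1 hy) _ (mem_subgroupOf.1 hx).1
  have hdisj : ∀ x ∈ W, (∃ Q : Subgroup X, IsPGroup 2 Q ∧ x ∈ Q) → x = 1 := by
    rintro x hx ⟨Q, hQ, hxQ⟩
    obtain ⟨k, hk⟩ := IsPGroup.iff_orderOf.1 hQ ⟨x, hxQ⟩
    rw [Subgroup.orderOf_mk] at hk
    exact orderOf_eq_one_iff.1 (Nat.eq_one_of_dvd_coprimes
      ((Nat.coprime_two_right.2 hWodd).pow_right k) (Subgroup.orderOf_dvd_natCard _ hx) hk.dvd)
  rcases h.solvable_or_component' hPM hAM with hs | ⟨K, hKs, hKc, hKn, hEK, hCK⟩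
  · haveI := hs
    haveI : Group.IsSolvable X := Group.isSolvable_of_surjective (QuotientGroup.mk'_surjective _)
    set U := Cfsg.pCore 2 X
    have hUn : U.Normal := Subgroup.sSup_normal _ fun _ h => h.1
    have hUP : U ≤ (P : Subgroup X) := Cores.pCore_le_sylow P
    have hWU : W ≤ U := fun w hw => Solvable.centralizer_pCore_le_of_isSolvable (p := 2)
      (Cores.pPrimeCore_quotient_self (G := ↥M) 2) (mem_centralizer_iff.2 fun u hu => by
        refine mul_inv_eq_iff_eq_mul.1 (mul_inv_eq_one.1 (hdisj (u * w * u⁻¹ * w⁻¹) ?_ ⟨U, ?_, ?_⟩))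
        · exact W.mul_mem (hWn u (hPCv (hUP hu)) w hw) (W.inv_mem hw)
        · exact Cores.isPGroup_pCore 2 X
        · rw [show u * w * u⁻¹ * w⁻¹ = u * (w * u⁻¹ * w⁻¹) by group]
          exact U.mul_mem hu (hUn.conj_mem _ (U.inv_mem hu) w))
    exact (Subgroup.eq_bot_iff_forall _).2 fun w hw =>
      hdisj w hw ⟨U, Cores.isPGroup_pCore 2 X, hWU hw⟩
  haveI := hKs
  haveI := hKn
  obtain ⟨T, hT⟩ := exists_sylow_inf P K
  have hmemT : ∀ x : ↥K, x ∈ (T : Subgroup ↥K) ↔ (x : X) ∈ (P : Subgroup X) := fun x => by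
    rw [hT]; exact mem_subgroupOf
  set EK := E.subgroupOf K with hEKdef
  have hEKT : EK ≤ (T : Subgroup ↥K) := fun x hx => (hmemT x).2 (hP ▸ h.image_le hPM (mem_subgroupOf.1 hx))
  have hEKcard : Nat.card EK = 4 := by
    rw [hEKdef, Nat.card_congr (subgroupOfEquivOfLe hEK).toEquiv]; exact h.image_card hPM hAM
  have hTmem : ∀ t ∈ (T : Subgroup ↥K), t * t = 1 ↔ t ∈ EK := fun t ht => by
    rw [Subtype.ext_iff, mem_subgroupOf]
    exact h.image_sq hPM (hP ▸ (hmemT t).1 ht)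
  by_cases hab : ∀ s ∈ (T : Subgroup ↥K), ∀ t ∈ (T : Subgroup ↥K), s * t = t * s
  · exfalso
    have hTE : (T : Subgroup ↥K) = EK := sylow_eq_of_abelian hKc T EK hEKcard hEKT hTmem
      (fun t ht => mem_subgroupOf.2 (h.image_sq_mem hPM (hP ▸ (hmemT t).1 ht))) hab
    haveI : IsMulCommutative ↥(T : Subgroup ↥K) := ⟨⟨fun x y => Subtype.ext (hab _ x.2 _ y.2)⟩⟩
    obtain ⟨q, hqM, hqS, hqA⟩ := hq
    have hqP : f ⟨q, hqM⟩ ∈ (P : Subgroup X) := hP ▸ ⟨_, h.mem_pm hPM hqS, rfl⟩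
    set α : MulAut ↥K := MulAut.conjNormal (f ⟨q, hqM⟩) with hα
    obtain ⟨k, hk⟩ := ZStar.aut_inner_of_abelian_sylow ZStar.uniqueInvolution hKc
      (by
        rcases (inferInstance : (Cfsg.pPrimeCore 2 ↥K).Normal).eq_bot_or_eq_top with e | e
        · exact e
        · exfalso
          have h1 := Cores.coprime_card_pPrimeCore (G := ↥K) 2
          rw [e, card_top, Nat.coprime_two_right] at h1
          have h2 : 4 ∣ Nat.card ↥K := hEKcard ▸ card_subgroup_dvd_card EK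
          exact Nat.not_even_iff_odd.2 h1 (even_iff_two_dvd.2 ((by norm_num : 2 ∣ 4).trans h2)))
      T α (by
        obtain ⟨j, hj⟩ := P.2 ⟨_, hqP⟩
        obtain ⟨i, -, hi⟩ := (Nat.dvd_prime_pow Nat.prime_two).1
          (orderOf_dvd_of_pow_eq_one (x := α) (n := 2 ^ j) (by
            rw [hα, ← map_pow, show f ⟨q, hqM⟩ ^ 2 ^ j = 1 from congrArg Subtype.val hj, map_one]))
        exact ⟨i, hi⟩)
      fun x hx => Subtype.ext (by
        rw [hα, MulAut.conjNormal_apply,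
          ← h.image_commute hPM (mem_subgroupOf.1 (hTE ▸ hx : x ∈ EK)) (hP ▸ hqP), mul_inv_cancel_right])
    have hqk : f ⟨q, hqM⟩ = (k : X) := by
      have : (k : X)⁻¹ * f ⟨q, hqM⟩ ∈ centralizer (K : Set X) := mem_centralizer_iff.2 fun y hy => by
        have h1 : (k : X) * y * (k : X)⁻¹ = f ⟨q, hqM⟩ * y * (f ⟨q, hqM⟩)⁻¹ := by
          have := congrArg (fun u : ↥K => (u : X)) (DFunLike.congr_fun hk ⟨y, hy⟩)
          simpa [hα, MulAut.conjNormal_apply] using this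
        calc y * ((k : X)⁻¹ * f ⟨q, hqM⟩)
            = (k : X)⁻¹ * ((k : X) * y * (k : X)⁻¹) * f ⟨q, hqM⟩ := by group
          _ = (k : X)⁻¹ * f ⟨q, hqM⟩ * y := by rw [h1]; group
      rw [hCK, mem_bot, inv_mul_eq_one] at this
      exact this.symm
    have hkE : f ⟨q, hqM⟩ ∈ E := by
      rw [hqk]
      exact mem_subgroupOf.1 (hTE ▸ ((hmemT k).2 (hqk ▸ hqP)) : k ∈ EK)
    obtain ⟨b, hb, e⟩ := hkE
    have hbq : b = ⟨q, hqM⟩ := inv_mul_eq_one.1 (disjoint_core
      ((PM : Subgroup ↥M).mul_mem ((PM : Subgroup ↥M).inv_mem (h.mem_pm hPM (h.le hb))) (h.mem_pm hPM hqS))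
      ((QuotientGroup.eq_one_iff _).1 (show f _ = 1 by rw [map_mul, map_inv, e, inv_mul_cancel])))
    exact hqA (by simpa [hbq] using (mem_subgroupOf.1 hb : (b : G) ∈ A))
  -- the Sylow subgroup of `K` is nonabelian, so `K ≅ PSU 3 F 4`
  have hset : Setting T EK := by
    refine ⟨hEKcard, hEKT, hTmem, fun t ht => mem_centralizer_iff.2 fun e he => Subtype.ext ?_, ?_⟩
    · exact h.image_commute hPM (mem_subgroupOf.1 he) (hP ▸ (hmemT t).1 ht)
    · exact fun hc => hab fun s hs t ht => congrArg Subtype.val (hc.is_comm.comm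
        (⟨s, hs⟩ : ↥(T : Subgroup ↥K)) ⟨t, ht⟩)
  have hlt : Nat.card ↥K < Nat.card G := by
    refine lt_of_le_of_lt ((card_le_card_group K).trans ?_) (lt_of_le_of_ne (card_le_card_group M)
      fun e => hM (eq_top_of_card_eq M e))
    exact Nat.card_le_card_of_surjective f (QuotientGroup.mk'_surjective _)
  obtain ⟨H, hH⟩ := hIH ↥K hlt T EK hset
  obtain ⟨F, _, _, hF, ⟨φ⟩, -⟩ := UFourSylow.psu_of_stronglyEmbedded hH hset
  have hfacts := Facts.groupFacts_of_psu (n := 2) (F := F) le_rfl (by rw [hF]; norm_num) φ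
  refine (Subgroup.eq_bot_iff_forall _).2 fun w hw => ?_
  set α : MulAut ↥K := MulAut.conjNormal w with hα
  have hvK : v ∈ K := hEK hvE
  -- `C(v)` normalises `T`
  have hTnorm : ∀ g ∈ centralizer ({v} : Set X), ∀ t : ↥K, t ∈ (T : Subgroup ↥K) →
      MulAut.conjNormal g t ∈ (T : Subgroup ↥K) := by
    intro g hg t ht
    set T' : Sylow 2 ↥K := T.mapSurjective (f := (MulAut.conjNormal g : MulAut ↥K).toMonoidHom)
      (MulAut.conjNormal g : MulAut ↥K).surjective with hT'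
    have hmapT : (T' : Subgroup ↥K) =
        (T : Subgroup ↥K).map (MulAut.conjNormal g : MulAut ↥K).toMonoidHom :=
      Sylow.coe_mapSurjective _ _
    have hmem' : MulAut.conjNormal g t ∈ (T' : Subgroup ↥K) := by
      rw [hmapT]; exact ⟨t, ht, rfl⟩
    have hvT : (⟨v, hvK⟩ : ↥K) ∈ (T : Subgroup ↥K) := (hmemT _).2 hvP
    rw [hfacts.uniq T T' ⟨v, hvK⟩ (fun e => hv1 (congrArg Subtype.val e)) ?_ hvT ?_]
    · exact hmem'
    · exact Subtype.ext ((h.image_sq hPM (hP ▸ hvP)).2 hvE)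
    · show _ ∈ (T' : Subgroup ↥K)
      rw [hmapT]
      refine ⟨_, hvT, Subtype.ext ?_⟩
      show g * v * g⁻¹ = v
      rw [mem_centralizer_singleton_iff.1 hg, mul_inv_cancel_right]
  have hα1 : α = 1 := hfacts.aut_eq_one T α
    (hWodd.of_dvd_nat ((orderOf_map_dvd _ w).trans (Subgroup.orderOf_dvd_natCard _ hw)))
    fun t ht => by
      refine Subtype.ext (mul_inv_eq_one.1 (hdisj ((α t : X) * (t : X)⁻¹) ?_
        ⟨(T : Subgroup ↥K).map K.subtype, T.2.map K.subtype, ?_⟩))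
      · rw [hα, MulAut.conjNormal_apply, show w * (t : X) * w⁻¹ * (t : X)⁻¹ =
          w * ((t : X) * w⁻¹ * (t : X)⁻¹) by group]
        exact W.mul_mem hw (hWn _ (hPCv ((hmemT t).1 ht)) _ (W.inv_mem hw))
      · exact ⟨α t * t⁻¹, mul_mem (hTnorm w (hWCv hw) t ht) (inv_mem ht), rfl⟩
  have : w ∈ centralizer (K : Set X) := mem_centralizer_iff.2 fun y hy => by
    have h1 : w * y * w⁻¹ = y := by
      have := congrArg (fun u : ↥K => (u : X)) (DFunLike.congr_fun hα1 ⟨y, hy⟩)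
      simpa [hα, MulAut.conjNormal_apply] using this
    exact (mul_inv_eq_iff_eq_mul.1 h1).symm
  rwa [hCK, mem_bot] at this

end local_

variable [IsSimpleGroup G]

/-- Item (L). -/
theorem solvable_or_component {M : Subgroup G} (hAM : A ≤ M) :
    Group.IsSolvable ↥M ∨ ∃ K : Subgroup (↥M ⧸ Cfsg.oddCore ↥M), IsSimpleGroup ↥K ∧
      Subgroup.center ↥K = ⊥ ∧ K.Normal ∧
      (A.subgroupOf M).map (QuotientGroup.mk' (Cfsg.oddCore ↥M)) ≤ K ∧
      centralizer (K : Set (↥M ⧸ Cfsg.oddCore ↥M)) = ⊥ := by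
  obtain ⟨S', h', -, PM, hPM⟩ := h.exists_sylow_local M (S.2.to_le h.le) le_rfl hAM
  exact h'.solvable_or_component' hPM hAM

/-- The noncyclic abelian `A`. -/
theorem not_isCyclic : ¬ IsCyclic ↥A := fun hc => by
  classical
  haveI := Fintype.ofFinite ↥A
  have h1 := IsCyclic.card_pow_eq_one_le (α := ↥A) (n := 2) (by norm_num)
  rw [Finset.filter_true_of_mem fun x _ => by rw [pow_two]; exact Subtype.ext (h.sq x.2),
    Finset.card_univ, ← Nat.card_eq_fintype_card, h.card] at h1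
  omega

/-- If a 2-subgroup `Q > A` of `M` normalises the odd `D ≤ M` then `D ≤ O(M)`. -/
theorem odd_le_core (hIH : Smaller G) {M : Subgroup G} (hM : M ≠ ⊤) {Q : Subgroup G}
    (hQ : IsPGroup 2 ↥Q) (hAQ : A ≤ Q) (hQM : Q ≤ M) (hQA : ¬ Q ≤ A) {D : Subgroup G} (hDM : D ≤ M)
    (hD : Odd (Nat.card D)) (hQD : Q ≤ normalizer (D : Set G)) :
    D ≤ (Cfsg.oddCore ↥M).map M.subtype := by
  obtain ⟨S', h', hQS, PM, hPM⟩ := h.exists_sylow_local M hQ hAQ hQM
  obtain ⟨q, hq, hqA⟩ := Set.not_subset.1 hQA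
  haveI : IsMulCommutative ↥A := ⟨⟨fun x y => Subtype.ext (h.commute x.2 (h.le y.2))⟩⟩
  refine Coprime.le_of_noncyclic h.not_isCyclic (hAQ.trans hQD)
    (by rw [h.card, show 4 = 2 ^ 2 by rfl]; exact ((Nat.coprime_two_left.2 hD).pow_left 2))
    fun a ha ha1 d hd => ?_
  refine h'.core_inf_le' hPM hIH hM (hAQ.trans hQM) ⟨q, hQM hq, hQS hq, hqA⟩ ha ha1 ⟨?_, hDM hd.1⟩
  refine h'.mem_core_of_fixed ha ha1 hd.2 (hD.of_dvd_nat (Subgroup.orderOf_dvd_natCard _ hd.1))
    (hQS hq) hqA hD ?_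
  rw [show d * q * d⁻¹ * q⁻¹ = d * (q * d⁻¹ * q⁻¹) by group]
  exact D.mul_mem hd.1 ((mem_normalizer_iff.1 (hQD hq) _).1 (D.inv_mem hd.1))

end Setting

/-- `Setting.solvable_or_component` in a counterexample. -/
theorem Hyp.solvable_or_component (h : Hyp S A) {M : Subgroup G} (hAM : A ≤ M) :
    Group.IsSolvable ↥M ∨ ∃ K : Subgroup (↥M ⧸ Cfsg.oddCore ↥M), IsSimpleGroup ↥K ∧
      Subgroup.center ↥K = ⊥ ∧ K.Normal ∧
      (A.subgroupOf M).map (QuotientGroup.mk' (Cfsg.oddCore ↥M)) ≤ K ∧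
      centralizer (K : Set (↥M ⧸ Cfsg.oddCore ↥M)) = ⊥ := by
  haveI := h.simple
  exact h.setting.solvable_or_component hAM

/-- `Setting.odd_le_core` in a counterexample. -/
theorem Hyp.odd_le_core (h : Hyp S A) {M : Subgroup G} (hM : M ≠ ⊤) {Q : Subgroup G}
    (hQ : IsPGroup 2 ↥Q) (hAQ : A ≤ Q) (hQM : Q ≤ M) (hQA : ¬ Q ≤ A) {D : Subgroup G} (hDM : D ≤ M)
    (hD : Odd (Nat.card D)) (hQD : Q ≤ normalizer (D : Set G)) :
    D ≤ (Cfsg.oddCore ↥M).map M.subtype := by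
  haveI := h.simple
  exact h.setting.odd_le_core h.smaller hM hQ hAQ hQM hQA hDM hD hQD

/-- `Setting.isSolvable_centralizer` in a counterexample. -/
theorem Hyp.isSolvable_centralizer (h : Hyp S A) {a : G} (ha : a ∈ A) (ha1 : a ≠ 1) :
    Group.IsSolvable ↥(centralizer ({a} : Set G)) := by
  haveI := h.simple
  exact h.setting.isSolvable_centralizer ha ha1

/-- `Setting.isSolvable_of_rank_one` in a counterexample. -/
theorem Hyp.isSolvable_of_rank_one (h : Hyp S A) {H : Subgroup G}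
    (hH : ∀ s ∈ H, ∀ t ∈ H, s * s = 1 → t * t = 1 → s ≠ 1 → t ≠ 1 → s * t = t * s → s = t) :
    Group.IsSolvable ↥H := by
  haveI := h.simple
  exact h.setting.isSolvable_of_rank_one hH

end Cfsg.Agent.Goldschmidt.ThreeInv
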