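import Cfsg.Agent.EqLemmas
import Cfsg.Agent.Lib.Goldschmidt.ThreeInv.Proper
import Cfsg.Agent.Lib.Goldschmidt.ThreeInv.Primes.Overgroup
import Cfsg.Agent.Lib.Goldschmidt.ThreeInv.Primes.Torus

/-!
# Three involutions, section 1: the theorem (owner: helper87)

* `oddLocal_of_hyp` : item (L) for a counterexample
* `primesTarget` : `PrimesTarget`
-/

set_option autoImplicit false
set_option linter.style.haveILetI false
set_option linter.unusedSectionVars false

namespace Cfsg.Agent.Goldschmidt.ThreeInv.Primes

open Subgroup GWKlein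

universe u

variable {G : Type u} [Group G] [Finite G] {S : Sylow 2 G} {A : Subgroup G}

/-- Item (L) for a counterexample. -/
theorem oddLocal_of_hyp (h : Hyp S A) : OddLocal S A where
  setting := h.setting
  simple := h.simple
  odd_le := fun M Q D hM hQ hAQ hQM hQA hDM hD hQD => h.odd_le_core hM hQ hAQ hQM hQA hDM hD hQD
  cent_solvable := fun a ha ha1 => h.isSolvable_centralizer ha ha1
  rank_one := fun H hH => h.isSolvable_of_rank_one hH

/-- No class is mixed in a counterexample. -/
theorem unmixed_of_hyp (h : Hyp S A) : Unmixed S A := by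
  intro p Z hp hp2 hZ
  haveI := Fact.mk hp
  by_contra hno
  push Not at hno
  refine Mixed.false (oddLocal_of_hyp h) (X := Z) (p := p) ⟨hZ, fun v hv hv1 => ?_⟩ hp2 h.not_se
  obtain ⟨x, hx, hxv⟩ := SetLike.not_le_iff_exists.1 (hno v hv hv1)
  exact ⟨x, hx, fun e => hxv (mem_centralizer_singleton_iff.2 e.symm)⟩

/-- **Section 1**. -/
theorem primesTarget : PrimesTarget.{u} := fun _ _ _ _ A h =>
  ⟨torus A, torusData (oddLocal_of_hyp h) (unmixed_of_hyp h) h.not_se⟩

end Cfsg.Agent.Goldschmidt.ThreeInv.Primes
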