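import Cfsg.Agent.EqLemmas
import Cfsg.Agent.Lib.Goldschmidt.ThreeInv.Assembly
import Cfsg.Agent.Lib.Goldschmidt.ThreeInv.Primes
import Cfsg.Agent.Lib.Goldschmidt.ThreeInv.Cent.Main
import Cfsg.Agent.Lib.Goldschmidt.ThreeInv.Cent.PowFour
import Cfsg.Agent.Lib.Goldschmidt.ThreeInv.Cent.CoreCent
import Cfsg.Agent.Lib.Goldschmidt.ThreeInv.Chars.Main

/-!
# The three involution theorem (owner: helper63)

* `threeInvTarget` : `ThreeInvTarget`, closed; from sections 1 (primes), 2 (centralisers), 3 (characters)
-/

set_option autoImplicit false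

namespace Cfsg.Agent.Goldschmidt.ThreeInv

universe u

/-- A simple group in the `Setting` has a strongly embedded subgroup. -/
theorem threeInvTarget : ThreeInvTarget.{u} :=
  threeInvTarget_of Primes.primesTarget (centralisersTarget_of coreCentTarget powFourTarget) charsTarget

end Cfsg.Agent.Goldschmidt.ThreeInv
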