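import Cfsg.Agent.Lib.SecondMain.Principal
import Cfsg.Agent.Lib.ClassCount.CharSum
import Cfsg.Agent.Lib.Char.Linear
import Cfsg.Agent.Lib.Char.Eigen
import Mathlib.GroupTheory.Subgroup.Simple

/-!
# Three involutions: block tools (owner: helper38)

* `sum_block_mul_eq_zero` : a combination of characters vanishing on a section has zero block sum there
* `sum_block_sq_div_eq_zero` : the same for the count of products of two conjugates of an involution
* `exists_apply_ne_one`, `abs_trace_le` : fixed spaces of a subgroup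
* `exists_int_of_pow_four` : a real value at an element of order dividing four is an integer
-/

set_option autoImplicit false

open scoped ComplexConjugate

namespace Cfsg.Agent.Goldschmidt.ThreeInv

open Cfsg Blocks SecondMain

variable {G : Type*} [Group G] [Finite G] {p : ℕ} {M : Ideal AlgInt}

/-- A combination of irreducible characters vanishing on the section of `x` has block sum zero at `x`. -/
theorem sum_block_mul_eq_zero [Fintype (IrrCharacter G)] (hM : IsPModular p M) {B : Set (IrrCharacter G)}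
    (hB : IsPBlock M B) {x : G} (hx : ∃ k, orderOf x = p ^ k) (a : IrrCharacter G → ℂ)
    (h : ∀ c : G, Commute x c → ¬ p ∣ orderOf c → ∑ χ, a χ * (χ : G → ℂ) (x * c) = 0) :
    ∑ᶠ χ ∈ B, a χ * (χ : G → ℂ) x = 0 := by
  classical
  have := Fintype.ofFinite G
  set C := Subgroup.centralizer ({x} : Set G) with hC
  have hH : ∀ g, g ∈ C ↔ Commute x g := fun _ => commute_iff_mem_centralizer_singleton
  set Φ : G → ℂ := ∑ χ : IrrCharacter G, a χ • (χ : G → ℂ) with hΦ
  have hcl : IsClassFunction G Φ :=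
    Char.isClassFunction_sum _ fun χ _ => Char.isClassFunction_smul (irr_class χ) _
  have h1 : ¬ p ∣ orderOf (1 : C) := by simpa using hM.1.one_lt.ne'
  have e := blockPart_eq_sum_induced hM hx hH hB hcl (s := (1 : C)) h1
  rw [Subgroup.coe_one, mul_one, finsum_mem_of_eqOn_zero fun b hb => ?_, blockPart_apply] at e
  · rw [← e]
    exact finsum_mem_congr rfl fun χ _ => by rw [hΦ, Char.classInner_sum_smul _ _ χ (Finset.mem_univ χ)]
  show blockPart b (fun c : C => Φ (x * (c : G))) 1 = 0
  rw [blockPart_congr_regular hM hb.1 (θ' := 0) (fun m hm => ?_) h1, blockPart_zero]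
  have := h m ((hH m).1 m.2) (by rwa [Subgroup.orderOf_coe])
  simpa [hΦ, Finset.sum_apply] using this

/-- If no product of two conjugates of `t` is inverse to an element of the section of `x`, the block sum
of `χ(t)² χ(x) / χ(1)` vanishes. -/
theorem sum_block_sq_div_eq_zero (hM : IsPModular p M) {B : Set (IrrCharacter G)}
    (hB : IsPBlock M B) {x t : G} (hx : ∃ k, orderOf x = p ^ k)
    (h : ∀ c : G, Commute x c → ¬ p ∣ orderOf c →
      ∀ g k : G, IsConj t g → IsConj t k → g * k ≠ (x * c)⁻¹) :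
    ∑ᶠ χ ∈ B, (χ : G → ℂ) t ^ 2 / (χ : G → ℂ) 1 * (χ : G → ℂ) x = 0 := by
  classical
  have := Fintype.ofFinite G
  have := Fintype.ofFinite (IrrCharacter G)
  refine sum_block_mul_eq_zero hM hB hx _ fun c hc hr => ?_
  have hf : ClassCount.fibreCount t t (x * c)⁻¹ = 0 := by
    refine Nat.card_eq_zero.2 (Or.inl ⟨fun g => ?_⟩)
    exact h c hc hr g.1 (g.1⁻¹ * (x * c)⁻¹) g.2.1 g.2.2 (mul_inv_cancel_left _ _)
  have e := ClassCount.card_mul_fibreCount t t (x * c)⁻¹
  rw [hf, Nat.cast_zero, mul_zero, inv_inv] at e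
  have hK : (Nat.card {g : G // IsConj t g} : ℂ) ≠ 0 := by
    have : Nonempty {g : G // IsConj t g} := ⟨⟨t, IsConj.refl t⟩⟩
    exact_mod_cast Nat.card_pos.ne'
  refine mul_left_cancel₀ (pow_ne_zero 2 hK) ?_
  rw [mul_zero]
  refine Eq.trans ?_ e.symm
  rw [Finset.mul_sum]
  refine Finset.sum_congr rfl fun χ _ => ?_
  have := Char.IsIrrCharacter.apply_one_ne_zero χ.2
  rw [ClassCount.omega]
  field_simp

/-- A non-trivial irreducible character of a simple group is not constant on a non-trivial subgroup. -/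
theorem exists_apply_ne_one [IsSimpleGroup G] {χ : IrrCharacter G}
    (hχ : (χ : G → ℂ) ≠ fun _ => 1) {K : Subgroup G} (hK : K ≠ ⊥) :
    ∃ k ∈ K, (χ : G → ℂ) k ≠ (χ : G → ℂ) 1 := by
  classical
  have := Fintype.ofFinite G
  obtain ⟨n, ρ, hi, hρ⟩ := χ.2
  by_contra hne
  push Not at hne
  let N : Subgroup G :=
    { carrier := {g | ρ g = LinearMap.id}
      one_mem' := by simp [Module.End.one_eq_id]
      mul_mem' := fun {a b} (ha : ρ a = _) (hb : ρ b = _) => by
        show ρ (a * b) = _
        rw [map_mul, ha, hb]; rfl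
      inv_mem' := fun {a} (ha : ρ a = _) => by
        show ρ a⁻¹ = _
        calc ρ a⁻¹ = ρ a⁻¹ * ρ a := by rw [ha]; rfl
          _ = LinearMap.id := by rw [← map_mul, inv_mul_cancel, map_one]; rfl }
  have hN : N.Normal := ⟨fun g (hg : ρ g = _) c => by
    show ρ (c * g * c⁻¹) = _
    calc ρ (c * g * c⁻¹) = ρ c * (1 * ρ c⁻¹) := by rw [map_mul, map_mul, hg, mul_assoc]; rfl
      _ = LinearMap.id := by rw [one_mul, ← map_mul, mul_inv_cancel, map_one]; rfl⟩
  have hKN : K ≤ N := fun k hk => (Char.character_eq_finrank_iff ρ k).1 (by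
    have := hne k hk
    rw [← hρ] at this
    rw [this, Representation.char_one])
  rcases hN.eq_bot_or_eq_top with e | e
  · exact hK (le_bot_iff.1 (e ▸ hKN))
  have hc : ∀ g, (χ : G → ℂ) g = (n : ℂ) := fun g => by
    rw [← hρ, (Char.character_eq_finrank_iff ρ g).2 (show g ∈ N from e ▸ Subgroup.mem_top g)]
    simp
  have h1 := Char.card_mul_classInner (χ : G → ℂ) (χ : G → ℂ)
  rw [Char.classInner_irr_self χ.2] at h1
  simp only [hc, Complex.conj_natCast, Finset.sum_const, Finset.card_univ, nsmul_eq_mul,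
    Nat.card_eq_fintype_card] at h1
  have hG : (Fintype.card G : ℂ) ≠ 0 := Nat.cast_ne_zero.2 Fintype.card_ne_zero
  have h2 : ((n * n : ℕ) : ℂ) = ((1 : ℕ) : ℂ) := by
    rw [Nat.cast_mul, Nat.cast_one]
    exact (mul_left_cancel₀ hG h1).symm
  have h3 : n = 1 := Nat.eq_one_of_mul_eq_one_right (Nat.cast_injective h2)
  exact hχ (funext fun g => by rw [hc g, h3, Nat.cast_one])

omit [Finite G] in
/-- The trace of a central involution `a` on the fixed space of `O` is at most its dimension:
both `∑ (χ ρ ± χ (a ρ))` over `O` are non-negative multiples of `2 |O|`. -/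
theorem exists_trace_add_sub {χ : G → ℂ} (hχ : IsCharacter G χ) {O : Subgroup G} [Fintype O] {a : G}
    (ha : a * a = 1) (hao : ∀ ρ ∈ O, Commute a ρ) :
    ∃ m k : ℕ, (∑ ρ : O, χ ρ) + ∑ ρ : O, χ (a * ρ) = 2 * (Nat.card O : ℂ) * m ∧
      (∑ ρ : O, χ ρ) - ∑ ρ : O, χ (a * ρ) = 2 * (Nat.card O : ℂ) * k := by
  classical
  let f : O × ℤˣ →* G :=
    { toFun := fun q => (q.1 : G) * if q.2 = 1 then 1 else a
      map_one' := by simp
      map_mul' := by
        rintro ⟨r, x⟩ ⟨r', y⟩
        rcases Int.units_eq_one_or x with rfl | rfl <;> rcases Int.units_eq_one_or y with rfl | rfl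
        · simp
        · simp [show (-1 : ℤˣ) ≠ 1 by decide, mul_assoc]
        · simp [show (-1 : ℤˣ) ≠ 1 by decide, mul_assoc, (hao _ r'.2).eq]
        · simp only [show (-1 : ℤˣ) ≠ 1 by decide, if_false, Prod.mk_mul_mk, neg_mul_neg, mul_one,
            if_true, Subgroup.coe_mul]
          rw [show (r : G) * a * ((r' : G) * a) = (r : G) * ((a * r') * a) by group, (hao _ r'.2).eq,
            mul_assoc (r' : G), ha, mul_one] }
  let l : O × ℤˣ →* ℂ :=
    { toFun := fun q => ((q.2 : ℤ) : ℂ)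
      map_one' := by simp
      map_mul' := fun q q' => by simp }
  have hres := Char.IsCharacter.comp_hom hχ f
  obtain ⟨m, hm⟩ := Char.IsCharacter.classInner_nat hres Char.isCharacter_one
  obtain ⟨k, hk⟩ := Char.IsCharacter.classInner_nat hres (Char.isCharacter_of_hom l)
  have hcard : (Nat.card (O × ℤˣ) : ℂ) = 2 * Nat.card O := by
    rw [Nat.card_prod, show Nat.card ℤˣ = 2 by simp]
    push_cast; ring
  have h1 := Char.card_mul_classInner (χ ∘ f) (1 : O × ℤˣ → ℂ)
  have h2 := Char.card_mul_classInner (χ ∘ f) (l : O × ℤˣ → ℂ)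
  rw [hcard] at h1 h2
  erw [hm] at h1
  erw [hk] at h2
  have e1 : ∀ r : O, f (r, 1) = r := fun r => by simp [f]
  have e2 : ∀ r : O, f (r, -1) = a * r := fun r => by
    simp [f, show (-1 : ℤˣ) ≠ 1 by decide, (hao _ r.2).eq]
  have hU : ∀ g : ℤˣ → ℂ, ∑ u : ℤˣ, g u = g 1 + g (-1) := fun g => by
    rw [show (Finset.univ : Finset ℤˣ) = {1, -1} by decide, Finset.sum_pair (by decide)]
  refine ⟨m, k, ?_, ?_⟩
  · rw [h1, Fintype.sum_prod_type, ← Finset.sum_add_distrib]
    exact Finset.sum_congr rfl fun r _ => by rw [hU]; simp [e1, e2]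
  · rw [h2, Fintype.sum_prod_type, ← Finset.sum_sub_distrib]
    exact Finset.sum_congr rfl fun r _ => by rw [hU]; simp [e1, e2, l, sub_eq_add_neg]

/-- A real character value at an element of order dividing four is an integer. -/
theorem exists_int_of_pow_four {χ : G → ℂ} (hχ : IsCharacter G χ) {g : G} (hg : g ^ 4 = 1)
    (hr : χ g⁻¹ = χ g) : ∃ v : ℤ, χ g = v := by
  obtain ⟨n, ρ, rfl⟩ := hχ
  obtain ⟨b, μ, hμ, hroot⟩ := Char.exists_eigenbasis ρ g
  have hv := Char.character_eq_sum_eigenvalues ρ g b μ hμ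
  have he : ∀ i, ∃ e : ℤ, μ i + conj (μ i) = 2 * (e : ℂ) := fun i => by
    obtain ⟨k, hk⟩ := orderOf_dvd_of_pow_eq_one hg
    have h4 : (μ i * μ i) * (μ i * μ i) = 1 := by
      rw [show (μ i * μ i) * (μ i * μ i) = μ i ^ 4 by ring, hk, pow_mul, hroot, one_pow]
    rcases mul_self_eq_one_iff.1 h4 with e | e
    · rcases mul_self_eq_one_iff.1 e with e | e
      · exact ⟨1, by rw [e]; norm_num⟩
      · exact ⟨-1, by rw [e]; norm_num⟩
    · refine ⟨0, ?_⟩
      have h : (μ i - Complex.I) * (μ i + Complex.I) = 0 := by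
        linear_combination e - Complex.I_mul_I
      rcases mul_eq_zero.1 h with e | e
      · rw [sub_eq_zero.1 e]; simp
      · rw [eq_neg_of_add_eq_zero_left e]; simp
  choose e he using he
  refine ⟨∑ i, e i, ?_⟩
  rw [Char.IsCharacter.apply_inv (Char.isCharacter_character ρ)] at hr
  have h2 : ρ.character g + conj (ρ.character g) = 2 * ((∑ i, e i : ℤ) : ℂ) := by
    rw [hv, map_sum, ← Finset.sum_add_distrib, Int.cast_sum, Finset.mul_sum]
    exact Finset.sum_congr rfl fun i _ => he i
  rw [hr] at h2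
  linear_combination h2 / 2

end Cfsg.Agent.Goldschmidt.ThreeInv
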