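import Cfsg.Agent.Lib.Goldschmidt.ThreeInv.BlockTools
import Cfsg.Agent.Lib.Transfer.Residual
import Cfsg.Prelude.Def_Involutions

/-!
# Three involutions, `C(a) = O S` : columns of the principal block (owner: helper38)

* `FOne` : the hypotheses
* `apply_shift` : principal characters are constant on `s O` for `s ∈ S#`
* `colSum_self`, `colSum_roots`, `sum_roots_zero` : the equations of the columns at `a` and its roots
-/

set_option autoImplicit false
set_option linter.unusedSectionVars false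

open scoped ComplexConjugate

namespace Cfsg.Agent.Goldschmidt.ThreeInv

open Cfsg Blocks SecondMain

universe u

variable {G : Type u} [Group G]

/-- The centralizer of the involution `a` is `O S` with `O` odd, `S` as in `U3(4)`. -/
structure FOne (S : Sylow 2 G) (a : G) (O : Subgroup G) : Prop where
  card_S : Nat.card ↥(S : Subgroup G) = 64
  mem : a ∈ (S : Subgroup G)
  sq : a * a = 1
  ne : a ≠ 1
  odd_O : Odd (Nat.card O)
  le_C : O ≤ Subgroup.centralizer ({a} : Set G)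
  normal_O : ∀ g ∈ Subgroup.centralizer ({a} : Set G), ∀ ρ ∈ O, g * ρ * g⁻¹ ∈ O
  factor : ∀ g ∈ Subgroup.centralizer ({a} : Set G), ∃ ρ ∈ O, ∃ s ∈ (S : Subgroup G), g = ρ * s
  central : ∀ s ∈ (S : Subgroup G), s * s = 1 → ∀ t ∈ (S : Subgroup G), Commute s t
  fused : ∀ z ∈ (S : Subgroup G), z * z = 1 → z ≠ 1 →
    ∃ g : G, (∀ s ∈ (S : Subgroup G), g * s * g⁻¹ ∈ (S : Subgroup G)) ∧ g * a * g⁻¹ = z
  exp : ∀ s ∈ (S : Subgroup G), (s * s) * (s * s) = 1
  card_invol : Nat.card {s : ↥(S : Subgroup G) // (s : G) * s = 1} = 4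
  card_roots : Nat.card {s : ↥(S : Subgroup G) // (s : G) * s = a} = 20
  class_roots : ∀ s : ↥(S : Subgroup G), (s : G) * s = a →
    Nat.card {t : ↥(S : Subgroup G) // IsConj s t} = 4
  inv_roots : ∀ s ∈ (S : Subgroup G), s * s = a → ∃ t ∈ (S : Subgroup G), t * s * t⁻¹ = s⁻¹

namespace FOne

variable [Finite G] {S : Sylow 2 G} {a : G} {O : Subgroup G} {M : Ideal AlgInt}

theorem S_le (h : FOne S a O) : (S : Subgroup G) ≤ Subgroup.centralizer ({a} : Set G) := fun _ ht =>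
  Subgroup.mem_centralizer_singleton_iff.2 (h.central a h.mem h.sq _ ht).eq.symm

theorem commute_of_mem (h : FOne S a O) {g : G} (hg : g ∈ O) : Commute a g :=
  (Subgroup.mem_centralizer_singleton_iff.1 (h.le_C hg)).symm

theorem disjoint (h : FOne S a O) {g : G} (hO : g ∈ O) (hS : g ∈ (S : Subgroup G)) : g = 1 := by
  have h1 := Subgroup.orderOf_dvd_natCard _ hO
  have h2 : orderOf g ∣ 64 := h.card_S ▸ Subgroup.orderOf_dvd_natCard _ hS
  refine orderOf_eq_one_iff.1 (Nat.eq_one_of_dvd_coprimes ?_ h1 h2)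
  rw [show 64 = 2 ^ 6 by norm_num]
  exact (Nat.coprime_two_right.2 h.odd_O).pow_right 6

theorem factor_unique (h : FOne S a O) {ρ ρ' s s' : G} (hρ : ρ ∈ O) (hρ' : ρ' ∈ O)
    (hs : s ∈ (S : Subgroup G)) (hs' : s' ∈ (S : Subgroup G)) (e : ρ * s = ρ' * s') : s = s' := by
  have e2 : s' * s⁻¹ = ρ'⁻¹ * ρ := by
    rw [eq_inv_mul_iff_mul_eq, ← mul_assoc, ← e, mul_inv_cancel_right]
  exact (mul_inv_eq_one.1 (h.disjoint (e2 ▸ O.mul_mem (O.inv_mem hρ') hρ)
    (Subgroup.mul_mem _ hs' (Subgroup.inv_mem _ hs)))).symm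

/-- The projection of `C(a)` on `S`. -/
noncomputable def proj (h : FOne S a O) :
    ↥(Subgroup.centralizer ({a} : Set G)) →* ↥(S : Subgroup G) :=
  MonoidHom.mk' (fun g => ⟨_, (h.factor g g.2).choose_spec.2.choose_spec.1⟩) fun g k => by
    obtain ⟨h1, h23⟩ := (h.factor g g.2).choose_spec
    obtain ⟨k1, k23⟩ := (h.factor k k.2).choose_spec
    obtain ⟨m1, m23⟩ := (h.factor (g * k : ↥(Subgroup.centralizer ({a} : Set G))) (g * k).2).choose_spec
    obtain ⟨h2, h3⟩ := h23.choose_spec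
    obtain ⟨k2, k3⟩ := k23.choose_spec
    obtain ⟨m2, m3⟩ := m23.choose_spec
    refine Subtype.ext ?_
    set ρ := (h.factor g g.2).choose
    set s := (h.factor g g.2).choose_spec.2.choose
    set ρ' := (h.factor k k.2).choose
    set s' := (h.factor k k.2).choose_spec.2.choose
    refine h.factor_unique m1 (O.mul_mem h1 (h.normal_O s (h.S_le h2) ρ' k1)) m2
      (Subgroup.mul_mem _ h2 k2) ?_
    rw [← m3, Subgroup.coe_mul]
    refine (congrArg₂ (· * ·) h3 k3).trans ?_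
    show ρ * s * (ρ' * s') = ρ * (s * ρ' * s⁻¹) * (s * s')
    group

theorem proj_spec (h : FOne S a O) (g : ↥(Subgroup.centralizer ({a} : Set G))) :
    ∃ ρ ∈ O, (g : G) = ρ * h.proj g :=
  ⟨_, (h.factor g g.2).choose_spec.1, (h.factor g g.2).choose_spec.2.choose_spec.2⟩

theorem proj_eq (h : FOne S a O) (g : ↥(Subgroup.centralizer ({a} : Set G))) {ρ s : G} (hρ : ρ ∈ O)
    (hs : s ∈ (S : Subgroup G)) (e : (g : G) = ρ * s) : (h.proj g : G) = s := by
  obtain ⟨ρ', hρ', e'⟩ := h.proj_spec g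
  exact h.factor_unique hρ' hρ (h.proj g).2 hs (e'.symm.trans e)

theorem proj_of_mem (h : FOne S a O) {g : G} (hg : g ∈ Subgroup.centralizer ({a} : Set G))
    (hS : g ∈ (S : Subgroup G)) : (h.proj ⟨g, hg⟩ : G) = g :=
  h.proj_eq _ O.one_mem hS (one_mul g).symm

theorem proj_eq_one_iff (h : FOne S a O) (g : ↥(Subgroup.centralizer ({a} : Set G))) :
    h.proj g = 1 ↔ (g : G) ∈ O := by
  constructor
  · intro e
    obtain ⟨ρ, hρ, e'⟩ := h.proj_spec g
    rw [e', e, Subgroup.coe_one, mul_one]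
    exact hρ
  · exact fun hg => Subtype.ext (h.proj_eq g hg (Subgroup.one_mem _) (mul_one _).symm)

theorem mem_O_of_odd (h : FOne S a O) {g : G} (hg : g ∈ Subgroup.centralizer ({a} : Set G))
    (ho : ¬ 2 ∣ orderOf g) : g ∈ O := by
  refine (h.proj_eq_one_iff ⟨g, hg⟩).1 (orderOf_eq_one_iff.1 ?_)
  have h1 : orderOf (h.proj ⟨g, hg⟩) ∣ orderOf g := by
    have := orderOf_map_dvd h.proj ⟨g, hg⟩
    rwa [← Subgroup.orderOf_coe ⟨g, hg⟩] at this
  have h2 : orderOf (h.proj ⟨g, hg⟩) ∣ 64 := h.card_S ▸ orderOf_dvd_natCard _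
  refine Nat.eq_one_of_dvd_coprimes ?_ h1 h2
  rw [show 64 = 2 ^ 6 by norm_num]
  exact ((Nat.prime_two.coprime_iff_not_dvd).2 ho).symm.pow_right 6

theorem not_two_dvd_of_mem (h : FOne S a O) {g : G} (hg : g ∈ O) : ¬ 2 ∣ orderOf g := fun e =>
  Nat.not_even_iff_odd.2 h.odd_O (even_iff_two_dvd.2 (e.trans (Subgroup.orderOf_dvd_natCard _ hg)))

theorem exists_pow (_h : FOne S a O) {s : G} (hs : s ∈ (S : Subgroup G)) :
    ∃ k, orderOf s = 2 ^ k := by
  obtain ⟨k, hk⟩ := IsPGroup.iff_orderOf.1 S.2 ⟨s, hs⟩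
  exact ⟨k, by rwa [← Subgroup.orderOf_coe] at hk⟩

theorem hasNormalPComplement_C (h : FOne S a O) :
    HasNormalPComplement 2 ↥(Subgroup.centralizer ({a} : Set G)) := by
  have hsur : Function.Surjective h.proj := fun s => ⟨⟨s, h.S_le s.2⟩, Subtype.ext (h.proj_of_mem _ s.2)⟩
  refine ⟨S.subtype h.S_le, h.proj.ker, MonoidHom.normal_ker _, ?_⟩
  have hcard := h.proj.ker.card_mul_index
  rw [Subgroup.index_ker, MonoidHom.range_eq_top.2 hsur, Subgroup.card_top] at hcard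
  refine Subgroup.isComplement'_of_disjoint_and_mul_eq_univ ?_ (Set.eq_univ_of_forall fun g => ?_)
  · rw [disjoint_iff, eq_bot_iff]
    rintro g ⟨h1, h2⟩
    exact Subgroup.mem_bot.2 (Subtype.ext (h.disjoint ((h.proj_eq_one_iff g).1 h1) h2))
  · obtain ⟨ρ, hρ, e⟩ := h.proj_spec g
    exact ⟨⟨ρ, h.le_C hρ⟩, (h.proj_eq_one_iff _).2 hρ, ⟨_, h.S_le (h.proj g).2⟩, (h.proj g).2,
      Subtype.ext e.symm⟩

theorem hasNormalPComplement_cent (h : FOne S a O) {s : G} (hs : s ∈ (S : Subgroup G)) (hne : s ≠ 1) :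
    HasNormalPComplement 2 ↥(Subgroup.centralizer ({s} : Set G)) := by
  obtain ⟨z, hz, hz1, hzne, hcz⟩ : ∃ z ∈ (S : Subgroup G), z * z = 1 ∧ z ≠ 1 ∧
      ∀ g, Commute g s → Commute g z := by
    by_cases h2 : s * s = 1
    · exact ⟨s, hs, h2, hne, fun g hg => hg⟩
    · exact ⟨s * s, Subgroup.mul_mem _ hs hs, h.exp s hs, h2, fun g hg => hg.mul_right hg⟩
  obtain ⟨c, -, hc⟩ := h.fused z hz hz1 hzne
  have hmem : ∀ g ∈ Subgroup.centralizer ({s} : Set G),
      c⁻¹ * g * c ∈ Subgroup.centralizer ({a} : Set G) := fun g hg => by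
    have e := hcz g (Subgroup.mem_centralizer_singleton_iff.1 hg)
    rw [Subgroup.mem_centralizer_singleton_iff]
    calc c⁻¹ * g * c * a = c⁻¹ * (g * (c * a * c⁻¹)) * c := by group
      _ = c⁻¹ * ((c * a * c⁻¹) * g) * c := by rw [hc, e.eq]
      _ = a * (c⁻¹ * g * c) := by group
  refine Transfer.hasNormalPComplement_of_injective h.hasNormalPComplement_C
    (MonoidHom.mk' (fun g : ↥(Subgroup.centralizer ({s} : Set G)) =>
      (⟨_, hmem g g.2⟩ : ↥(Subgroup.centralizer ({a} : Set G)))) fun g k => Subtype.ext ?_) fun g k e => ?_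
  · simp only [Subgroup.coe_mul]; group
  · have e' : c⁻¹ * (g : G) * c = c⁻¹ * k * c := congrArg Subtype.val e
    exact Subtype.ext (mul_left_cancel (mul_right_cancel e'))

theorem exists_conj_proj (h : FOne S a O) (t : ↥(Subgroup.centralizer ({a} : Set G)))
    (ht : ∃ k, orderOf (t : G) = 2 ^ k) : ∃ ρ ∈ O, (t : G) = ρ * h.proj t * ρ⁻¹ := by
  obtain ⟨k, hk⟩ := ht
  obtain ⟨Q, hQ⟩ := (IsPGroup.of_card (n := k) (p := 2)
    (G := Subgroup.zpowers t) (by rw [Nat.card_zpowers, ← Subgroup.orderOf_coe, hk])).exists_le_sylow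
  obtain ⟨g, rfl⟩ := MulAction.exists_smul_eq ↥(Subgroup.centralizer ({a} : Set G)) (S.subtype h.S_le) Q
  have hm : ((g⁻¹ * t * g : ↥(Subgroup.centralizer ({a} : Set G))) : G) ∈ (S : Subgroup G) := by
    have := hQ (Subgroup.mem_zpowers t)
    rw [Sylow.coe_subgroup_smul, Subgroup.mem_pointwise_smul_iff_inv_smul_mem, ← map_inv,
      MulAut.smul_def, MulAut.conj_apply, inv_inv, Sylow.coe_subtype, Subgroup.mem_subgroupOf] at this
    exact this
  obtain ⟨ρ, hρ, e⟩ := h.proj_spec g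
  refine ⟨ρ, hρ, ?_⟩
  set w : G := ((g⁻¹ * t * g : ↥(Subgroup.centralizer ({a} : Set G))) : G) with hw
  have hp : (h.proj t : G) = (h.proj g : G) * w * (h.proj g : G)⁻¹ := by
    have := congrArg (fun x => (h.proj x : G)) (show t = g * (g⁻¹ * t * g) * g⁻¹ by group)
    rw [this, map_mul, map_mul, map_inv, Subgroup.coe_mul, Subgroup.coe_mul, Subgroup.coe_inv,
      h.proj_of_mem (g⁻¹ * t * g).2 hm]
  rw [hp, hw, Subgroup.coe_mul, Subgroup.coe_mul, Subgroup.coe_inv, e]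
  group

/-- Principal characters are constant on `s O` for `s ∈ S#`. -/
theorem apply_shift (h : FOne S a O) (hM : IsPModular 2 M) {χ : IrrCharacter G}
    (hχ : χ ∈ principalBlock M G) {s ρ : G} (hs : s ∈ (S : Subgroup G)) (hne : s ≠ 1) (hρ : ρ ∈ O) :
    (χ : G → ℂ) (s * ρ) = (χ : G → ℂ) s := by
  have : Fact (Nat.Prime 2) := ⟨Nat.prime_two⟩
  have hC := Subgroup.mul_mem _ (h.S_le hs) (h.le_C hρ)
  obtain ⟨t, y, hxy, ht, hy, htk, hyc⟩ := Transfer.exists_pPart_mul (p := 2) (s * ρ)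
  have htC := (Subgroup.zpowers_le.2 hC) ht
  have hyC := (Subgroup.zpowers_le.2 hC) hy
  have hcomm : Commute t y := by
    obtain ⟨i, rfl⟩ := Subgroup.mem_zpowers_iff.mp ht
    obtain ⟨j, rfl⟩ := Subgroup.mem_zpowers_iff.mp hy
    exact (Commute.refl _).zpow_zpow i j
  have hyO := h.mem_O_of_odd hyC (Nat.prime_two.coprime_iff_not_dvd.1 hyc.symm)
  obtain ⟨r, hr, et⟩ := h.exists_conj_proj ⟨t, htC⟩ htk
  have hps : (h.proj ⟨t, htC⟩ : G) = s := by
    have e1 : (h.proj ⟨t, htC⟩ : G) = h.proj ⟨s * ρ, hC⟩ := by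
      rw [show (⟨s * ρ, hC⟩ : ↥(Subgroup.centralizer ({a} : Set G))) = ⟨t, htC⟩ * ⟨y, hyC⟩ from
        Subtype.ext hxy, map_mul, (h.proj_eq_one_iff ⟨y, hyC⟩).2 hyO, mul_one]
    rw [e1]
    refine h.proj_eq _ (h.normal_O s (h.S_le hs) ρ hρ) hs ?_
    group
  rw [show ((⟨t, htC⟩ : ↥(Subgroup.centralizer ({a} : Set G))) : G) = t from rfl, hps] at et
  subst et
  have hc : Commute s (r⁻¹ * y * r) := by
    have := hcomm.map (MulAut.conj r⁻¹).toMonoidHom
    simp only [MulEquiv.coe_toMonoidHom, MulAut.conj_apply, inv_inv] at this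
    rwa [show r⁻¹ * (r * s * r⁻¹) * r = s by group] at this
  have hodd : ¬ 2 ∣ orderOf (r⁻¹ * y * r) :=
    h.not_two_dvd_of_mem (O.mul_mem (O.mul_mem (O.inv_mem hr) hyO) hr)
  have e := apply_shift_principal (p := 2) hM (h.exists_pow hs)
    (H := Subgroup.centralizer ({s} : Set G)) (fun _ => commute_iff_mem_centralizer_singleton)
    (h.hasNormalPComplement_cent hs hne) hχ
    (s := ⟨r⁻¹ * y * r, commute_iff_mem_centralizer_singleton.2 hc⟩)
    (by rwa [← Subgroup.orderOf_coe])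
  rw [hxy, show r * s * r⁻¹ * y = r * (s * (r⁻¹ * y * r)) * r⁻¹ by group, irr_class χ, e]

open scoped Classical in
/-- The squares of the principal values at `s ∈ S#` fixing `a` sum to `|C_S(s)|`. -/
theorem colSum_self (h : FOne S a O) (hM : IsPModular 2 M) {s : G} (hs : s ∈ (S : Subgroup G))
    (hne : s ≠ 1) (hsa : Subgroup.centralizer ({s} : Set G) ≤ Subgroup.centralizer ({a} : Set G)) :
    colSum (principalBlock M G) s s =
      (Nat.card {t : ↥(S : Subgroup G) // Commute s (t : G)} : ℂ) := by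
  have : Fact (Nat.Prime 2) := ⟨Nat.prime_two⟩
  set H := Subgroup.centralizer ({s} : Set G)
  have := Fintype.ofFinite H
  have hH : ∀ g, g ∈ H ↔ Commute s g := fun _ => commute_iff_mem_centralizer_singleton
  have e := sum_sq_principal_of_complement hM (h.exists_pow hs) hH (h.hasNormalPComplement_cent hs hne)
  set R := {c : H // ¬ 2 ∣ orderOf c}
  set T := {t : ↥(S : Subgroup G) // Commute s (t : G)}
  have hR : ∀ r : R, (r.1 : G) ∈ O := fun r =>
    h.mem_O_of_odd (hsa r.1.2) (by rw [Subgroup.orderOf_coe]; exact r.2)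
  have hps : h.proj ⟨s, h.S_le hs⟩ = ⟨s, hs⟩ := Subtype.ext (h.proj_of_mem _ hs)
  have hbij : Function.Bijective (fun q : R × T =>
      (⟨(q.1.1 : G) * (q.2.1 : G), H.mul_mem q.1.1.2 ((hH _).2 q.2.2)⟩ : H)) := by
    constructor
    · rintro ⟨r, t⟩ ⟨r', t'⟩ e'
      have e'' : (r.1 : G) * (t.1 : G) = r'.1 * t'.1 := congrArg Subtype.val e'
      have et := h.factor_unique (hR r) (hR r') t.1.2 t'.1.2 e''
      rw [et] at e''
      exact Prod.ext (Subtype.ext (Subtype.ext (mul_right_cancel e''))) (Subtype.ext (Subtype.ext et))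
    · intro g
      obtain ⟨ρ, hρ, eg⟩ := h.proj_spec ⟨g, hsa g.2⟩
      have hc : Commute s (h.proj ⟨g, hsa g.2⟩ : G) := by
        have e1 : Commute (⟨s, h.S_le hs⟩ : ↥(Subgroup.centralizer ({a} : Set G))) ⟨g, hsa g.2⟩ :=
          Subtype.ext ((hH g).1 g.2).eq
        have := (e1.map h.proj).map (S : Subgroup G).subtype
        rwa [hps] at this
      have hρH : ρ ∈ H := by
        rw [show ρ = (g : G) * (h.proj ⟨g, hsa g.2⟩ : G)⁻¹ by rw [eq_mul_inv_iff_mul_eq]; exact eg.symm]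
        exact H.mul_mem g.2 (H.inv_mem ((hH _).2 hc))
      refine ⟨⟨⟨⟨ρ, hρH⟩, ?_⟩, ⟨_, hc⟩⟩, Subtype.ext eg.symm⟩
      rw [← Subgroup.orderOf_coe]
      exact h.not_two_dvd_of_mem hρ
  have hcard := Nat.card_eq_of_bijective _ hbij
  rw [Nat.card_prod] at hcard
  rw [← Fintype.card_subtype, ← Nat.card_eq_fintype_card, ← hcard, Nat.cast_mul] at e
  have : Nonempty R := ⟨⟨1, by simp⟩⟩
  exact mul_left_cancel₀ (Nat.cast_ne_zero.2 Nat.card_pos.ne') e

theorem colSum_a (h : FOne S a O) (hM : IsPModular 2 M) :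
    colSum (principalBlock M G) a a = 64 := by
  rw [h.colSum_self hM h.mem h.ne le_rfl]
  have : Nat.card {t : ↥(S : Subgroup G) // Commute a (t : G)} = 64 :=
    h.card_S ▸ Nat.card_congr (Equiv.subtypeUnivEquiv fun t => h.central a h.mem h.sq _ t.2)
  rw [this]
  norm_num

theorem root_ne_one (h : FOne S a O) {s : G} (e : s * s = a) : s ≠ 1 := fun e1 =>
  h.ne (by rw [← e, e1, one_mul])

omit [Finite G] in
theorem mem_C_of_commute_root {s g : G} (e : s * s = a) (hg : Commute s g) :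
    g ∈ Subgroup.centralizer ({a} : Set G) :=
  Subgroup.mem_centralizer_singleton_iff.2 (e ▸ hg.symm.mul_right hg.symm).eq

theorem colSum_root_self (h : FOne S a O) (hM : IsPModular 2 M) {s : ↥(S : Subgroup G)}
    (e : (s : G) * s = a) : colSum (principalBlock M G) (s : G) s = 16 := by
  rw [h.colSum_self hM s.2 (h.root_ne_one e) fun g hg =>
    mem_C_of_commute_root e (commute_iff_mem_centralizer_singleton.1 hg)]
  have h1 := ClassCount.card_class_mul_card_centralizer s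
  rw [h.card_S, h.class_roots s e] at h1
  have h2 : Nat.card {t : ↥(S : Subgroup G) // Commute (s : G) (t : G)} = 16 := by
    rw [← Nat.card_congr (Equiv.subtypeEquivRight fun t => ?_), show Nat.card
      ↥(Subgroup.centralizer ({s} : Set ↥(S : Subgroup G))) = 16 by omega]
    rw [Subgroup.mem_centralizer_singleton_iff]
    exact ⟨fun e' => (congrArg Subtype.val e').symm, fun e' => Subtype.ext e'.eq.symm⟩
  rw [h2]
  norm_num

/-- Roots of `a` conjugate in `G` are conjugate in `S`. -/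
theorem isConj_roots (h : FOne S a O) {s t : ↥(S : Subgroup G)} (hs : (s : G) * s = a)
    (ht : (t : G) * t = a) (e : IsConj (s : G) t) : IsConj s t := by
  obtain ⟨c, hc⟩ := isConj_iff.1 e
  have hcC : c ∈ Subgroup.centralizer ({a} : Set G) := by
    rw [Subgroup.mem_centralizer_singleton_iff]
    have : c * a * c⁻¹ = a := by
      conv_rhs => rw [← ht, ← hc]
      rw [← hs]; group
    exact mul_inv_eq_iff_eq_mul.1 this
  refine isConj_iff.2 ⟨h.proj ⟨c, hcC⟩, Subtype.ext ?_⟩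
  have := congrArg (fun x => (h.proj x : G)) (show (⟨c, hcC⟩ : ↥(Subgroup.centralizer ({a} : Set G))) *
    ⟨s, h.S_le s.2⟩ * ⟨c, hcC⟩⁻¹ = ⟨t, h.S_le t.2⟩ from Subtype.ext hc)
  simpa only [map_mul, map_inv, Subgroup.coe_mul, Subgroup.coe_inv, h.proj_of_mem _ s.2,
    h.proj_of_mem _ t.2] using this

theorem colSum_roots (h : FOne S a O) (hM : IsPModular 2 M) {s t : ↥(S : Subgroup G)}
    (hs : (s : G) * s = a) (ht : (t : G) * t = a) [Decidable (IsConj s t)] :
    colSum (principalBlock M G) (s : G) t = if IsConj s t then 16 else 0 := by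
  split_ifs with e
  · obtain ⟨c, hc⟩ := isConj_iff.1 e
    rw [← h.colSum_root_self hM hs]
    simp only [colSum]
    refine finsum_mem_congr rfl fun χ _ => ?_
    rw [← hc, Subgroup.coe_mul, Subgroup.coe_mul, Subgroup.coe_inv, irr_class χ]
  · have h1 : ¬ 2 ∣ orderOf (1 : G) := by simp
    have := colSum_eq_zero hM BrauerPairs.isPBlock_principal (h.exists_pow s.2) (h.exists_pow t.2)
      h1 h1 (Commute.one_right _) (Commute.one_right _) fun e' => e (h.isConj_roots hs ht e')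
    simpa using this

theorem isConj_inv_root (h : FOne S a O) {s : G} (hs : s ∈ (S : Subgroup G)) (e : s * s = a) :
    IsConj s s⁻¹ :=
  let ⟨t, _, ht⟩ := h.inv_roots s hs e
  isConj_iff.2 ⟨t, ht⟩

/-- The count of pairs of conjugates of `a` gives no contribution at a root of `a`. -/
theorem sum_root_eq_zero (h : FOne S a O) (hM : IsPModular 2 M) {s : G} (hs : s ∈ (S : Subgroup G))
    (e : s * s = a) :
    ∑ᶠ χ ∈ principalBlock M G, (χ : G → ℂ) a ^ 2 / (χ : G → ℂ) 1 * (χ : G → ℂ) s = 0 := by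
  refine sum_block_sq_div_eq_zero hM BrauerPairs.isPBlock_principal (h.exists_pow hs)
    fun c hc ho g k hg hk hgk => ?_
  have hcC := mem_C_of_commute_root e hc
  have hcO := h.mem_O_of_odd hcC ho
  have hinv : ∀ {x : G}, IsConj a x → x * x = 1 := fun {x} hx => by
    obtain ⟨d, rfl⟩ := isConj_iff.1 hx
    calc d * a * d⁻¹ * (d * a * d⁻¹) = d * (a * a) * d⁻¹ := by group
      _ = 1 := by rw [h.sq]; group
  have hgi : g⁻¹ = g := inv_eq_of_mul_eq_one_right (hinv hg)
  have hki : k⁻¹ = k := inv_eq_of_mul_eq_one_right (hinv hk)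
  -- `g` inverts `s c`, hence its `2`-part `s`
  have hx : g * (s * c) * g⁻¹ = (s * c)⁻¹ := by
    rw [show s * c = (g * k)⁻¹ by rw [hgk, inv_inv], inv_inv, mul_inv_rev, hki, hgi]
    calc g * (k * g) * g = g * k * (g * g) := by group
      _ = g * k := by rw [hinv hg, mul_one]
  obtain ⟨m, hm⟩ := h.odd_O
  have hcn : c ^ Nat.card O = 1 := orderOf_dvd_iff_pow_eq_one.1 (Subgroup.orderOf_dvd_natCard _ hcO)
  have hgn : g * s ^ Nat.card O * g⁻¹ = (s ^ Nat.card O)⁻¹ := by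
    have := congrArg (· ^ Nat.card O) hx
    simpa only [conj_pow, inv_pow, hc.mul_pow, hcn, mul_one] using this
  have hga : g * a * g⁻¹ = a := by
    have h4 : s ^ 4 = 1 := by rw [show 4 = 2 * 2 from rfl, pow_mul, pow_two s, e, pow_two, h.sq]
    have e2 : (s ^ Nat.card O) ^ 2 = a := by
      rw [← pow_mul, show Nat.card O * 2 = 4 * m + 2 by omega, pow_add, pow_mul, h4, one_pow, one_mul,
        pow_two, e]
    have := congrArg (· ^ 2) hgn
    rw [conj_pow, inv_pow, e2] at this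
    rw [this]
    exact inv_eq_of_mul_eq_one_right h.sq
  have hgC : g ∈ Subgroup.centralizer ({a} : Set G) :=
    Subgroup.mem_centralizer_singleton_iff.2 (mul_inv_eq_iff_eq_mul.1 hga)
  set π := h.proj
  have hπc : π ⟨c, hcC⟩ = 1 := (h.proj_eq_one_iff ⟨c, hcC⟩).2 hcO
  have hπ := congrArg π (show (⟨g, hgC⟩ : ↥(Subgroup.centralizer ({a} : Set G))) *
    (⟨s, h.S_le hs⟩ * ⟨c, hcC⟩) * ⟨g, hgC⟩⁻¹ = (⟨s, h.S_le hs⟩ * ⟨c, hcC⟩)⁻¹ from Subtype.ext hx)
  simp only [map_mul, map_inv, hπc, mul_one] at hπ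
  have hπg : π ⟨g, hgC⟩ * π ⟨g, hgC⟩ = 1 := by
    rw [← map_mul, show (⟨g, hgC⟩ : ↥(Subgroup.centralizer ({a} : Set G))) * ⟨g, hgC⟩ = 1 from
      Subtype.ext (hinv hg), map_one]
  have hcomm := h.central _ (π ⟨g, hgC⟩).2 (by rw [← Subgroup.coe_mul, hπg, Subgroup.coe_one]) _
    (π ⟨s, h.S_le hs⟩).2
  have e3 := congrArg Subtype.val hπ
  rw [Subgroup.coe_mul, Subgroup.coe_mul, Subgroup.coe_inv, Subgroup.coe_inv, hcomm.eq,
    mul_inv_cancel_right, h.proj_of_mem _ hs] at e3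
  exact h.ne (by rw [← e]; nth_rw 2 [e3]; exact mul_inv_cancel s)

end FOne

end Cfsg.Agent.Goldschmidt.ThreeInv
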